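import Cfsg.Prelude.Def_Sporadic_a
set_option linter.all false

set_option autoImplicit false
open Cfsg

namespace Cfsg.Agent.SporadicA.GolayCount

/-- bit position of a point: residue `k` is bit `k`, the extra point is bit 23 -/
def pos : GolayPt → ℕ
  | none => 23
  | some x => x.val

theorem pos_lt (p : GolayPt) : pos p < 24 := by
  cases p with
  | none => decide
  | some x => exact lt_trans (ZMod.val_lt x) (by norm_num)

theorem exists_pos (i : ℕ) (hi : i < 24) : ∃ p, pos p = i := by
  rcases Nat.lt_or_ge i 23 with h | h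
  · exact ⟨some (i : ZMod 23), ZMod.val_natCast_of_lt h⟩
  · exact ⟨none, by show 23 = i; omega⟩

/-- the word whose support is the set of points where the bit is set -/
def word (m : ℕ) : GolayPt → ZMod 2 := fun p => if m.testBit (pos p) then 1 else 0

theorem word_xor (a b : ℕ) : word (a ^^^ b) = word a + word b := by
  funext p
  simp only [word, Pi.add_apply, Nat.testBit_xor]
  cases a.testBit (pos p) <;> cases b.testBit (pos p) <;> decide

theorem word_zero : word 0 = 0 := by
  funext p
  simp [word]

/-- all xor-combinations of a list of masks -/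
def gen : List ℕ → List ℕ
  | [] => [0]
  | b :: bs => gen bs ++ (gen bs).map (fun x => b ^^^ x)

theorem mem_span_iff (bs : List ℕ) (w : GolayPt → ZMod 2) :
    w ∈ Submodule.span (ZMod 2) (word '' {m | m ∈ bs}) ↔ ∃ m ∈ gen bs, word m = w := by
  induction bs generalizing w with
  | nil =>
    simp [gen, word_zero, eq_comm]
  | cons b bs ih =>
    have : word '' {m | m ∈ b :: bs} = insert (word b) (word '' {m | m ∈ bs}) := by
      ext v
      simp only [Set.mem_image, Set.mem_ofPred_eq, List.mem_cons, Set.mem_insert_iff]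
      constructor
      · rintro ⟨m, rfl | hm, rfl⟩
        · exact Or.inl rfl
        · exact Or.inr ⟨m, hm, rfl⟩
      · rintro (rfl | ⟨m, hm, rfl⟩)
        · exact ⟨b, Or.inl rfl, rfl⟩
        · exact ⟨m, Or.inr hm, rfl⟩
    rw [this, Submodule.mem_span_insert]
    simp only [gen, List.mem_append, List.mem_map]
    constructor
    · rintro ⟨a, z, hz, rfl⟩
      obtain ⟨m, hm, rfl⟩ := (ih z).1 hz
      rcases (by revert a; decide : a = 0 ∨ a = 1) with rfl | rfl
      · exact ⟨m, Or.inl hm, by simp⟩
      · exact ⟨b ^^^ m, Or.inr ⟨m, hm, rfl⟩, by rw [word_xor, one_smul]⟩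
    · rintro ⟨m, hm | ⟨n, hn, rfl⟩, rfl⟩
      · exact ⟨0, word m, (ih _).2 ⟨m, hm, rfl⟩, by simp⟩
      · exact ⟨1, word n, (ih _).2 ⟨n, hn, rfl⟩, by rw [word_xor, one_smul]⟩

/-- the reduced echelon basis, highest pivot first -/
def basisMasks : List ℕ :=
  [8391797, 4196943, 2101096, 1050548, 525274, 262637, 133817, 69395, 36294, 18147, 10558, 5279]

/-- the mask of the `t`-th generator -/
def qrMask (t : ZMod 23) : ℕ :=
  [340831, 681662, 1363324, 2726648, 5453296, 2517985, 5035970, 1683333, 3366666, 6733332, 5078057,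
    1767507, 3535014, 7070028, 5751449, 3114291, 6228582, 4068557, 8137114, 7885621, 7382635,
    6376663, 4364719].getD t.val 0

theorem qrWord_eq : ∀ t : ZMod 23, ∀ p : GolayPt, qrWord t p = word (qrMask t) p := by
  decide +kernel

theorem one_eq : ∀ p : GolayPt, (1 : GolayPt → ZMod 2) p = word 16777215 p := by
  decide +kernel

theorem gens_mem : ∀ t : ZMod 23, qrMask t ∈ gen basisMasks := by
  decide +kernel

theorem one_mem : 16777215 ∈ gen basisMasks := by
  decide +kernel

/-- twelve of the generators that already span the code -/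
def genMasks : List ℕ :=
  [16777215, 340831, 681662, 1363324, 2726648, 5453296, 2517985, 5035970, 1683333, 3366666,
    6733332, 5078057]

theorem basis_mem : ∀ b ∈ basisMasks, b ∈ gen genMasks := by
  decide +kernel

theorem golayCode_eq : golayCode = Submodule.span (ZMod 2) (word '' {m | m ∈ basisMasks}) := by
  apply le_antisymm
  · refine Submodule.span_le.2 ?_
    rintro w (⟨t, rfl⟩ | hw)
    · exact (mem_span_iff _ _).2 ⟨qrMask t, gens_mem t, (funext (qrWord_eq t)).symm⟩
    · rw [Set.mem_singleton_iff] at hw
      subst hw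
      exact (mem_span_iff _ _).2 ⟨16777215, one_mem, (funext one_eq).symm⟩
  · refine Submodule.span_le.2 ?_
    rintro w ⟨b, hb, rfl⟩
    have h1 : word b ∈ Submodule.span (ZMod 2) (word '' {m | m ∈ genMasks}) :=
      (mem_span_iff _ _).2 ⟨b, basis_mem b hb, rfl⟩
    refine (Submodule.span_mono ?_ : _ ≤ golayCode) h1
    rintro v ⟨m, hm, rfl⟩
    have key : ∀ m ∈ genMasks, m = 16777215 ∨ ∃ t : ZMod 23, m = qrMask t := by
      decide +kernel
    rcases key m hm with rfl | ⟨t, rfl⟩
    · exact Or.inr (Set.mem_singleton_iff.2 (funext one_eq).symm)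
    · exact Or.inl ⟨t, funext (qrWord_eq t)⟩

theorem mem_golayCode_iff (w : GolayPt → ZMod 2) :
    w ∈ golayCode ↔ ∃ m ∈ gen basisMasks, word m = w := by
  rw [golayCode_eq]
  exact mem_span_iff _ _

/-- the point set of a mask -/
def pts (m : ℕ) : Finset GolayPt := support₂ (word m)

theorem mem_pts (m : ℕ) (p : GolayPt) : p ∈ pts m ↔ m.testBit (pos p) = true := by
  have h : p ∈ pts m ↔ word m p ≠ 0 := by simp [pts, support₂]
  rw [h, word]
  split_ifs with h1
  · simp [h1]
  · simp [h1]

theorem pts_inj {a b : ℕ} (ha : a < 2 ^ 24) (hb : b < 2 ^ 24) (h : pts a = pts b) : a = b := by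
  apply Nat.eq_of_testBit_eq
  intro i
  rcases Nat.lt_or_ge i 24 with hi | hi
  · obtain ⟨p, rfl⟩ := exists_pos i hi
    have := congrArg (fun s => p ∈ s) h
    simp only [mem_pts] at this
    exact Bool.eq_iff_iff.2 (iff_of_eq this)
  · rw [Nat.testBit_lt_two_pow (lt_of_lt_of_le ha (Nat.pow_le_pow_right (by norm_num) hi)),
      Nat.testBit_lt_two_pow (lt_of_lt_of_le hb (Nat.pow_le_pow_right (by norm_num) hi))]

/-- population count of a 24-bit mask -/
def popc (m : ℕ) : ℕ := (List.range 24).countP (fun i => m.testBit i)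

theorem pos_injective : Function.Injective pos := by decide +kernel

theorem card_pts (m : ℕ) : (pts m).card = popc m := by
  have h1 : (pts m).card = ((Finset.range 24).filter (fun i => m.testBit i = true)).card := by
    rw [← Finset.card_image_of_injective _ pos_injective]
    congr 1
    ext i
    simp only [Finset.mem_image, mem_pts, Finset.mem_filter, Finset.mem_range]
    constructor
    · rintro ⟨p, hp, rfl⟩
      exact ⟨pos_lt p, hp⟩
    · rintro ⟨hi, h⟩
      obtain ⟨p, rfl⟩ := exists_pos i hi
      exact ⟨p, h, rfl⟩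
  rw [h1, popc, List.countP_eq_length_filter,
    ← List.toFinset_card_of_nodup (List.Nodup.filter _ List.nodup_range)]
  congr 1
  ext i
  simp

/-- strictly increasing (checked in linear time) -/
def sortedB : List ℕ → Bool
  | [] => true
  | [_] => true
  | a :: b :: l => Nat.blt a b && sortedB (b :: l)

theorem sortedB_pairwise : ∀ l : List ℕ, sortedB l = true → l.Pairwise (· < ·)
  | [], _ => List.Pairwise.nil
  | [a], _ => List.pairwise_singleton _ _
  | a :: b :: l, h => by
    simp only [sortedB, Bool.and_eq_true, Nat.blt_eq] at h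
    have h2 := sortedB_pairwise (b :: l) h.2
    refine List.Pairwise.cons ?_ h2
    intro x hx
    rcases List.mem_cons.1 hx with rfl | hx
    · exact h.1
    · exact lt_trans h.1 ((List.pairwise_cons.1 h2).1 x hx)

theorem gen_sorted : sortedB (gen basisMasks) = true := by decide +kernel

theorem gen_lt : (gen basisMasks).all (fun m => Nat.blt m 16777216) = true := by decide +kernel

theorem wordsOfWeight_eq (n : ℕ) :
    wordsOfWeight (golayCode : Set (GolayPt → ZMod 2)) n =
      pts '' {m | m ∈ (gen basisMasks).filter (fun m => popc m == n)} := by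
  ext s
  simp only [wordsOfWeight, supports, Set.mem_image, Set.mem_ofPred_eq, List.mem_filter, beq_iff_eq,
    SetLike.mem_coe]
  constructor
  · rintro ⟨⟨w, hw, rfl⟩, hs⟩
    obtain ⟨m, hm, rfl⟩ := (mem_golayCode_iff w).1 hw
    exact ⟨m, ⟨hm, by rw [← card_pts]; exact hs⟩, rfl⟩
  · rintro ⟨m, ⟨hm, hc⟩, rfl⟩
    exact ⟨⟨word m, (mem_golayCode_iff _).2 ⟨m, hm, rfl⟩, rfl⟩, by rw [card_pts]; exact hc⟩

theorem ncard_wordsOfWeight (n : ℕ) :
    (wordsOfWeight (golayCode : Set (GolayPt → ZMod 2)) n).ncard =
      ((gen basisMasks).countP (fun m => popc m == n)) := by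
  rw [wordsOfWeight_eq, Set.InjOn.ncard_image, List.countP_eq_length_filter]
  · have hnd : ((gen basisMasks).filter (fun m => popc m == n)).Nodup := by
      refine List.Nodup.filter _ ?_
      exact (sortedB_pairwise _ gen_sorted).imp (fun h => ne_of_lt h)
    rw [← List.toFinset_card_of_nodup hnd, ← Set.ncard_coe_finset]
    congr 1
    ext m
    simp
  · intro a ha b hb hab
    have hlt := List.all_eq_true.1 gen_lt
    refine pts_inj ?_ ?_ hab
    · have := hlt a (List.mem_filter.1 ha).1
      simpa using this
    · have := hlt b (List.mem_filter.1 hb).1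
      simpa using this

theorem count_8 : (gen basisMasks).countP (fun m => popc m == 8) = 759 := by decide +kernel

theorem count_12 : (gen basisMasks).countP (fun m => popc m == 12) = 2576 := by decide +kernel

theorem octads_ncard : Cfsg.octads.ncard = 759 :=
  (ncard_wordsOfWeight 8).trans count_8

theorem dodecads_ncard : Cfsg.dodecads.ncard = 2576 :=
  (ncard_wordsOfWeight 12).trans count_12

end Cfsg.Agent.SporadicA.GolayCount
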