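import Cfsg.Prelude.Def_Spor_Conway
set_option linter.all false

set_option autoImplicit false
open Cfsg
open scoped Pointwise

namespace Cfsg.Agent.SporadicA.Co0Basic

/-! ### Golay code: self-orthogonality and double evenness, from the generators -/

theorem qr_dot (s t : ZMod 23) : ∑ p, qrWord s p * qrWord t p = 0 := by
  revert s t; decide +kernel

theorem qr_dot_one (s : ZMod 23) : ∑ p, qrWord s p = 0 := by
  revert s; decide +kernel

theorem gen_dot {v w : GolayPt → ZMod 2} (hv : v ∈ Set.range qrWord ∪ {1})
    (hw : w ∈ Set.range qrWord ∪ {1}) : ∑ p, v p * w p = 0 := by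
  rcases hv with ⟨s, rfl⟩ | rfl <;> rcases hw with ⟨t, rfl⟩ | rfl
  · exact qr_dot s t
  · simpa using qr_dot_one s
  · simpa using qr_dot_one t
  · decide

theorem code_dot {v w : GolayPt → ZMod 2} (hv : v ∈ golayCode) (hw : w ∈ golayCode) :
    ∑ p, v p * w p = 0 := by
  unfold golayCode at hv
  induction hv using Submodule.span_induction with
  | mem v hv =>
    unfold golayCode at hw
    induction hw using Submodule.span_induction with
    | mem w hw => exact gen_dot hv hw
    | zero => simp
    | add a b _ _ ha hb =>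
      simp only [Pi.add_apply, mul_add, Finset.sum_add_distrib, ha, hb, add_zero]
    | smul c a _ ha =>
      simp only [Pi.smul_apply, smul_eq_mul, mul_left_comm _ c, ← Finset.mul_sum, ha, mul_zero]
  | zero => simp
  | add a b _ _ ha hb =>
    simp only [Pi.add_apply, add_mul, Finset.sum_add_distrib, ha, hb, add_zero]
  | smul c a _ ha =>
    simp only [Pi.smul_apply, smul_eq_mul, mul_assoc, ← Finset.mul_sum, ha, mul_zero]

/-- The integer 0 or 1 lifting a bit. -/
def bit (a : ZMod 2) : ℤ := if a = 0 then 0 else 1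

theorem bit_cast (a : ZMod 2) : ((bit a : ℤ) : ZMod 2) = a := by
  revert a; decide

theorem bit_add (a b : ZMod 2) : bit (a + b) = bit a + bit b - 2 * (bit a * bit b) := by
  revert a b; decide

theorem bit_mul (a b : ZMod 2) : bit (a * b) = bit a * bit b := by
  revert a b; decide

theorem bit_zero : bit 0 = 0 := rfl

theorem bit_one : bit 1 = 1 := rfl

theorem code_dot_bit {v w : GolayPt → ZMod 2} (hv : v ∈ golayCode) (hw : w ∈ golayCode) :
    (2 : ℤ) ∣ ∑ p, bit (v p) * bit (w p) := by
  have h := code_dot hv hw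
  have h2 : ((∑ p, bit (v p) * bit (w p) : ℤ) : ZMod 2) = 0 := by
    push_cast
    simpa only [bit_cast] using h
  exact (ZMod.intCast_zmod_eq_zero_iff_dvd _ 2).mp h2

theorem gen_weight {v : GolayPt → ZMod 2} (hv : v ∈ Set.range qrWord ∪ {1}) :
    (4 : ℤ) ∣ ∑ p, bit (v p) := by
  rcases hv with ⟨s, rfl⟩ | rfl
  · revert s; decide +kernel
  · decide +kernel

theorem code_weight {v : GolayPt → ZMod 2} (hv : v ∈ golayCode) :
    (4 : ℤ) ∣ ∑ p, bit (v p) := by
  unfold golayCode at hv
  induction hv using Submodule.span_induction with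
  | mem v hv => exact gen_weight hv
  | zero => simp [bit_zero]
  | add a b ha' hb' ha hb =>
    simp only [Pi.add_apply, bit_add, Finset.sum_add_distrib, Finset.sum_sub_distrib,
      ← Finset.mul_sum]
    have h := code_dot_bit (v := a) (w := b) ha' hb'
    obtain ⟨k, hk⟩ := h
    obtain ⟨l, hl⟩ := ha
    obtain ⟨m, hm⟩ := hb
    rw [hk, hl, hm]
    exact ⟨l + m - k, by ring⟩
  | smul c a _ ha =>
    have : c = 0 ∨ c = 1 := by revert c; decide
    rcases this with rfl | rfl
    · simp [bit_zero]
    · simpa using ha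

/-! ### Sign changes preserve the set of lattice generators -/

theorem mem_supports_iff (s : Finset GolayPt) :
    s ∈ supports (golayCode : Set (GolayPt → ZMod 2)) ↔
      (fun p => if p ∈ s then (1 : ZMod 2) else 0) ∈ golayCode := by
  constructor
  · rintro ⟨w, hw, rfl⟩
    have : (fun p => if p ∈ support₂ w then (1 : ZMod 2) else 0) = w := by
      funext p
      have h : ∀ a : ZMod 2, (if a ≠ 0 then (1 : ZMod 2) else 0) = a := by decide
      simpa [support₂] using h (w p)
    rw [this]; exact hw
  · intro h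
    refine ⟨_, h, ?_⟩
    ext p
    simp [support₂]

/-- The word supported on the positions whose coordinate is congruent to `k` modulo 4. -/
def resWord (x : GolayPt → ℤ) (k : ℤ) : GolayPt → ZMod 2 :=
  fun p => if x p ≡ k [ZMOD 4] then 1 else 0

theorem resWord_pos {x : GolayPt → ℤ} {k : ℤ} {p : GolayPt} (h : x p ≡ k [ZMOD 4]) :
    resWord x k p = 1 := if_pos h

theorem resWord_neg {x : GolayPt → ℤ} {k : ℤ} {p : GolayPt} (h : ¬ (x p ≡ k [ZMOD 4])) :
    resWord x k p = 0 := if_neg h

theorem mem_leechSet_iff (x : GolayPt → ℤ) :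
    x ∈ leechSet ↔ ∃ m : ℤ, (∀ i, x i ≡ m [ZMOD 2]) ∧ (∑ i, x i ≡ 4 * m [ZMOD 8]) ∧
      ∀ k : ℤ, resWord x k ∈ golayCode := by
  have key : ∀ k : ℤ, ((Finset.univ.filter fun i => x i ≡ k [ZMOD 4]) ∈
      supports (golayCode : Set (GolayPt → ZMod 2))) ↔ resWord x k ∈ golayCode := by
    intro k
    rw [mem_supports_iff]
    have : (fun p => if p ∈ (Finset.univ.filter fun i => x i ≡ k [ZMOD 4]) then (1 : ZMod 2) else 0)
        = resWord x k := by
      funext p
      simp [resWord]
    rw [this]
  simp only [← key]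
  exact Iff.rfl

/-- Sign change on the support of a word. -/
def signFun (w : GolayPt → ZMod 2) (x : GolayPt → ℤ) : GolayPt → ℤ :=
  fun i => if w i = 0 then x i else - x i

theorem signFun_eq (w : GolayPt → ZMod 2) (x : GolayPt → ℤ) (i : GolayPt) :
    signFun w x i = x i - 2 * (bit (w i) * x i) := by
  unfold signFun bit
  split_ifs <;> ring

theorem signFun_add (w : GolayPt → ZMod 2) (x y : GolayPt → ℤ) :
    signFun w (x + y) = signFun w x + signFun w y := by
  funext i
  simp only [signFun, Pi.add_apply]
  split_ifs <;> ring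

theorem signFun_signFun (w : GolayPt → ZMod 2) (x : GolayPt → ℤ) :
    signFun w (signFun w x) = x := by
  funext i
  simp only [signFun]
  split_ifs <;> ring

theorem signFun_mem_leechSet {w : GolayPt → ZMod 2} (hw : w ∈ golayCode) {x : GolayPt → ℤ}
    (hx : x ∈ leechSet) : signFun w x ∈ leechSet := by
  rw [mem_leechSet_iff] at hx ⊢
  obtain ⟨m, hpar, hsum, hres⟩ := hx
  -- residues modulo 4 are `m` or `m + 2`
  have hD := hres (m + 2)
  have hxd : ∀ i, ∃ k, x i = m + 2 * bit (resWord x (m + 2) i) + 4 * k := by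
    intro i
    by_cases h : x i ≡ m + 2 [ZMOD 4]
    · rw [resWord_pos h, bit_one]
      obtain ⟨k, hk⟩ := h.symm.dvd
      exact ⟨k, by linarith⟩
    · rw [resWord_neg h, bit_zero]
      have h2 := hpar i
      obtain ⟨k, hk⟩ := h2.symm.dvd
      rcases Int.even_or_odd' k with ⟨l, hl | hl⟩
      · exact ⟨l, by rw [hl] at hk; linarith⟩
      · exfalso
        apply h
        exact (Int.modEq_iff_dvd.mpr ⟨l, by rw [hl] at hk; linarith⟩ : m + 2 ≡ x i [ZMOD 4]).symm
  choose k hk using hxd
  have hparS : ∀ i, signFun w x i ≡ m [ZMOD 2] := by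
    intro i
    refine Int.ModEq.trans ?_ (hpar i)
    rw [signFun_eq]
    exact (Int.modEq_iff_dvd.mpr ⟨bit (w i) * x i, by ring⟩)
  refine ⟨m, hparS, ?_, fun r => ?_⟩
  · -- sum
    refine Int.ModEq.trans ?_ hsum
    simp only [signFun_eq, Finset.sum_sub_distrib, ← Finset.mul_sum]
    have h1 : ∑ i, bit (w i) * x i =
        m * (∑ i, bit (w i)) + 2 * (∑ i, bit (w i) * bit (resWord x (m + 2) i))
          + 4 * ∑ i, bit (w i) * k i := by
      simp only [Finset.mul_sum, ← Finset.sum_add_distrib]
      refine Finset.sum_congr rfl fun i _ => ?_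
      conv_lhs => rw [hk i]
      ring
    obtain ⟨a, ha⟩ := code_weight hw
    obtain ⟨b, hb⟩ := code_dot_bit hw hD
    rw [h1, ha, hb]
    exact (Int.modEq_iff_dvd.mpr ⟨m * a + b + ∑ i, bit (w i) * k i, by ring⟩)
  · -- residue classes
    have hr := hres r
    by_cases hpr : r ≡ m [ZMOD 2]
    · by_cases hm : m ≡ 0 [ZMOD 2]
      · -- all coordinates even: residues unchanged
        have : resWord (signFun w x) r = resWord x r := by
          funext p
          have hev : x p ≡ 0 [ZMOD 2] := (hpar p).trans hm
          obtain ⟨l, hl⟩ := hev.symm.dvd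
          have h4 : signFun w x p ≡ x p [ZMOD 4] := by
            rw [signFun_eq]
            refine (Int.modEq_iff_dvd.mpr ⟨bit (w p) * l, ?_⟩)
            have : x p = 2 * l := by linarith
            rw [this]; ring
          by_cases hc : x p ≡ r [ZMOD 4]
          · rw [resWord_pos hc, resWord_pos (h4.trans hc)]
          · rw [resWord_neg hc, resWord_neg (fun h => hc (h4.symm.trans h))]
        rw [this]; exact hr
      · -- all coordinates odd: symmetric difference
        have : resWord (signFun w x) r = resWord x r + w := by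
          funext p
          have hm1 : m % 2 = 1 := by
            have : ¬ (m % 2 = 0 % 2) := hm
            omega
          have hx1 : x p % 2 = 1 := by
            have : x p % 2 = m % 2 := hpar p
            omega
          have hr1 : r % 2 = 1 := by
            have : r % 2 = m % 2 := hpr
            omega
          have hw01 : w p = 0 ∨ w p = 1 := by
            generalize w p = a
            revert a; decide
          have e1 : (1 : ZMod 2) + 1 = 0 := by decide
          rw [Pi.add_apply]
          rcases hw01 with h0 | h0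
          · have hs : signFun w x p = x p := if_pos h0
            rw [h0, add_zero]
            by_cases hc : x p ≡ r [ZMOD 4]
            · rw [resWord_pos hc, resWord_pos (hs.symm ▸ hc)]
            · rw [resWord_neg hc, resWord_neg (hs.symm ▸ hc)]
          · have hs : signFun w x p = - x p := if_neg (by rw [h0]; decide)
            rw [h0]
            by_cases hc : x p ≡ r [ZMOD 4]
            · have hc' : ¬ (signFun w x p ≡ r [ZMOD 4]) := by
                rw [hs]
                intro h
                have a1 : x p % 4 = r % 4 := hc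
                have a2 : (-x p) % 4 = r % 4 := h
                omega
              rw [resWord_pos hc, resWord_neg hc', e1]
            · have hc' : (signFun w x p ≡ r [ZMOD 4]) := by
                rw [hs]
                have a1 : ¬ (x p % 4 = r % 4) := hc
                show (-x p) % 4 = r % 4
                omega
              rw [resWord_neg hc, resWord_pos hc', zero_add]
        rw [this]
        exact Submodule.add_mem _ hr hw
    · -- empty class
      have : resWord (signFun w x) r = 0 := by
        funext p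
        refine resWord_neg fun h => ?_
        apply hpr
        have h2 : signFun w x p ≡ r [ZMOD 2] := h.of_dvd (by norm_num)
        exact h2.symm.trans (hparS p)
      rw [this]
      exact Submodule.zero_mem _

/-! ### Coordinate permutations preserving the code -/

theorem comp_mem_of_gen {σ : GolayPt → GolayPt}
    (h : ∀ g ∈ Set.range qrWord ∪ {1}, g ∘ σ ∈ golayCode) {w : GolayPt → ZMod 2}
    (hw : w ∈ golayCode) : w ∘ σ ∈ golayCode := by
  have hw' : w ∈ Submodule.span (ZMod 2) (Set.range qrWord ∪ {1}) := hw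
  induction hw' using Submodule.span_induction with
  | mem w hw'' => exact h w hw''
  | zero => exact Submodule.zero_mem _
  | add a b ha' hb' ha hb => exact Submodule.add_mem _ (ha ha') (hb hb')
  | smul c a ha' ha => exact Submodule.smul_mem _ c (ha ha')

theorem smul_mem_supports_iff (σ : Equiv.Perm GolayPt) (s : Finset GolayPt) :
    σ • s ∈ supports (golayCode : Set (GolayPt → ZMod 2)) ↔
      (fun p => if p ∈ s then (1 : ZMod 2) else 0) ∘ (σ⁻¹ : Equiv.Perm GolayPt) ∈ golayCode := by
  rw [mem_supports_iff]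
  have : (fun p => if p ∈ σ • s then (1 : ZMod 2) else 0) =
      (fun p => if p ∈ s then (1 : ZMod 2) else 0) ∘ (σ⁻¹ : Equiv.Perm GolayPt) := by
    funext p
    simp only [Function.comp_apply, ← Finset.inv_smul_mem_iff, Equiv.Perm.smul_def]
  rw [this]

theorem indicator_support (w : GolayPt → ZMod 2) :
    (fun p => if p ∈ support₂ w then (1 : ZMod 2) else 0) = w := by
  funext p
  have h : ∀ a : ZMod 2, (if a ≠ 0 then (1 : ZMod 2) else 0) = a := by decide
  simpa [support₂] using h (w p)

theorem mem_M24_iff (σ : Equiv.Perm GolayPt) :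
    σ ∈ M24 ↔ ∀ w, w ∘ σ ∈ golayCode ↔ w ∈ golayCode := by
  constructor
  · intro h w
    have h1 : σ • supports (golayCode : Set (GolayPt → ZMod 2)) = supports (golayCode : Set (GolayPt → ZMod 2)) := h
    have h2 := smul_mem_supports_iff σ (support₂ (w ∘ σ))
    rw [indicator_support] at h2
    have h3 : (w ∘ σ) ∘ (σ⁻¹ : Equiv.Perm GolayPt) = w := by
      funext p; simp
    rw [h3] at h2
    rw [← h2]
    conv_rhs => rw [← h1]
    rw [Set.smul_mem_smul_set_iff, mem_supports_iff, indicator_support]
  · intro h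
    show σ • supports (golayCode : Set (GolayPt → ZMod 2)) = supports (golayCode : Set (GolayPt → ZMod 2))
    ext s
    rw [Set.mem_smul_set_iff_inv_smul_mem, smul_mem_supports_iff, mem_supports_iff, inv_inv, h]

theorem comp_mem_of_mem_M24 {σ : Equiv.Perm GolayPt} (hσ : σ ∈ M24) {w : GolayPt → ZMod 2}
    (hw : w ∈ golayCode) : w ∘ σ ∈ golayCode := ((mem_M24_iff σ).mp hσ w).mpr hw

/-- A permutation mapping the code into itself preserves it. -/
theorem mem_M24_of_comp_mem {σ : Equiv.Perm GolayPt}
    (h : ∀ w ∈ golayCode, w ∘ σ ∈ golayCode) : σ ∈ M24 := by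
  rw [mem_M24_iff]
  intro w
  refine ⟨fun hw => ?_, fun hw => h w hw⟩
  have hpow : ∀ n : ℕ, ∀ v ∈ golayCode, v ∘ ((σ ^ n : Equiv.Perm GolayPt) : GolayPt → GolayPt) ∈ golayCode := by
    intro n
    induction n with
    | zero => intro v hv; simpa using hv
    | succ n ih =>
      intro v hv
      have := ih _ (h v hv)
      rw [pow_succ']
      exact this
  have h1 := hpow (orderOf σ - 1) _ hw
  have h2 : (w ∘ σ) ∘ ((σ ^ (orderOf σ - 1) : Equiv.Perm GolayPt) : GolayPt → GolayPt) = w := by
    have : σ * σ ^ (orderOf σ - 1) = 1 := by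
      rw [← pow_succ', Nat.sub_add_cancel (orderOf_pos σ), pow_orderOf_eq_one]
    funext p
    show w ((σ * σ ^ (orderOf σ - 1)) p) = w p
    rw [this]; rfl
  rwa [h2] at h1

theorem mem_M24_of_gen {σ : Equiv.Perm GolayPt}
    (h : ∀ g ∈ Set.range qrWord ∪ {1}, g ∘ σ ∈ golayCode) : σ ∈ M24 :=
  mem_M24_of_comp_mem fun _ hw => comp_mem_of_gen h hw

theorem qrWord_mem (t : ZMod 23) : qrWord t ∈ golayCode :=
  Submodule.subset_span (Set.mem_union_left _ ⟨t, rfl⟩)

theorem one_mem : (1 : GolayPt → ZMod 2) ∈ golayCode :=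
  Submodule.subset_span (Set.mem_union_right _ rfl)

/-- The translation by one. -/
def tau : Equiv.Perm GolayPt := Equiv.optionCongr (Equiv.addRight (1 : ZMod 23))

theorem tau_mem : tau ∈ M24 := by
  apply mem_M24_of_gen
  rintro g (⟨t, rfl⟩ | rfl)
  · have : qrWord t ∘ tau = qrWord (t - 1) := by
      funext p
      rcases p with _ | x
      · rfl
      · show qrWord t (some (x + 1)) = qrWord (t - 1) (some x)
        simp only [qrWord]
        congr 1
        apply propext
        constructor
        · rintro ⟨r, hr⟩; exact ⟨r, by linear_combination hr⟩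
        · rintro ⟨r, hr⟩; exact ⟨r, by linear_combination hr⟩
    rw [this]
    exact qrWord_mem _
  · exact one_mem

theorem comp_mem_leechSet {σ : Equiv.Perm GolayPt} (hσ : σ ∈ M24) {x : GolayPt → ℤ}
    (hx : x ∈ leechSet) : x ∘ σ ∈ leechSet := by
  rw [mem_leechSet_iff] at hx ⊢
  obtain ⟨m, hpar, hsum, hres⟩ := hx
  refine ⟨m, fun i => hpar (σ i), ?_, fun k => ?_⟩
  · have : ∑ i, (x ∘ σ) i = ∑ i, x i := Equiv.sum_comp σ x
    rw [this]; exact hsum
  · have : resWord (x ∘ σ) k = resWord x k ∘ σ := rfl
    rw [this]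
    exact comp_mem_of_mem_M24 hσ (hres k)

/-! ### The lattice -/

theorem map_mem_leechLattice {f : (GolayPt → ℤ) →+ (GolayPt → ℤ)}
    (hf : ∀ x ∈ leechSet, f x ∈ leechSet) {x : GolayPt → ℤ} (hx : x ∈ leechLattice) :
    f x ∈ leechLattice := by
  have h : leechLattice ≤ leechLattice.comap f := by
    refine (AddSubgroup.closure_le _).mpr fun y hy => ?_
    exact AddSubgroup.subset_closure (hf y hy)
  exact h hx

/-- Sign change as an additive map. -/
def signHom (w : GolayPt → ZMod 2) : (GolayPt → ℤ) →+ (GolayPt → ℤ) :=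
  AddMonoidHom.mk' (signFun w) (signFun_add w)

/-- Coordinate permutation as an additive map. -/
def permHom (σ : Equiv.Perm GolayPt) : (GolayPt → ℤ) →+ (GolayPt → ℤ) :=
  AddMonoidHom.mk' (fun x => x ∘ σ) (fun _ _ => rfl)

theorem signFun_mem_leechLattice {w : GolayPt → ZMod 2} (hw : w ∈ golayCode) {x : GolayPt → ℤ}
    (hx : x ∈ leechLattice) : signFun w x ∈ leechLattice :=
  map_mem_leechLattice (f := signHom w) (fun _ h => signFun_mem_leechSet hw h) hx

theorem comp_mem_leechLattice {σ : Equiv.Perm GolayPt} (hσ : σ ∈ M24) {x : GolayPt → ℤ}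
    (hx : x ∈ leechLattice) : x ∘ σ ∈ leechLattice :=
  map_mem_leechLattice (f := permHom σ) (fun _ h => comp_mem_leechSet hσ h) hx

theorem sqNorm_signFun (w : GolayPt → ZMod 2) (x : GolayPt → ℤ) :
    sqNorm (signFun w x) = sqNorm x := by
  unfold sqNorm
  refine Finset.sum_congr rfl fun i _ => ?_
  unfold signFun
  split_ifs <;> ring

theorem sqNorm_comp (σ : Equiv.Perm GolayPt) (x : GolayPt → ℤ) :
    sqNorm (x ∘ σ) = sqNorm x := Equiv.sum_comp σ (fun i => x i ^ 2)

theorem sqNorm_neg (x : GolayPt → ℤ) : sqNorm (-x) = sqNorm x := by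
  unfold sqNorm
  refine Finset.sum_congr rfl fun i _ => ?_
  rw [Pi.neg_apply]; ring

/-- Coordinate sum congruent to `4 x_i` modulo 8, for every `i`. -/
theorem sum_modEq {x : GolayPt → ℤ} (hx : x ∈ leechLattice) (i : GolayPt) :
    ∑ j, x j ≡ 4 * x i [ZMOD 8] := by
  have hx' : x ∈ AddSubgroup.closure leechSet := hx
  induction hx' using AddSubgroup.closure_induction with
  | mem x hx'' =>
    obtain ⟨m, hpar, hsum, -⟩ := hx''
    refine hsum.trans ?_
    exact Int.ModEq.mul_left' (c := 4) (hpar i).symm
  | zero => simp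
  | add a b ha' hb' ha hb =>
    simp only [Pi.add_apply, Finset.sum_add_distrib, mul_add]
    exact (ha ha').add (hb hb')
  | neg a ha' ha =>
    simp only [Pi.neg_apply, Finset.sum_neg_distrib, mul_neg]
    exact (ha ha').neg

/-! ### Elements of `Co0` -/

/-- An element of `Co0` from an additive map and its inverse, both preserving the lattice. -/
def mkCo0 (f g : (GolayPt → ℤ) → (GolayPt → ℤ)) (hadd : ∀ x y, f (x + y) = f x + f y)
    (hfg : ∀ x, f (g x) = x) (hgf : ∀ x, g (f x) = x)
    (hf : ∀ x ∈ leechLattice, f x ∈ leechLattice) (hg : ∀ x ∈ leechLattice, g x ∈ leechLattice)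
    (hn : ∀ x, sqNorm (f x) = sqNorm x) : Co0 :=
  ⟨{ toFun := fun v => ⟨f v, hf v v.2⟩
     invFun := fun v => ⟨g v, hg v v.2⟩
     left_inv := fun v => Subtype.ext (hgf v)
     right_inv := fun v => Subtype.ext (hfg v) },
    ⟨fun v w => Subtype.ext (hadd v w), fun v => hn v⟩⟩

/-- Negation. -/
def negCo0 : Co0 :=
  mkCo0 (fun x => -x) (fun x => -x) (fun x y => neg_add x y) neg_neg neg_neg
    (fun _ h => neg_mem h) (fun _ h => neg_mem h) sqNorm_neg

/-- Sign change on a code word. -/
def signCo0 (w : GolayPt → ZMod 2) (hw : w ∈ golayCode) : Co0 :=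
  mkCo0 (signFun w) (signFun w) (signFun_add w) (signFun_signFun w) (signFun_signFun w)
    (fun _ h => signFun_mem_leechLattice hw h) (fun _ h => signFun_mem_leechLattice hw h)
    (sqNorm_signFun w)

/-- Coordinate permutation by an element of `M24`: the coordinate at `i` of the image is the
coordinate at `σ⁻¹ i`. -/
def permCo0 (σ : Equiv.Perm GolayPt) (hσ : σ ∈ M24) : Co0 :=
  mkCo0 (fun x => x ∘ (σ⁻¹ : Equiv.Perm GolayPt)) (fun x => x ∘ σ) (fun _ _ => rfl)
    (fun x => by funext p; simp) (fun x => by funext p; simp)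
    (fun _ h => comp_mem_leechLattice (inv_mem hσ) h) (fun _ h => comp_mem_leechLattice hσ h)
    (sqNorm_comp _)

theorem negCo0_apply (v : leechLattice) : negCo0.1 v = -v := rfl

theorem signCo0_apply (w : GolayPt → ZMod 2) (hw : w ∈ golayCode) (v : leechLattice)
    (i : GolayPt) : ((signCo0 w hw).1 v : GolayPt → ℤ) i =
      if w i = 0 then (v : GolayPt → ℤ) i else -(v : GolayPt → ℤ) i := rfl

theorem permCo0_apply (σ : Equiv.Perm GolayPt) (hσ : σ ∈ M24) (v : leechLattice)
    (i : GolayPt) : ((permCo0 σ hσ).1 v : GolayPt → ℤ) i = (v : GolayPt → ℤ) (σ⁻¹ i) := rfl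

theorem map_add (g : Co0) (v w : leechLattice) : g.1 (v + w) = g.1 v + g.1 w := g.2.1 v w

theorem map_sqNorm (g : Co0) (v : leechLattice) :
    sqNorm (g.1 v : GolayPt → ℤ) = sqNorm (v : GolayPt → ℤ) := g.2.2 v

/-- An element of `Co0` as an additive map. -/
def toHom (g : Co0) : leechLattice →+ leechLattice := AddMonoidHom.mk' g.1 (map_add g)

theorem toHom_apply (g : Co0) (v : leechLattice) : toHom g v = g.1 v := rfl

theorem map_neg (g : Co0) (v : leechLattice) : g.1 (-v) = - g.1 v := (toHom g).map_neg v

theorem map_zsmul (g : Co0) (n : ℤ) (v : leechLattice) : g.1 (n • v) = n • g.1 v :=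
  (toHom g).map_zsmul n v

theorem map_sum (g : Co0) {ι : Type*} (s : Finset ι) (f : ι → leechLattice) :
    g.1 (∑ i ∈ s, f i) = ∑ i ∈ s, g.1 (f i) := _root_.map_sum (toHom g) f s

theorem sqNorm_add (x y : GolayPt → ℤ) :
    sqNorm (x + y) = sqNorm x + sqNorm y + 2 * dotInt x y := by
  unfold sqNorm dotInt
  rw [Finset.mul_sum, ← Finset.sum_add_distrib, ← Finset.sum_add_distrib]
  refine Finset.sum_congr rfl fun i _ => ?_
  rw [Pi.add_apply]; ring

/-- Elements of `Co0` preserve inner products. -/
theorem map_dot (g : Co0) (v w : leechLattice) :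
    dotInt (g.1 v : GolayPt → ℤ) (g.1 w : GolayPt → ℤ) =
      dotInt (v : GolayPt → ℤ) (w : GolayPt → ℤ) := by
  have h1 := sqNorm_add (v : GolayPt → ℤ) (w : GolayPt → ℤ)
  have h2 := sqNorm_add (g.1 v : GolayPt → ℤ) (g.1 w : GolayPt → ℤ)
  have h3 : sqNorm ((g.1 v : GolayPt → ℤ) + (g.1 w : GolayPt → ℤ)) =
      sqNorm ((v : GolayPt → ℤ) + (w : GolayPt → ℤ)) := by
    have := map_sqNorm g (v + w)
    rw [map_add] at this
    exact this
  have h4 := map_sqNorm g v
  have h5 := map_sqNorm g w
  linarith

/-! ### The vectors with one coordinate 8 -/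

theorem single8_mem (i : GolayPt) : (Pi.single i 8 : GolayPt → ℤ) ∈ leechSet := by
  refine Spor.mem_leechSet_of_const_mod_four _ 0 0 (by decide) (fun j => ?_) ?_
  · by_cases h : j = i
    · subst h; rw [Pi.single_eq_same]; decide
    · rw [Pi.single_eq_of_ne h]
  · rw [Finset.sum_pi_single']
    simp only [Finset.mem_univ, if_true]; decide

/-- The lattice vector with coordinate 8 at `i` and 0 elsewhere. -/
def e8 (i : GolayPt) : leechLattice :=
  ⟨Pi.single i 8, AddSubgroup.subset_closure (single8_mem i)⟩

theorem e8_coe (i : GolayPt) : ((e8 i : leechLattice) : GolayPt → ℤ) = Pi.single i 8 := rfl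

theorem e8_apply (i j : GolayPt) : ((e8 i : leechLattice) : GolayPt → ℤ) j = if j = i then 8 else 0 := by
  rw [e8_coe, Pi.single_apply]

theorem smul8_eq_sum (v : leechLattice) :
    (8 : ℤ) • v = ∑ i, ((v : GolayPt → ℤ) i) • e8 i := by
  apply Subtype.ext
  funext j
  rw [AddSubgroup.coe_zsmul, AddSubgroup.val_finsetSum, Finset.sum_apply]
  simp only [AddSubgroup.coe_zsmul, Pi.smul_apply, e8_apply, smul_eq_mul]
  rw [Finset.sum_eq_single j]
  · rw [if_pos rfl]; ring
  · intro b _ hb
    rw [if_neg (Ne.symm hb), mul_zero]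
  · intro h; exact absurd (Finset.mem_univ j) h

theorem map_smul8 (g : Co0) (v : leechLattice) :
    (8 : ℤ) • g.1 v = ∑ i, ((v : GolayPt → ℤ) i) • g.1 (e8 i) := by
  rw [← map_zsmul, smul8_eq_sum, map_sum]
  simp only [map_zsmul]

/-- An element of `Co0` is determined by its values at the vectors `e8 i`. -/
theorem ext_e8 {g h : Co0} (hgh : ∀ i, g.1 (e8 i) = h.1 (e8 i)) : g = h := by
  apply Subtype.ext
  apply Equiv.ext
  intro v
  have h1 := map_smul8 g v
  have h2 := map_smul8 h v
  simp only [hgh] at h1
  rw [← h2] at h1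
  apply Subtype.ext
  funext j
  have h3 := congrArg (fun u : leechLattice => (u : GolayPt → ℤ) j) h1
  simp only [AddSubgroup.coe_zsmul, Pi.smul_apply, smul_eq_mul] at h3
  exact mul_left_cancel₀ (by norm_num) h3

/-! ### The centre -/

/-- For two distinct points some code generator separates them. -/
theorem separate (i j : GolayPt) (h : i ≠ j) : ∃ t : ZMod 23, qrWord t i ≠ qrWord t j := by
  revert i j; decide +kernel

theorem center_e8 {z : Co0} (hz : z ∈ Subgroup.center Co0) (i : GolayPt) :
    z.1 (e8 i) = e8 i ∨ z.1 (e8 i) = - e8 i := by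
  rw [Subgroup.mem_center_iff] at hz
  -- the image is supported at `i`
  have hsupp : ∀ j, j ≠ i → (z.1 (e8 i) : GolayPt → ℤ) j = 0 := by
    intro j hj
    obtain ⟨t, ht⟩ := separate j i hj
    have hc := congrArg Subtype.val (hz (signCo0 (qrWord t) (qrWord_mem t)))
    have hc2 : (signCo0 (qrWord t) (qrWord_mem t)).1 (z.1 (e8 i)) =
        z.1 ((signCo0 (qrWord t) (qrWord_mem t)).1 (e8 i)) := by
      have := congrArg (fun f : Equiv.Perm leechLattice => f (e8 i)) hc
      exact this
    have hc3 := congrArg (fun u : leechLattice => (u : GolayPt → ℤ) j) hc2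
    rw [signCo0_apply] at hc3
    by_cases hi : qrWord t i = 0
    · -- `i` is outside the word, so `e8 i` is fixed
      have hfix : (signCo0 (qrWord t) (qrWord_mem t)).1 (e8 i) = e8 i := by
        apply Subtype.ext
        funext k
        rw [signCo0_apply, e8_apply]
        by_cases hk : k = i
        · subst hk; rw [if_pos hi]
        · rw [if_neg hk]; simp
      rw [hfix, if_neg (by rw [← hi]; exact ht)] at hc3
      omega
    · have hfix : (signCo0 (qrWord t) (qrWord_mem t)).1 (e8 i) = - e8 i := by
        apply Subtype.ext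
        funext k
        rw [signCo0_apply, NegMemClass.coe_neg, Pi.neg_apply, e8_apply]
        by_cases hk : k = i
        · subst hk; rw [if_neg hi]
        · rw [if_neg hk]; simp
      have hj0 : qrWord t j = 0 := by
        have h01 : ∀ a b : ZMod 2, a ≠ b → b ≠ 0 → a = 0 := by decide
        exact h01 _ _ ht hi
      rw [hfix, map_neg, if_pos hj0, NegMemClass.coe_neg, Pi.neg_apply] at hc3
      omega
  -- and has norm 64
  have hn := map_sqNorm z (e8 i)
  have h1 : sqNorm (z.1 (e8 i) : GolayPt → ℤ) = ((z.1 (e8 i) : GolayPt → ℤ) i) ^ 2 := by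
    unfold sqNorm
    rw [Finset.sum_eq_single i]
    · intro b _ hb
      rw [hsupp b hb]; norm_num
    · intro h; exact absurd (Finset.mem_univ i) h
  have h2 : sqNorm (e8 i : GolayPt → ℤ) = 8 ^ 2 := by
    unfold sqNorm
    rw [Finset.sum_eq_single i]
    · rw [e8_apply, if_pos rfl]
    · intro b _ hb
      rw [e8_apply, if_neg hb]; norm_num
    · intro h; exact absurd (Finset.mem_univ i) h
  rw [h1, h2] at hn
  rcases sq_eq_sq_iff_eq_or_eq_neg.mp hn with h | h
  · left
    apply Subtype.ext
    funext k
    by_cases hk : k = i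
    · subst hk; rw [h, e8_apply, if_pos rfl]
    · rw [hsupp k hk, e8_apply, if_neg hk]
  · right
    apply Subtype.ext
    funext k
    rw [NegMemClass.coe_neg, Pi.neg_apply]
    by_cases hk : k = i
    · subst hk; rw [h, e8_apply, if_pos rfl]
    · rw [hsupp k hk, e8_apply, if_neg hk]; norm_num

theorem tau_symm_none : (tau⁻¹ : Equiv.Perm GolayPt) none = none := rfl

theorem tau_symm_some (x : ZMod 23) : (tau⁻¹ : Equiv.Perm GolayPt) (some (x + 1)) = some x := by
  show some (x + 1 + -1) = some x
  rw [add_neg_cancel_right]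

theorem permCo0_e8 (σ : Equiv.Perm GolayPt) (hσ : σ ∈ M24) (i : GolayPt) :
    (permCo0 σ hσ).1 (e8 i) = e8 (σ i) := by
  apply Subtype.ext
  funext j
  rw [permCo0_apply, e8_apply, e8_apply]
  by_cases h : j = σ i
  · subst h; simp
  · rw [if_neg h, if_neg]
    intro h'
    apply h
    rw [← h']; simp

theorem e8_ne_neg (i : GolayPt) : e8 i ≠ - e8 i := by
  intro h
  have := congrArg (fun u : leechLattice => (u : GolayPt → ℤ) i) h
  simp only [NegMemClass.coe_neg, Pi.neg_apply, e8_apply, if_true] at this
  omega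

theorem negCo0_mem_center : negCo0 ∈ Subgroup.center Co0 := by
  rw [Subgroup.mem_center_iff]
  intro g
  apply Subtype.ext
  apply Equiv.ext
  intro v
  show g.1 (negCo0.1 v) = negCo0.1 (g.1 v)
  rw [negCo0_apply, negCo0_apply, map_neg]

theorem negCo0_ne_one : negCo0 ≠ 1 := by
  intro h
  have := congrArg (fun g : Co0 => g.1 (e8 none)) h
  exact e8_ne_neg none this.symm

theorem eq_one_or_neg_of_mem_center {z : Co0} (hz : z ∈ Subgroup.center Co0) :
    z = 1 ∨ z = negCo0 := by
  -- the sign is the same for all residues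
  have hstep : ∀ x : ZMod 23, z.1 (e8 (some x)) = e8 (some x) →
      z.1 (e8 (some (x + 1))) = e8 (some (x + 1)) := by
    intro x hx
    have hc := congrArg Subtype.val ((Subgroup.mem_center_iff.mp hz) (permCo0 tau tau_mem))
    have hc2 : (permCo0 tau tau_mem).1 (z.1 (e8 (some x))) =
        z.1 ((permCo0 tau tau_mem).1 (e8 (some x))) :=
      congrArg (fun f : Equiv.Perm leechLattice => f (e8 (some x))) hc
    rw [hx, permCo0_e8] at hc2
    exact hc2.symm
  have hall : ∀ x : ZMod 23, z.1 (e8 (some x)) = e8 (some x) →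
      ∀ y : ZMod 23, z.1 (e8 (some y)) = e8 (some y) := by
    intro x hx y
    have : ∀ n : ℕ, z.1 (e8 (some (x + n))) = e8 (some (x + n)) := by
      intro n
      induction n with
      | zero => simpa using hx
      | succ n ih => 
        have := hstep _ ih
        rw [add_assoc] at this
        exact_mod_cast this
    have h2 := this (y - x).val
    rwa [ZMod.natCast_zmod_val, add_sub_cancel] at h2
  -- the lattice vector (-5, -1, ..., -1)
  have hV := z.1 Spor.leechV
  have key : ∀ (a b : ℤ), (a = 1 ∨ a = -1) → (b = 1 ∨ b = -1) → (z.1 (e8 none) = a • e8 none) →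
      (∀ y : ZMod 23, z.1 (e8 (some y)) = b • e8 (some y)) → a = b := by
    intro a b ha hb h1 h2
    have h3 := map_smul8 z Spor.leechV
    have h4 : ∀ i : GolayPt, (z.1 Spor.leechV : GolayPt → ℤ) i =
        (Spor.leechV : GolayPt → ℤ) i * (if i = none then a else b) := by
      intro i
      have h5 := congrArg (fun u : leechLattice => (u : GolayPt → ℤ) i) h3
      have h6 : ∀ j : GolayPt, z.1 (e8 j) = (if j = none then a else b) • e8 j := by
        intro j
        rcases j with _ | y
        · rw [if_pos rfl]; exact h1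
        · rw [if_neg (by simp)]; exact h2 y
      simp only [h6] at h5
      rw [AddSubgroup.coe_zsmul, AddSubgroup.val_finsetSum, Finset.sum_apply] at h5
      simp only [AddSubgroup.coe_zsmul, Pi.smul_apply, e8_apply, smul_eq_mul] at h5
      rw [Finset.sum_eq_single i] at h5
      · rw [if_pos rfl] at h5
        have : (8 : ℤ) * (z.1 Spor.leechV : GolayPt → ℤ) i =
          8 * ((Spor.leechV : GolayPt → ℤ) i * (if i = none then a else b)) := by
          rw [h5]; ring
        exact mul_left_cancel₀ (by norm_num) this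
      · intro j _ hj
        rw [if_neg (Ne.symm hj), mul_zero, mul_zero]
      · intro h; exact absurd (Finset.mem_univ i) h
    have h7 := sum_modEq (z.1 Spor.leechV).2 none
    have h8 : ∑ j, (z.1 Spor.leechV : GolayPt → ℤ) j = -5 * a - 23 * b := by
      rw [Fintype.sum_option]
      have : ∀ j : ZMod 23, (z.1 Spor.leechV : GolayPt → ℤ) (some j) = - b := by
        intro j
        rw [h4, if_neg (by simp)]
        show (if (some j : GolayPt) = none then (-5 : ℤ) else -1) * b = -b
        rw [if_neg (by simp)]; ring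
      simp only [this, h4 none, if_true]
      rw [Finset.sum_const, Finset.card_univ, ZMod.card]
      show (if (none : GolayPt) = none then (-5 : ℤ) else -1) * a + 23 • (-b) = _
      rw [if_pos rfl]
      simp only [nsmul_eq_mul]
      push_cast
      ring
    have h9 : (z.1 Spor.leechV : GolayPt → ℤ) none = -5 * a := by
      rw [h4 none, if_pos rfl]
      show (if (none : GolayPt) = none then (-5 : ℤ) else -1) * a = _
      rw [if_pos rfl]
    rw [h8, h9] at h7
    have h10 : (-5 * a - 23 * b) % 8 = (4 * (-5 * a)) % 8 := h7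
    rcases ha with rfl | rfl <;> rcases hb with rfl | rfl <;> first | rfl | (exfalso; revert h10; decide)
  rcases center_e8 hz none with h0 | h0 <;> rcases center_e8 hz (some 0) with h1 | h1
  · left
    apply ext_e8
    intro i
    rcases i with _ | y
    · exact h0
    · exact hall 0 h1 y
  · exfalso
    have h2 : ∀ y : ZMod 23, z.1 (e8 (some y)) = (-1 : ℤ) • e8 (some y) := by
      intro y
      rcases center_e8 hz (some y) with h | h
      · have := hall y h 0
        rw [this] at h1
        exact absurd h1 (e8_ne_neg _)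
      · rw [h, neg_one_zsmul]
    have := key 1 (-1) (Or.inl rfl) (Or.inr rfl) (by rw [one_zsmul]; exact h0) h2
    norm_num at this
  · exfalso
    have h2 : ∀ y : ZMod 23, z.1 (e8 (some y)) = (1 : ℤ) • e8 (some y) := by
      intro y
      rw [one_zsmul]; exact hall 0 h1 y
    have := key (-1) 1 (Or.inr rfl) (Or.inl rfl) (by rw [neg_one_zsmul]; exact h0) h2
    norm_num at this
  · right
    apply ext_e8
    intro i
    rcases i with _ | y
    · exact h0
    · rcases center_e8 hz (some y) with h | h
      · have := hall y h 0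
        rw [this] at h1
        exact absurd h1 (e8_ne_neg _)
      · exact h

theorem card_center : Nat.card (Subgroup.center Co0) = 2 := by
  rw [Nat.card_eq_two_iff]
  refine ⟨1, ⟨negCo0, negCo0_mem_center⟩, ?_, ?_⟩
  · intro h
    exact negCo0_ne_one (congrArg Subtype.val h).symm
  · ext ⟨z, hz⟩
    simp only [Set.mem_insert_iff, Set.mem_singleton_iff, Set.mem_univ, iff_true]
    rcases eq_one_or_neg_of_mem_center hz with h | h
    · left; exact Subtype.ext h
    · right; exact Subtype.ext h

end Cfsg.Agent.SporadicA.Co0Basic
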