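/-
Order, 5-transitivity and generation of the group of the length-24 code.
-/
import Cfsg.Prelude.Def_Sporadic_a
import Cfsg.Agent.SporadicA.M24Chain
set_option linter.all false

-- part: SporadicA/M24Code
section
set_option autoImplicit false
open Cfsg
open scoped Pointwise

namespace Cfsg.Agent.SporadicA.M24Code

/-- position of a point: residues are `0, ..., 22`, the extra point is `23`. -/
def pos : GolayPt → ℕ
  | none => 23
  | some x => x.val

/-- the point at a position -/
def pt (n : ℕ) : GolayPt := if n < 23 then some (n : ZMod 23) else none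

theorem pos_lt : ∀ p : GolayPt, pos p < 24 := by decide +kernel

theorem pt_pos : ∀ p : GolayPt, pt (pos p) = p := by decide +kernel

theorem pos_pt : ∀ n < 24, pos (pt n) = n := by decide +kernel

theorem pos_injective : Function.Injective pos := by
  intro p q h
  rw [← pt_pos p, ← pt_pos q, h]

/-- the word with a given mask -/
def word (m : ℕ) : GolayPt → ZMod 2 := fun p => if m.testBit (pos p) then 1 else 0

theorem word_apply (m : ℕ) (p : GolayPt) : word m p = if m.testBit (pos p) then 1 else 0 := rfl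

theorem word_zero : word 0 = 0 := by
  funext p
  simp [word_apply]

theorem word_xor (a b : ℕ) : word (a ^^^ b) = word a + word b := by
  funext p
  simp only [word_apply, Pi.add_apply, Nat.testBit_xor]
  cases a.testBit (pos p) <;> cases b.testBit (pos p) <;> decide

theorem word_eq_iff (a b : ℕ) : word a = word b ↔ ∀ p, a.testBit (pos p) = b.testBit (pos p) := by
  constructor
  · intro h p
    have := congrFun h p
    simp only [word_apply] at this
    revert this
    cases a.testBit (pos p) <;> cases b.testBit (pos p) <;> decide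
  · intro h
    funext p
    rw [word_apply, word_apply, h p]

/-- masks of the translates of the squares, and of the all-ones word -/
def gmask : List ℕ := [340831, 681662, 1363324, 2726648, 5453296, 2517985, 5035970, 1683333, 3366666, 6733332, 5078057,
  1767507, 3535014, 7070028, 5751449, 3114291, 6228582, 4068557, 8137114, 7885621, 7382635, 6376663, 4364719, 16777215]

theorem qrWord_eq : ∀ t : ZMod 23, qrWord t = word (gmask.getD t.val 0) := by
  decide +kernel

theorem one_eq : (1 : GolayPt → ZMod 2) = word 16777215 := by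
  decide +kernel

theorem one_mem : (1 : GolayPt → ZMod 2) ∈ golayCode :=
  Submodule.subset_span (Or.inr rfl)

theorem qrWord_mem (t : ZMod 23) : qrWord t ∈ golayCode :=
  Submodule.subset_span (Or.inl ⟨t, rfl⟩)

theorem gmask_mem : ∀ g ∈ gmask, word g ∈ golayCode := by
  have h : ∀ g ∈ gmask, g = 16777215 ∨ ∃ t : ZMod 23, g = gmask.getD t.val 0 := by decide +kernel
  intro g hg
  rcases h g hg with h | ⟨t, h⟩
  · rw [h, ← one_eq]; exact one_mem
  · rw [h, ← qrWord_eq]; exact qrWord_mem t

/-- xor of those members of a list whose index (counted from `j`) is a bit of `m` -/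
def comb : ℕ → List ℕ → ℕ → ℕ
  | _, [], _ => 0
  | j, r :: rs, m => (bif m.testBit j then r else 0) ^^^ comb (j + 1) rs m

theorem comb_nil (j m : ℕ) : comb j [] m = 0 := rfl

theorem comb_cons (j r : ℕ) (rs : List ℕ) (m : ℕ) :
    comb j (r :: rs) m = (bif m.testBit j then r else 0) ^^^ comb (j + 1) rs m := rfl

theorem comb_xor (rs : List ℕ) (a b : ℕ) : ∀ j, comb j rs (a ^^^ b) = comb j rs a ^^^ comb j rs b := by
  induction rs with
  | nil => intro j; simp [comb_nil]
  | cons r rs ih =>
    intro j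
    rw [comb_cons, comb_cons, comb_cons, ih, Nat.testBit_xor]
    have h : (bif (a.testBit j ^^ b.testBit j) then r else 0) =
        (bif a.testBit j then r else 0) ^^^ (bif b.testBit j then r else 0) := by
      cases a.testBit j <;> cases b.testBit j <;> simp
    rw [h]
    rw [Nat.xor_assoc, Nat.xor_assoc, ← Nat.xor_assoc _ (comb (j + 1) rs a), Nat.xor_comm _ (comb (j + 1) rs a),
      Nat.xor_assoc]

theorem word_comb_mem (C : Submodule (ZMod 2) (GolayPt → ZMod 2)) (rs : List ℕ) (m : ℕ) :
    ∀ j, (∀ r ∈ rs, word r ∈ C) → word (comb j rs m) ∈ C := by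
  induction rs with
  | nil => intro j _; rw [comb_nil, word_zero]; exact C.zero_mem
  | cons r rs ih =>
    intro j h
    rw [comb_cons, word_xor]
    refine C.add_mem ?_ (ih (j + 1) fun s hs => h s (List.mem_cons_of_mem _ hs))
    cases m.testBit j
    · simp only [cond_false, word_zero]; exact C.zero_mem
    · exact h r List.mem_cons_self

/-- a basis of the code, systematic in positions `0, ..., 11` -/
def rows : List ℕ := [13062145, 4845570, 13938692, 7221256, 10170384, 11952160, 15515712, 2019456, 4038912, 8077824,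
  11654144, 14919680]

theorem rows_mem : ∀ r ∈ rows, word r ∈ golayCode := by
  have h : ∀ r ∈ rows, r ∈ [8390313, 280, 8389785, 1400, 8390330, 8390551, 8390093, 2000, 1347, 101, 8390243,
      8390181].map (comb 0 gmask) := by decide +kernel
  intro r hr
  obtain ⟨c, _, rfl⟩ := List.mem_map.1 (h r hr)
  exact word_comb_mem golayCode gmask c 0 gmask_mem

/-- the code word with information part `m` (`m < 4096`) -/
def enc (m : ℕ) : ℕ := comb 0 rows m

theorem enc_xor (a b : ℕ) : enc (a ^^^ b) = enc a ^^^ enc b := comb_xor rows a b 0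

theorem word_enc_mem (m : ℕ) : word (enc m) ∈ golayCode := word_comb_mem golayCode rows m 0 rows_mem

/-- Enumeration of the code. -/
theorem mem_golayCode_iff (w : GolayPt → ZMod 2) : w ∈ golayCode ↔ ∃ m < 4096, w = word (enc m) := by
  constructor
  · intro hw
    refine Submodule.span_induction (p := fun w _ => ∃ m < 4096, w = word (enc m)) ?_ ?_ ?_ ?_ hw
    · have h : ∀ g ∈ gmask, enc (g % 4096) = g := by decide +kernel
      have h2 : ∀ t : ZMod 23, gmask.getD t.val 0 ∈ gmask := by decide +kernel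
      rintro x (⟨t, rfl⟩ | hx)
      · refine ⟨gmask.getD t.val 0 % 4096, Nat.mod_lt _ (by norm_num), ?_⟩
        rw [h _ (h2 t), qrWord_eq]
      · rw [Set.mem_singleton_iff] at hx
        refine ⟨16777215 % 4096, by norm_num, ?_⟩
        rw [h 16777215 (by decide), hx, one_eq]
    · exact ⟨0, by norm_num, by rw [show enc 0 = 0 by decide +kernel, word_zero]⟩
    · rintro x y _ _ ⟨a, ha, rfl⟩ ⟨b, hb, rfl⟩
      refine ⟨a ^^^ b, ?_, ?_⟩
      · exact Nat.xor_lt_two_pow (n := 12) ha hb
      · rw [enc_xor, word_xor]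
    · rintro a x _ ⟨m, hm, rfl⟩
      have : ∀ a : ZMod 2, a = 0 ∨ a = 1 := by decide
      rcases this a with rfl | rfl
      · exact ⟨0, by norm_num, by rw [show enc 0 = 0 by decide +kernel, word_zero, zero_smul]⟩
      · exact ⟨m, hm, by rw [one_smul]⟩
  · rintro ⟨m, _, rfl⟩
    exact word_enc_mem m

/-- Check that a mask is a code word. -/
def inCode (m : ℕ) : Bool := enc (m % 4096) == m

theorem word_mem_of_inCode {m : ℕ} (h : inCode m = true) : word m ∈ golayCode := by
  have : enc (m % 4096) = m := by simpa [inCode] using h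
  rw [← this]; exact word_enc_mem _

/-- all numbers `m` below `2 ^ k` (shifted) satisfy `f` -/
def allB (f : ℕ → Bool) : ℕ → ℕ → Bool
  | 0, b => f b
  | k + 1, b => allB f k (2 * b) && allB f k (2 * b + 1)

theorem allB_spec (f : ℕ → Bool) : ∀ k b, allB f k b = true → ∀ m < 2 ^ k, f (b * 2 ^ k + m) = true := by
  intro k
  induction k with
  | zero =>
    intro b h m hm
    have : m = 0 := by simpa using hm
    subst this
    simpa [allB] using h
  | succ k ih =>
    intro b h m hm
    rw [allB, Bool.and_eq_true] at h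
    rw [pow_succ] at hm
    by_cases hm2 : m < 2 ^ k
    · have := ih _ h.1 m hm2
      rw [show b * 2 ^ (k + 1) + m = 2 * b * 2 ^ k + m by rw [pow_succ]; ring]
      exact this
    · have := ih _ h.2 (m - 2 ^ k) (by omega)
      rw [show b * 2 ^ (k + 1) + m = (2 * b + 1) * 2 ^ k + (m - 2 ^ k) by
        rw [pow_succ, add_mul, one_mul, mul_comm 2 b, mul_assoc, mul_comm 2 (2 ^ k)]; omega]
      exact this

/-- A property of the words of the code may be checked on the 4096 masks. -/
theorem forall_of_allB {P : (GolayPt → ZMod 2) → Prop} (f : ℕ → Bool) (hf : ∀ m, f m = true → P (word m))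
    (h : allB (fun m => f (enc m)) 12 0 = true) : ∀ w ∈ golayCode, P w := by
  intro w hw
  obtain ⟨m, hm, rfl⟩ := (mem_golayCode_iff w).1 hw
  apply hf
  simpa using allB_spec _ 12 0 h m hm

/-- number of bits of a 24-bit mask -/
def popc (m : ℕ) : ℕ :=
  (m.testBit 0).toNat + (m.testBit 1).toNat + (m.testBit 2).toNat + (m.testBit 3).toNat + (m.testBit 4).toNat +
  (m.testBit 5).toNat + (m.testBit 6).toNat + (m.testBit 7).toNat + (m.testBit 8).toNat + (m.testBit 9).toNat +
  (m.testBit 10).toNat + (m.testBit 11).toNat + (m.testBit 12).toNat + (m.testBit 13).toNat + (m.testBit 14).toNat +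
  (m.testBit 15).toNat + (m.testBit 16).toNat + (m.testBit 17).toNat + (m.testBit 18).toNat + (m.testBit 19).toNat +
  (m.testBit 20).toNat + (m.testBit 21).toNat + (m.testBit 22).toNat + (m.testBit 23).toNat

theorem card_support₂_word (m : ℕ) : (support₂ (word m)).card = popc m := by
  have h1 : (support₂ (word m)).card = ∑ p : GolayPt, (m.testBit (pos p)).toNat := by
    unfold support₂
    rw [Finset.card_filter]
    refine Finset.sum_congr rfl fun p _ => ?_
    rw [word_apply]
    cases m.testBit (pos p) <;> simp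
  have h2 : ∑ i : ZMod 23, (m.testBit (pos (some i))).toNat = ∑ n ∈ Finset.range 23, (m.testBit n).toNat :=
    Fin.sum_univ_eq_sum_range (fun n => (m.testBit n).toNat) 23
  rw [h1, Fintype.sum_option, h2]
  simp only [Finset.sum_range_succ, Finset.sum_range_zero]
  show (m.testBit 23).toNat + _ = popc m
  unfold popc
  ring

theorem support₂_word_eq_empty_of_popc {m : ℕ} (h : popc m = 0) : support₂ (word m) = ∅ := by
  rw [← Finset.card_eq_zero, card_support₂_word, h]

/-- Minimum weight 8. -/
theorem min_weight : ∀ w ∈ golayCode, w = 0 ∨ 8 ≤ (support₂ w).card := by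
  refine forall_of_allB (fun m => m == 0 || Nat.ble 8 (popc m)) ?_ ?_
  · intro m hm
    rw [Bool.or_eq_true] at hm
    rcases hm with hm | hm
    · left
      rw [show m = 0 by simpa using hm, word_zero]
    · right
      rw [card_support₂_word]
      exact Nat.le_of_ble_eq_true hm
  · decide +kernel

end Cfsg.Agent.SporadicA.M24Code
end

-- part: SporadicA/M24Upper
section
set_option autoImplicit false
open Cfsg
open scoped Pointwise

namespace Cfsg.Agent.SporadicA.M24Upper

open Cfsg.Agent.SporadicA.M24Code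

theorem support₂_injective {α : Type*} [Fintype α] : Function.Injective (support₂ (α := α)) := by
  intro v w h
  funext a
  have h1 : v a ≠ 0 ↔ w a ≠ 0 := by
    have := Finset.ext_iff.1 h a
    simpa [support₂] using this
  have h2 : ∀ x y : ZMod 2, (x ≠ 0 ↔ y ≠ 0) → x = y := by decide
  exact h2 _ _ h1

theorem smul_support₂ (g : Equiv.Perm GolayPt) (w : GolayPt → ZMod 2) :
    g • support₂ w = support₂ (fun p => w (g.symm p)) := by
  ext p
  rw [← Finset.inv_smul_mem_iff]
  simp only [support₂, Finset.mem_filter, Finset.mem_univ, true_and]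
  rfl

/-- Elements of `M24` map code words to code words. -/
theorem comp_symm_mem {g : Equiv.Perm GolayPt} (hg : g ∈ M24) {w : GolayPt → ZMod 2} (hw : w ∈ golayCode) :
    (fun p => w (g.symm p)) ∈ golayCode := by
  have h1 : g • supports (golayCode : Set (GolayPt → ZMod 2)) = supports (golayCode : Set (GolayPt → ZMod 2)) := hg
  have h2 : g • support₂ w ∈ supports (golayCode : Set (GolayPt → ZMod 2)) := by
    rw [← h1]
    exact Set.smul_mem_smul_set ⟨w, hw, rfl⟩
  rw [smul_support₂] at h2
  obtain ⟨v, hv, hv2⟩ := h2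
  rw [support₂_injective hv2] at hv
  exact hv

theorem comp_mem {g : Equiv.Perm GolayPt} (hg : g ∈ M24) {w : GolayPt → ZMod 2} (hw : w ∈ golayCode) :
    (fun p => w (g p)) ∈ golayCode :=
  comp_symm_mem (g := g⁻¹) (inv_mem hg) hw

theorem card_support₂_comp (g : Equiv.Perm GolayPt) (w : GolayPt → ZMod 2) :
    (support₂ (fun p => w (g p))).card = (support₂ w).card := by
  have h := smul_support₂ g⁻¹ w
  have h2 : (fun p => w (g⁻¹.symm p)) = fun p => w (g p) := rfl
  rw [h2] at h
  rw [← h, Finset.card_smul_finset]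

/-- A word of weight 8 of the code with at least five points of its support fixed by `g ∈ M24` is preserved
by `g`. -/
theorem octad_fixed {g : Equiv.Perm GolayPt} (hg : g ∈ M24) {w : GolayPt → ZMod 2} (hw : w ∈ golayCode)
    (h8 : (support₂ w).card = 8) {F : Finset GolayPt} (hF : ∀ p ∈ F, g p = p)
    (h5 : 5 ≤ (support₂ w ∩ F).card) : ∀ p, w (g p) = w p := by
  have hv : (fun p => w (g p)) ∈ golayCode := comp_mem hg hw
  have hs : w + (fun p => w (g p)) ∈ golayCode := golayCode.add_mem hw hv
  have hsub : support₂ (w + fun p => w (g p)) ⊆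
      (support₂ w \ (support₂ w ∩ F)) ∪ (support₂ (fun p => w (g p)) \ (support₂ w ∩ F)) := by
    intro p hp
    simp only [support₂, Finset.mem_filter, Finset.mem_univ, true_and, Finset.mem_union, Finset.mem_sdiff,
      Finset.mem_inter, Pi.add_apply] at hp ⊢
    by_cases hpF : p ∈ F
    · exfalso
      apply hp
      rw [hF p hpF]
      have : ∀ x : ZMod 2, x + x = 0 := by decide
      exact this _
    · by_cases h1 : w p = 0
      · right
        refine ⟨?_, fun h => hpF h.2⟩
        rw [h1, zero_add] at hp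
        exact hp
      · left
        exact ⟨h1, fun h => hpF h.2⟩
  have hA : (support₂ w ∩ F) ⊆ support₂ w := Finset.inter_subset_left
  have hB : (support₂ w ∩ F) ⊆ support₂ (fun p => w (g p)) := by
    intro p hp
    simp only [support₂, Finset.mem_filter, Finset.mem_univ, true_and, Finset.mem_inter] at hp ⊢
    rw [hF p hp.2]
    exact hp.1
  have c1 := Finset.card_sdiff_add_card_eq_card hA
  have c2 := Finset.card_sdiff_add_card_eq_card hB
  rw [card_support₂_comp, h8] at c2
  rw [h8] at c1
  have c3 := Finset.card_le_card hsub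
  have c4 := Finset.card_union_le (support₂ w \ (support₂ w ∩ F)) (support₂ (fun p => w (g p)) \ (support₂ w ∩ F))
  rcases min_weight _ hs with h | h
  · intro p
    have hp := congrFun h p
    simp only [Pi.add_apply, Pi.zero_apply] at hp
    have : ∀ x y : ZMod 2, x + y = 0 → y = x := by decide
    exact this _ _ hp
  · omega

theorem mem_support₂_word (m : ℕ) (p : GolayPt) : p ∈ support₂ (word m) ↔ m.testBit (pos p) = true := by
  have h : p ∈ support₂ (word m) ↔ word m p ≠ 0 := by simp [support₂]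
  rw [h, word_apply]
  cases m.testBit (pos p) <;> simp

/-- The same in terms of masks. -/
theorem mask_fixed {g : Equiv.Perm GolayPt} (hg : g ∈ M24) {c F : ℕ} (hF : ∀ p, F.testBit (pos p) = true → g p = p)
    (hc : (inCode c && (popc c == 8) && Nat.ble 5 (popc (c &&& F))) = true) :
    ∀ p, c.testBit (pos (g p)) = c.testBit (pos p) := by
  rw [Bool.and_eq_true, Bool.and_eq_true] at hc
  obtain ⟨⟨h1, h2⟩, h3⟩ := hc
  have h8 : popc c = 8 := by simpa using h2
  have h5 : 5 ≤ popc (c &&& F) := Nat.le_of_ble_eq_true h3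
  have key := octad_fixed hg (word_mem_of_inCode h1) (by rw [card_support₂_word, h8])
    (F := support₂ (word F)) (fun p hp => hF p ((mem_support₂_word F p).1 hp)) (by
      have : support₂ (word c) ∩ support₂ (word F) = support₂ (word (c &&& F)) := by
        ext p
        rw [Finset.mem_inter, mem_support₂_word, mem_support₂_word, mem_support₂_word, Nat.testBit_and,
          Bool.and_eq_true]
      rw [this, card_support₂_word]
      exact h5)
  intro p
  have := key p
  simp only [word_apply] at this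
  revert this
  cases c.testBit (pos (g p)) <;> cases c.testBit (pos p) <;> decide

/-- The octad through `∞, 0, 1, 2, 3` is preserved by the elements of `M24` fixing these points. -/
theorem base_octad_fixed {g : Equiv.Perm GolayPt} (hg : g ∈ M24) (h : g none = none) (h0 : g (some 0) = some 0)
    (h1 : g (some 1) = some 1) (h2 : g (some 2) = some 2) (h3 : g (some 3) = some 3) (p : GolayPt) :
    g p ∈ ({none, some 0, some 1, some 2, some 3, some 5, some 14, some 17} : Finset GolayPt) ↔
      p ∈ ({none, some 0, some 1, some 2, some 3, some 5, some 14, some 17} : Finset GolayPt) := by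
  have key : ∀ p, p ∈ ({none, some 0, some 1, some 2, some 3, some 5, some 14, some 17} : Finset GolayPt) ↔
      (8536111 : ℕ).testBit (pos p) = true := by decide +kernel
  rw [key, key, mask_fixed hg (c := 8536111) (F := 8388623) ?_ (by decide +kernel)]
  intro p hp
  have : ∀ p, (8388623 : ℕ).testBit (pos p) = true → p = none ∨ p = some 0 ∨ p = some 1 ∨ p = some 2 ∨
    p = some 3 := by decide +kernel
  rcases this p hp with rfl | rfl | rfl | rfl | rfl <;> assumption

/-- Only the identity of `M24` fixes the seven points `∞, 0, 1, 2, 3, 5, 4`. -/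
theorem eq_one_of_fix {g : Equiv.Perm GolayPt} (hg : g ∈ M24) (h : g none = none) (h0 : g (some 0) = some 0)
    (h1 : g (some 1) = some 1) (h2 : g (some 2) = some 2) (h3 : g (some 3) = some 3) (h5 : g (some 5) = some 5)
    (h4 : g (some 4) = some 4) : g = 1 := by
  have hF1 : ∀ p, (8388671 : ℕ).testBit (pos p) = true → g p = p := by
    intro p hp
    have : ∀ p, (8388671 : ℕ).testBit (pos p) = true → p = none ∨ p = some 0 ∨ p = some 1 ∨ p = some 2 ∨
      p = some 3 ∨ p = some 5 ∨ p = some 4 := by decide +kernel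
    rcases this p hp with rfl | rfl | rfl | rfl | rfl | rfl | rfl <;> assumption
  have hL : ∀ c ∈ ([10486557, 2162811, 5275709, 5279, 8978620, 12584506, 8683614, 12656663, 8536111] : List ℕ), ∀ p, c.testBit (pos (g p)) = c.testBit (pos p) := by
    have hchk : ∀ c ∈ ([10486557, 2162811, 5275709, 5279, 8978620, 12584506, 8683614, 12656663, 8536111] : List ℕ), (inCode c && (popc c == 8) && Nat.ble 5 (popc (c &&& 8388671))) = true := by
      decide +kernel
    intro c hc
    exact mask_fixed hg hF1 (hchk c hc)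
  have hsep1 : ∀ p q : GolayPt, (∀ c ∈ ([10486557, 2162811, 5275709, 5279, 8978620, 12584506, 8683614, 12656663, 8536111] : List ℕ), c.testBit (pos q) = c.testBit (pos p)) → q = p ∨
      (16629759 : ℕ).testBit (pos p) = false := by decide +kernel
  have hF2 : ∀ p, (16629759 : ℕ).testBit (pos p) = true → g p = p := by
    intro p hp
    rcases hsep1 p (g p) (fun c hc => hL c hc p) with h | h
    · exact h
    · rw [hp] at h; exact absurd h (by decide)
  have hc2 := mask_fixed hg (c := 3277413) hF2 (by decide +kernel)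
  have hsep2 : ∀ p q : GolayPt, (∀ c ∈ ([10486557, 2162811, 5275709, 5279, 8978620, 12584506, 8683614, 12656663, 8536111] : List ℕ), c.testBit (pos q) = c.testBit (pos p)) →
      (3277413 : ℕ).testBit (pos q) = (3277413 : ℕ).testBit (pos p) → q = p := by decide +kernel
  ext1 p
  exact hsep2 p (g p) (fun c hc => hL c hc p) (hc2 p)

end Cfsg.Agent.SporadicA.M24Upper
end

-- part: SporadicA/M24Count
section
set_option autoImplicit false
open Cfsg
open scoped Pointwise

namespace Cfsg.Agent.SporadicA.M24Count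

open MulAction

theorem perm_apply_inv (g : Equiv.Perm GolayPt) (p : GolayPt) : g (g⁻¹ p) = p := g.apply_symm_apply p

theorem perm_inv_apply (g : Equiv.Perm GolayPt) (p : GolayPt) : g⁻¹ (g p) = p := g.symm_apply_apply p

/-- One step of a stabiliser chain. -/
theorem card_step {α : Type*} (H : Subgroup (Equiv.Perm α)) (b : α) (S : Finset α)
    (hS : ∀ p, p ∈ S ↔ ∃ h ∈ H, h b = p) :
    Nat.card H = S.card * Nat.card (H ⊓ stabilizer (Equiv.Perm α) b : Subgroup (Equiv.Perm α)) := by
  have h1 : (stabilizer H b).index = (orbit H b).ncard := index_stabilizer H b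
  have h2 : orbit H b = (S : Set α) := by
    ext p
    rw [Finset.mem_coe, hS, mem_orbit_iff]
    constructor
    · rintro ⟨h, rfl⟩
      exact ⟨h.1, h.2, rfl⟩
    · rintro ⟨h, hh, rfl⟩
      exact ⟨⟨h, hh⟩, rfl⟩
  have h3 := Subgroup.card_mul_index (stabilizer H b)
  have h4 : Nat.card (stabilizer H b) =
      Nat.card (H ⊓ stabilizer (Equiv.Perm α) b : Subgroup (Equiv.Perm α)) :=
    Nat.card_congr (Equiv.subtypeSubtypeEquivSubtypeInter (fun x => x ∈ H)
      (fun x => x ∈ stabilizer (Equiv.Perm α) b))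
  rw [h1, h2, Set.ncard_coe_finset, h4] at h3
  rw [← h3, mul_comm]

variable {K H : Subgroup (Equiv.Perm GolayPt)}

theorem card_eq_of_chain (hKH : K ≤ H) (hH : H ≤ M24)
    (L0 : ∀ p : GolayPt, ∃ g ∈ K, g none = p)
    (L1 : ∀ p : GolayPt, p ≠ none → ∃ g ∈ K, g none = none ∧ g (some 0) = p)
    (L2 : ∀ p : GolayPt, p ≠ none → p ≠ some 0 → ∃ g ∈ K, g none = none ∧ g (some 0) = some 0 ∧ g (some 1) = p)
    (L3 : ∀ p : GolayPt, p ≠ none → p ≠ some 0 → p ≠ some 1 → ∃ g ∈ K, g none = none ∧ g (some 0) = some 0 ∧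
      g (some 1) = some 1 ∧ g (some 2) = p)
    (L4 : ∀ p : GolayPt, p ≠ none → p ≠ some 0 → p ≠ some 1 → p ≠ some 2 → ∃ g ∈ K, g none = none ∧
      g (some 0) = some 0 ∧ g (some 1) = some 1 ∧ g (some 2) = some 2 ∧ g (some 3) = p)
    (L5 : ∀ p : GolayPt, p = some 5 ∨ p = some 14 ∨ p = some 17 → ∃ g ∈ K, g none = none ∧
      g (some 0) = some 0 ∧ g (some 1) = some 1 ∧ g (some 2) = some 2 ∧ g (some 3) = some 3 ∧ g (some 5) = p)
    (L6 : ∀ p : GolayPt, p ∉ ({none, some 0, some 1, some 2, some 3, some 5, some 14, some 17} : Finset GolayPt) →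
      ∃ g ∈ K, g none = none ∧ g (some 0) = some 0 ∧ g (some 1) = some 1 ∧ g (some 2) = some 2 ∧
        g (some 3) = some 3 ∧ g (some 5) = some 5 ∧ g (some 4) = p) :
    Nat.card H = 244823040 := by
  have e0 := card_step H none Finset.univ (fun p => by
    refine ⟨fun _ => ?_, fun _ => Finset.mem_univ _⟩
    obtain ⟨g, hg, h⟩ := L0 p
    exact ⟨g, hKH hg, h⟩)
  have e1 := card_step (H ⊓ stabilizer (Equiv.Perm GolayPt) (none : GolayPt)) (some 0)
    (Finset.univ \ {none}) (fun p => by
      simp only [Finset.mem_sdiff, Finset.mem_univ, true_and, Finset.mem_singleton, Subgroup.mem_inf,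
        mem_stabilizer_iff, Equiv.Perm.smul_def]
      constructor
      · intro hp
        obtain ⟨g, hg, h, h'⟩ := L1 p hp
        exact ⟨g, ⟨hKH hg, h⟩, h'⟩
      · rintro ⟨g, ⟨hg, h⟩, rfl⟩ hp
        have := g.injective (hp.trans h.symm)
        exact absurd this (by decide))
  have e2 := card_step (H ⊓ stabilizer (Equiv.Perm GolayPt) (none : GolayPt) ⊓
      stabilizer (Equiv.Perm GolayPt) (some 0 : GolayPt)) (some 1)
    (Finset.univ \ {none, some 0}) (fun p => by
      simp only [Finset.mem_sdiff, Finset.mem_univ, true_and, Finset.mem_singleton, Finset.mem_insert,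
        Subgroup.mem_inf, mem_stabilizer_iff, Equiv.Perm.smul_def, not_or]
      constructor
      · rintro ⟨hp, hp0⟩
        obtain ⟨g, hg, h, h0, h'⟩ := L2 p hp hp0
        exact ⟨g, ⟨⟨hKH hg, h⟩, h0⟩, h'⟩
      · rintro ⟨g, ⟨⟨hg, h⟩, h0⟩, rfl⟩
        refine ⟨fun hp => ?_, fun hp => ?_⟩
        · exact absurd (g.injective (hp.trans h.symm)) (by decide)
        · exact absurd (g.injective (hp.trans h0.symm)) (by decide))
  have e3 := card_step (H ⊓ stabilizer (Equiv.Perm GolayPt) (none : GolayPt) ⊓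
      stabilizer (Equiv.Perm GolayPt) (some 0 : GolayPt) ⊓ stabilizer (Equiv.Perm GolayPt) (some 1 : GolayPt)) (some 2)
    (Finset.univ \ {none, some 0, some 1}) (fun p => by
      simp only [Finset.mem_sdiff, Finset.mem_univ, true_and, Finset.mem_singleton, Finset.mem_insert,
        Subgroup.mem_inf, mem_stabilizer_iff, Equiv.Perm.smul_def, not_or]
      constructor
      · rintro ⟨hp, hp0, hp1⟩
        obtain ⟨g, hg, h, h0, h1, h'⟩ := L3 p hp hp0 hp1
        exact ⟨g, ⟨⟨⟨hKH hg, h⟩, h0⟩, h1⟩, h'⟩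
      · rintro ⟨g, ⟨⟨⟨hg, h⟩, h0⟩, h1⟩, rfl⟩
        refine ⟨fun hp => ?_, fun hp => ?_, fun hp => ?_⟩
        · exact absurd (g.injective (hp.trans h.symm)) (by decide)
        · exact absurd (g.injective (hp.trans h0.symm)) (by decide)
        · exact absurd (g.injective (hp.trans h1.symm)) (by decide))
  have e4 := card_step (H ⊓ stabilizer (Equiv.Perm GolayPt) (none : GolayPt) ⊓
      stabilizer (Equiv.Perm GolayPt) (some 0 : GolayPt) ⊓ stabilizer (Equiv.Perm GolayPt) (some 1 : GolayPt) ⊓
      stabilizer (Equiv.Perm GolayPt) (some 2 : GolayPt)) (some 3)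
    (Finset.univ \ {none, some 0, some 1, some 2}) (fun p => by
      simp only [Finset.mem_sdiff, Finset.mem_univ, true_and, Finset.mem_singleton, Finset.mem_insert,
        Subgroup.mem_inf, mem_stabilizer_iff, Equiv.Perm.smul_def, not_or]
      constructor
      · rintro ⟨hp, hp0, hp1, hp2⟩
        obtain ⟨g, hg, h, h0, h1, h2, h'⟩ := L4 p hp hp0 hp1 hp2
        exact ⟨g, ⟨⟨⟨⟨hKH hg, h⟩, h0⟩, h1⟩, h2⟩, h'⟩
      · rintro ⟨g, ⟨⟨⟨⟨hg, h⟩, h0⟩, h1⟩, h2⟩, rfl⟩
        refine ⟨fun hp => ?_, fun hp => ?_, fun hp => ?_, fun hp => ?_⟩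
        · exact absurd (g.injective (hp.trans h.symm)) (by decide)
        · exact absurd (g.injective (hp.trans h0.symm)) (by decide)
        · exact absurd (g.injective (hp.trans h1.symm)) (by decide)
        · exact absurd (g.injective (hp.trans h2.symm)) (by decide))
  have e5 := card_step (H ⊓ stabilizer (Equiv.Perm GolayPt) (none : GolayPt) ⊓
      stabilizer (Equiv.Perm GolayPt) (some 0 : GolayPt) ⊓ stabilizer (Equiv.Perm GolayPt) (some 1 : GolayPt) ⊓
      stabilizer (Equiv.Perm GolayPt) (some 2 : GolayPt) ⊓ stabilizer (Equiv.Perm GolayPt) (some 3 : GolayPt))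
    (some 5) {some 5, some 14, some 17} (fun p => by
      simp only [Finset.mem_singleton, Finset.mem_insert,
        Subgroup.mem_inf, mem_stabilizer_iff, Equiv.Perm.smul_def]
      constructor
      · intro hp
        obtain ⟨g, hg, h, h0, h1, h2, h3, h'⟩ := L5 p hp
        exact ⟨g, ⟨⟨⟨⟨⟨hKH hg, h⟩, h0⟩, h1⟩, h2⟩, h3⟩, h'⟩
      · rintro ⟨g, ⟨⟨⟨⟨⟨hg, h⟩, h0⟩, h1⟩, h2⟩, h3⟩, rfl⟩
        have hoct := (M24Upper.base_octad_fixed (hH hg) h h0 h1 h2 h3 (some 5)).2 (by decide)
        simp only [Finset.mem_singleton, Finset.mem_insert] at hoct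
        rcases hoct with hp | hp | hp | hp | hp | hp
        · exact absurd (g.injective (hp.trans h.symm)) (by decide)
        · exact absurd (g.injective (hp.trans h0.symm)) (by decide)
        · exact absurd (g.injective (hp.trans h1.symm)) (by decide)
        · exact absurd (g.injective (hp.trans h2.symm)) (by decide)
        · exact absurd (g.injective (hp.trans h3.symm)) (by decide)
        · exact hp)
  have e6 := card_step (H ⊓ stabilizer (Equiv.Perm GolayPt) (none : GolayPt) ⊓
      stabilizer (Equiv.Perm GolayPt) (some 0 : GolayPt) ⊓ stabilizer (Equiv.Perm GolayPt) (some 1 : GolayPt) ⊓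
      stabilizer (Equiv.Perm GolayPt) (some 2 : GolayPt) ⊓ stabilizer (Equiv.Perm GolayPt) (some 3 : GolayPt) ⊓
      stabilizer (Equiv.Perm GolayPt) (some 5 : GolayPt))
    (some 4) (Finset.univ \ {none, some 0, some 1, some 2, some 3, some 5, some 14, some 17}) (fun p => by
      simp only [Finset.mem_sdiff, Finset.mem_univ, true_and,
        Subgroup.mem_inf, mem_stabilizer_iff, Equiv.Perm.smul_def]
      constructor
      · intro hp
        obtain ⟨g, hg, h, h0, h1, h2, h3, h5, h'⟩ := L6 p hp
        exact ⟨g, ⟨⟨⟨⟨⟨⟨hKH hg, h⟩, h0⟩, h1⟩, h2⟩, h3⟩, h5⟩, h'⟩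
      · rintro ⟨g, ⟨⟨⟨⟨⟨⟨hg, h⟩, h0⟩, h1⟩, h2⟩, h3⟩, h5⟩, rfl⟩
        intro hp
        rw [M24Upper.base_octad_fixed (hH hg) h h0 h1 h2 h3 (some 4)] at hp
        exact absurd hp (by decide))
  have e7 : (H ⊓ stabilizer (Equiv.Perm GolayPt) (none : GolayPt) ⊓
      stabilizer (Equiv.Perm GolayPt) (some 0 : GolayPt) ⊓ stabilizer (Equiv.Perm GolayPt) (some 1 : GolayPt) ⊓
      stabilizer (Equiv.Perm GolayPt) (some 2 : GolayPt) ⊓ stabilizer (Equiv.Perm GolayPt) (some 3 : GolayPt) ⊓
      stabilizer (Equiv.Perm GolayPt) (some 5 : GolayPt) ⊓ stabilizer (Equiv.Perm GolayPt) (some 4 : GolayPt)) = ⊥ := by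
    rw [Subgroup.eq_bot_iff_forall]
    intro g hg
    simp only [Subgroup.mem_inf, mem_stabilizer_iff, Equiv.Perm.smul_def] at hg
    obtain ⟨⟨⟨⟨⟨⟨⟨hg, h⟩, h0⟩, h1⟩, h2⟩, h3⟩, h5⟩, h4⟩ := hg
    exact M24Upper.eq_one_of_fix (hH hg) h h0 h1 h2 h3 h5 h4
  rw [e7, Subgroup.card_bot] at e6
  rw [e0, e1, e2, e3, e4, e5, e6]
  decide

/-- Five-transitivity from the first five levels of the chain. -/
theorem exists_map
    (L0 : ∀ p : GolayPt, ∃ g ∈ K, g none = p)
    (L1 : ∀ p : GolayPt, p ≠ none → ∃ g ∈ K, g none = none ∧ g (some 0) = p)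
    (L2 : ∀ p : GolayPt, p ≠ none → p ≠ some 0 → ∃ g ∈ K, g none = none ∧ g (some 0) = some 0 ∧ g (some 1) = p)
    (L3 : ∀ p : GolayPt, p ≠ none → p ≠ some 0 → p ≠ some 1 → ∃ g ∈ K, g none = none ∧ g (some 0) = some 0 ∧
      g (some 1) = some 1 ∧ g (some 2) = p)
    (L4 : ∀ p : GolayPt, p ≠ none → p ≠ some 0 → p ≠ some 1 → p ≠ some 2 → ∃ g ∈ K, g none = none ∧
      g (some 0) = some 0 ∧ g (some 1) = some 1 ∧ g (some 2) = some 2 ∧ g (some 3) = p)
    (x : Fin 5 → GolayPt) (hx : Function.Injective x) :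
    ∃ g ∈ K, g none = x 0 ∧ g (some 0) = x 1 ∧ g (some 1) = x 2 ∧ g (some 2) = x 3 ∧ g (some 3) = x 4 := by
  obtain ⟨g0, hg0, a0⟩ := L0 (x 0)
  have n1 : g0⁻¹ (x 1) ≠ none := by
    intro h
    rw [Equiv.Perm.inv_eq_iff_eq, a0] at h
    exact absurd (hx h) (by decide)
  obtain ⟨g1, hg1, b0, b1⟩ := L1 _ n1
  have c0 : (g0 * g1) none = x 0 := by rw [Equiv.Perm.mul_apply, b0, a0]
  have c1 : (g0 * g1) (some 0) = x 1 := by rw [Equiv.Perm.mul_apply, b1, perm_apply_inv]
  have hk1 : g0 * g1 ∈ K := mul_mem hg0 hg1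
  generalize g0 * g1 = k1 at c0 c1 hk1
  have n2 : k1⁻¹ (x 2) ≠ none := by
    intro h
    rw [Equiv.Perm.inv_eq_iff_eq, c0] at h
    exact absurd (hx h) (by decide)
  have n2' : k1⁻¹ (x 2) ≠ some 0 := by
    intro h
    rw [Equiv.Perm.inv_eq_iff_eq, c1] at h
    exact absurd (hx h) (by decide)
  obtain ⟨g2, hg2, d0, d1, d2⟩ := L2 _ n2 n2'
  have e0 : (k1 * g2) none = x 0 := by rw [Equiv.Perm.mul_apply, d0, c0]
  have e1 : (k1 * g2) (some 0) = x 1 := by rw [Equiv.Perm.mul_apply, d1, c1]
  have e2 : (k1 * g2) (some 1) = x 2 := by rw [Equiv.Perm.mul_apply, d2, perm_apply_inv]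
  have hk2 : k1 * g2 ∈ K := mul_mem hk1 hg2
  generalize k1 * g2 = k2 at e0 e1 e2 hk2
  have n3 : k2⁻¹ (x 3) ≠ none := by
    intro h
    rw [Equiv.Perm.inv_eq_iff_eq, e0] at h
    exact absurd (hx h) (by decide)
  have n3' : k2⁻¹ (x 3) ≠ some 0 := by
    intro h
    rw [Equiv.Perm.inv_eq_iff_eq, e1] at h
    exact absurd (hx h) (by decide)
  have n3'' : k2⁻¹ (x 3) ≠ some 1 := by
    intro h
    rw [Equiv.Perm.inv_eq_iff_eq, e2] at h
    exact absurd (hx h) (by decide)
  obtain ⟨g3, hg3, f0, f1, f2, f3⟩ := L3 _ n3 n3' n3''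
  have i0 : (k2 * g3) none = x 0 := by rw [Equiv.Perm.mul_apply, f0, e0]
  have i1 : (k2 * g3) (some 0) = x 1 := by rw [Equiv.Perm.mul_apply, f1, e1]
  have i2 : (k2 * g3) (some 1) = x 2 := by rw [Equiv.Perm.mul_apply, f2, e2]
  have i3 : (k2 * g3) (some 2) = x 3 := by rw [Equiv.Perm.mul_apply, f3, perm_apply_inv]
  have hk3 : k2 * g3 ∈ K := mul_mem hk2 hg3
  generalize k2 * g3 = k3 at i0 i1 i2 i3 hk3
  have n4 : k3⁻¹ (x 4) ≠ none := by
    intro h
    rw [Equiv.Perm.inv_eq_iff_eq, i0] at h
    exact absurd (hx h) (by decide)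
  have n4' : k3⁻¹ (x 4) ≠ some 0 := by
    intro h
    rw [Equiv.Perm.inv_eq_iff_eq, i1] at h
    exact absurd (hx h) (by decide)
  have n4'' : k3⁻¹ (x 4) ≠ some 1 := by
    intro h
    rw [Equiv.Perm.inv_eq_iff_eq, i2] at h
    exact absurd (hx h) (by decide)
  have n4''' : k3⁻¹ (x 4) ≠ some 2 := by
    intro h
    rw [Equiv.Perm.inv_eq_iff_eq, i3] at h
    exact absurd (hx h) (by decide)
  obtain ⟨g4, hg4, j0, j1, j2, j3, j4⟩ := L4 _ n4 n4' n4'' n4'''
  refine ⟨k3 * g4, mul_mem hk3 hg4, ?_, ?_, ?_, ?_, ?_⟩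
  · rw [Equiv.Perm.mul_apply, j0, i0]
  · rw [Equiv.Perm.mul_apply, j1, i1]
  · rw [Equiv.Perm.mul_apply, j2, i2]
  · rw [Equiv.Perm.mul_apply, j3, i3]
  · rw [Equiv.Perm.mul_apply, j4, perm_apply_inv]

/-- A group of permutations of the 24 points carrying `∞, 0, 1, 2, 3` to every tuple of five distinct points is
5-transitive. -/
theorem isMultiplyPretransitive_of_exists_map (hKH : K ≤ H)
    (h : ∀ x : Fin 5 → GolayPt, Function.Injective x → ∃ g ∈ K, g none = x 0 ∧ g (some 0) = x 1 ∧
      g (some 1) = x 2 ∧ g (some 2) = x 3 ∧ g (some 3) = x 4) :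
    IsMultiplyPretransitive H GolayPt 5 := by
  refine ⟨fun x y => ?_⟩
  obtain ⟨g, hg, a0, a1, a2, a3, a4⟩ := h x x.injective
  obtain ⟨k, hk, b0, b1, b2, b3, b4⟩ := h y y.injective
  refine ⟨⟨k * g⁻¹, hKH (mul_mem hk (inv_mem hg))⟩, ?_⟩
  ext i : 1
  rw [Function.Embedding.smul_apply, Subgroup.mk_smul, Equiv.Perm.smul_def, Equiv.Perm.mul_apply]
  fin_cases i
  · show k (g⁻¹ (x 0)) = y 0
    rw [← a0, perm_inv_apply, b0]
  · show k (g⁻¹ (x 1)) = y 1
    rw [← a1, perm_inv_apply, b1]
  · show k (g⁻¹ (x 2)) = y 2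
    rw [← a2, perm_inv_apply, b2]
  · show k (g⁻¹ (x 3)) = y 3
    rw [← a3, perm_inv_apply, b3]
  · show k (g⁻¹ (x 4)) = y 4
    rw [← a4, perm_inv_apply, b4]

end Cfsg.Agent.SporadicA.M24Count
end

-- part: SporadicA/M24Trans
section
set_option autoImplicit false
open Cfsg

namespace Cfsg.Agent.SporadicA.M24Trans

open Cfsg.Agent.SporadicA.M24Chain

/-- Every group between the group generated by the three standard permutations and `M24` has order 244823040. -/
theorem card_of_le {H : Subgroup (Equiv.Perm GolayPt)} (h1 : K ≤ H) (h2 : H ≤ M24) : Nat.card H = 244823040 :=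
  M24Count.card_eq_of_chain h1 h2 L0 L1 L2 L3 L4 L5 L6

theorem card_M24 : Nat.card M24 = 244823040 := card_of_le K_le_M24 le_rfl

theorem closure_eq : K = M24 := by
  refine Subgroup.eq_of_le_of_card_ge K_le_M24 ?_
  rw [card_M24, card_of_le le_rfl K_le_M24]

/-- Some element of `M24` carries `∞, 0, 1, 2, 3` to any given tuple of five distinct points. -/
theorem exists_map (x : Fin 5 → GolayPt) (hx : Function.Injective x) :
    ∃ g ∈ M24, g none = x 0 ∧ g (some 0) = x 1 ∧ g (some 1) = x 2 ∧ g (some 2) = x 3 ∧ g (some 3) = x 4 := by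
  obtain ⟨g, hg, h⟩ := M24Count.exists_map L0 L1 L2 L3 L4 x hx
  exact ⟨g, K_le_M24 hg, h⟩

theorem five_transitive : MulAction.IsMultiplyPretransitive M24 GolayPt 5 :=
  M24Count.isMultiplyPretransitive_of_exists_map (K := M24) le_rfl exists_map

end Cfsg.Agent.SporadicA.M24Trans
end
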