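import Mathlib
import Cfsg.Agent.SporadicA.SimpleCrit
set_option linter.all false

/-!
Faithful transitive groups of prime degree `p`: the Sylow `p`-subgroup `P` has order `p`, is its own
centraliser, and its normaliser has order `p * d` with `d = (|G| / p) mod p`.  Simplicity of such
groups when `d` is prime, and the Mathieu groups of degree 11, 23, 24.
-/

set_option autoImplicit false

namespace Cfsg.Agent.SporadicA.DegreePrime

open Subgroup MulAction

/-- A transitive commutative subgroup of a faithful permutation group contains its centraliser. -/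
theorem centralizer_le_of_isPretransitive {G Ω : Type*} [Group G] [MulAction G Ω]
    [FaithfulSMul G Ω] [Nonempty Ω] (P : Subgroup G) (hP : IsPretransitive P Ω)
    (hcomm : ∀ a ∈ P, ∀ b ∈ P, a * b = b * a) : centralizer (P : Set G) ≤ P := by
  intro c hc
  rw [mem_centralizer_iff] at hc
  obtain ⟨b⟩ := ‹Nonempty Ω›
  obtain ⟨q, hq⟩ := exists_smul_eq P b (c • b)
  have hq' : (q : G) • b = c • b := hq
  have hcq : c = (q : G) := by
    apply FaithfulSMul.eq_of_smul_eq_smul (α := Ω)
    intro x
    obtain ⟨r, hr⟩ := exists_smul_eq P b x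
    have hr' : (r : G) • b = x := hr
    rw [← hr', ← mul_smul, ← hc (r : G) r.2, mul_smul, ← hq', ← mul_smul, ← mul_smul,
      hcomm _ r.2 _ q.2]
  rw [hcq]
  exact q.2

/-- A subgroup of prime order `p` of a faithful permutation group of degree `p` is transitive. -/
theorem isPretransitive_of_card_prime {G Ω : Type*} [Group G] [MulAction G Ω] [FaithfulSMul G Ω]
    (p : ℕ) [Fact p.Prime] (hΩ : Nat.card Ω = p) (P : Subgroup G) (hP : Nat.card P = p) :
    IsPretransitive P Ω := by
  have hp : p.Prime := Fact.out
  have hfΩ : Finite Ω := Nat.finite_of_card_ne_zero (by rw [hΩ]; exact hp.ne_zero)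
  have hfP : Finite P := Nat.finite_of_card_ne_zero (by rw [hP]; exact hp.ne_zero)
  have hnt : Nontrivial P := by
    rw [← Finite.one_lt_card_iff_nontrivial, hP]; exact hp.one_lt
  obtain ⟨g, hg⟩ := exists_ne (1 : P)
  have : ∃ b : Ω, g • b ≠ b := by
    by_contra hcon
    push Not at hcon
    apply hg
    apply Subtype.ext
    apply FaithfulSMul.eq_of_smul_eq_smul (α := Ω)
    intro x
    have := hcon x
    rw [Subgroup.coe_one, one_smul]
    exact this
  obtain ⟨b, hb⟩ := this
  have h1 : Nat.card (orbit P b) ∣ p := by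
    rw [← hP, Nat.card_congr (orbitEquivQuotientStabilizer P b)]
    exact Subgroup.card_quotient_dvd_card _
  have h2 : Nat.card (orbit P b) ≠ 1 := by
    intro h
    rw [Nat.card_eq_one_iff_unique] at h
    obtain ⟨hs, -⟩ := h
    have := hs.elim ⟨g • b, mem_orbit b g⟩ ⟨b, mem_orbit_self b⟩
    exact hb (congrArg Subtype.val this)
  have h3 : Nat.card (orbit P b) = p := by
    rcases (Nat.dvd_prime hp).1 h1 with h | h
    · exact absurd h h2
    · exact h
  have h4 : orbit P b = Set.univ := by
    apply Set.eq_of_subset_of_ncard_le (Set.subset_univ _) _ (Set.toFinite _)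
    rw [Set.ncard_univ, hΩ]
    exact h3.ge
  refine ⟨fun x y => ?_⟩
  have hx : x ∈ orbit P b := by rw [h4]; trivial
  have hy : y ∈ orbit P b := by rw [h4]; trivial
  obtain ⟨u, hu⟩ := hx
  obtain ⟨v, hv⟩ := hy
  refine ⟨v * u⁻¹, ?_⟩
  simp only at hu hv
  rw [← hu, ← hv, mul_smul, inv_smul_smul]

/-- In a group of order exactly divisible by `p` once, a Sylow `p`-subgroup has order `p`. -/
theorem card_sylow_of_factorization {G : Type*} [Group G] [Finite G] (p : ℕ) [Fact p.Prime]
    (P : Sylow p G) (h1 : p ∣ Nat.card G) (h2 : ¬ p ^ 2 ∣ Nat.card G) : Nat.card P = p := by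
  have hp : p.Prime := Fact.out
  rw [Sylow.card_eq_multiplicity]
  have hne : Nat.card G ≠ 0 := Nat.card_pos.ne'
  have h3 : 1 ≤ (Nat.card G).factorization p :=
    (hp.dvd_iff_one_le_factorization hne).1 h1
  have h4 : ¬ 2 ≤ (Nat.card G).factorization p := fun h =>
    h2 ((hp.pow_dvd_iff_le_factorization hne).2 h)
  have h5 : (Nat.card G).factorization p = 1 := by omega
  rw [h5, pow_one]

/-- The order of the normaliser of a self-centralising Sylow subgroup of prime order. -/
theorem card_normalizer_of_self_centralizing {G : Type*} [Group G] [Finite G] (p : ℕ)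
    [Fact p.Prime] (P : Sylow p G) (hP : Nat.card P = p)
    (hC : centralizer ((P : Subgroup G) : Set G) ≤ P) :
    Nat.card (normalizer (P : Set G)) = p * (Nat.card G / p % p) := by
  have hp : p.Prime := Fact.out
  have hcyc : IsCyclic P := isCyclic_of_prime_card hP
  have hcomm : ∀ a ∈ (P : Subgroup G), ∀ b ∈ (P : Subgroup G), a * b = b * a := by
    intro a ha b hb
    have := (IsCyclic.commGroup (α := P)).mul_comm ⟨a, ha⟩ ⟨b, hb⟩
    exact congrArg Subtype.val this
  have hPC : centralizer ((P : Subgroup G) : Set G) = (P : Subgroup G) := by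
    apply le_antisymm hC
    intro x hx
    rw [mem_centralizer_iff]
    intro y hy
    exact hcomm y hy x hx
  have key := card_dvd_of_injective _
    (QuotientGroup.kerLift_injective (P : Subgroup G).normalizerMonoidHom)
  rw [normalizerMonoidHom_ker, ← index, ← relIndex] at key
  have hcardP : Nat.card ↥(P : Subgroup G) = p := hP
  rw [IsCyclic.card_mulAut, hcardP, Nat.totient_prime hp, hPC] at key
  have hle : (P : Subgroup G) ≤ normalizer (P : Set G) := le_normalizer
  have h1 : Nat.card (normalizer (P : Set G)) =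
      p * (P : Subgroup G).relIndex (normalizer (P : Set G)) := by
    have h2 := Subgroup.card_mul_index ((P : Subgroup G).subgroupOf (normalizer (P : Set G)))
    rw [Nat.card_congr (subgroupOfEquivOfLe hle).toEquiv, hcardP] at h2
    exact h2.symm
  set d := (P : Subgroup G).relIndex (normalizer (P : Set G)) with hd
  have hp1 : 0 < p - 1 := Nat.sub_pos_of_lt hp.one_lt
  have hdle : d ≤ p - 1 := Nat.le_of_dvd hp1 key
  have hmod := card_sylow_modEq_one p G
  rw [Sylow.card_eq_index_normalizer P] at hmod
  have h3 := Subgroup.card_mul_index (normalizer (P : Set G))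
  rw [h1] at h3
  have h4 : Nat.card G / p = d * (normalizer (P : Set G)).index := by
    rw [← h3, mul_assoc]
    exact Nat.mul_div_cancel_left _ hp.pos
  have h5 : Nat.card G / p % p = d := by
    rw [h4]
    have h6 : d * (normalizer (P : Set G)).index ≡ d * 1 [MOD p] := hmod.mul_left d
    rw [mul_one] at h6
    have h7 : d % p = d := Nat.mod_eq_of_lt (by omega)
    have h8 : d * (normalizer (P : Set G)).index % p = d % p := h6
    rw [h8, h7]
  rw [h1, h5]

/-- Order of the normaliser of a Sylow `p`-subgroup in a faithful group of prime degree `p`. -/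
theorem card_normalizer {G Ω : Type*} [Group G] [Finite G] [MulAction G Ω] [FaithfulSMul G Ω]
    (p : ℕ) [Fact p.Prime] (hΩ : Nat.card Ω = p) (h1 : p ∣ Nat.card G)
    (h2 : ¬ p ^ 2 ∣ Nat.card G) (P : Sylow p G) :
    Nat.card (normalizer (P : Set G)) = p * (Nat.card G / p % p) := by
  have hp : p.Prime := Fact.out
  have hP := card_sylow_of_factorization p P h1 h2
  have hne : Nonempty Ω := by
    apply (Nat.card_ne_zero.1 _).1
    rw [hΩ]; exact hp.ne_zero
  apply card_normalizer_of_self_centralizing p P hP
  apply centralizer_le_of_isPretransitive (Ω := Ω) _ (isPretransitive_of_card_prime p hΩ _ hP)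
  have hcyc : IsCyclic P := isCyclic_of_prime_card hP
  intro a ha b hb
  have := (IsCyclic.commGroup (α := P)).mul_comm ⟨a, ha⟩ ⟨b, hb⟩
  exact congrArg Subtype.val this

/-- **Simplicity of groups of prime degree** `p` in which `(|G| / p) mod p = q` is prime and
`|G| ≠ p * q`. -/
theorem isSimpleGroup_of_prime_degree {G Ω : Type*} [Group G] [Finite G] [MulAction G Ω]
    [FaithfulSMul G Ω] (p q : ℕ) [Fact p.Prime] (hΩ : Nat.card Ω = p) (h1 : p ∣ Nat.card G)
    (h2 : ¬ p ^ 2 ∣ Nat.card G) (hq : q.Prime) (hd : Nat.card G / p % p = q)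
    (hne : Nat.card G ≠ p * q) : IsSimpleGroup G := by
  have hp : p.Prime := Fact.out
  obtain ⟨P⟩ : Nonempty (Sylow p G) := inferInstance
  have hP := card_sylow_of_factorization p P h1 h2
  have hnonempty : Nonempty Ω := by
    apply (Nat.card_ne_zero.1 _).1
    rw [hΩ]; exact hp.ne_zero
  have htP := isPretransitive_of_card_prime p hΩ (P : Subgroup G) hP
  have htr : IsPretransitive G Ω := by
    refine ⟨fun x y => ?_⟩
    obtain ⟨g, hg⟩ := exists_smul_eq (P : Subgroup G) x y
    exact ⟨(g : G), hg⟩
  have hprim : IsPreprimitive G Ω := IsPreprimitive.of_prime_card (by rw [hΩ]; exact hp)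
  apply SimpleCrit.isSimpleGroup_of_primitive hprim p q hq (by rw [hΩ]) P hP _ hne
  rw [card_normalizer (Ω := Ω) p hΩ h1 h2 P, hd]

/-- A faithful group of degree 23 and order 10200960 is simple. -/
theorem isSimpleGroup_of_card_degree23 {G Ω : Type*} [Group G] [MulAction G Ω]
    [FaithfulSMul G Ω] (hΩ : Nat.card Ω = 23) (hG : Nat.card G = 10200960) : IsSimpleGroup G := by
  have : Fact (Nat.Prime 23) := ⟨by norm_num⟩
  have : Finite G := Nat.finite_of_card_ne_zero (by rw [hG]; norm_num)
  exact isSimpleGroup_of_prime_degree (Ω := Ω) 23 11 hΩ (by rw [hG]; norm_num)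
    (by rw [hG]; norm_num) (by norm_num) (by rw [hG]) (by rw [hG]; norm_num)

/-- A faithful group of degree 11 and order 7920 is simple. -/
theorem isSimpleGroup_of_card_degree11 {G Ω : Type*} [Group G] [MulAction G Ω]
    [FaithfulSMul G Ω] (hΩ : Nat.card Ω = 11) (hG : Nat.card G = 7920) : IsSimpleGroup G := by
  have : Fact (Nat.Prime 11) := ⟨by norm_num⟩
  have : Finite G := Nat.finite_of_card_ne_zero (by rw [hG]; norm_num)
  exact isSimpleGroup_of_prime_degree (Ω := Ω) 11 5 hΩ (by rw [hG]; norm_num)
    (by rw [hG]; norm_num) (by norm_num) (by rw [hG]) (by rw [hG]; norm_num)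

/-- A faithful 2-transitive group of degree `n + 1`, with point stabilisers simple whenever
they act on the `n` remaining points with the right order. -/
theorem card_stabilizer_of_isPretransitive {G Ω : Type*} [Group G] [MulAction G Ω]
    [IsPretransitive G Ω] (a : Ω) :
    Nat.card (stabilizer G a) * Nat.card Ω = Nat.card G := by
  have h1 := Subgroup.card_mul_index (stabilizer G a)
  rwa [index_stabilizer_of_transitive] at h1

/-- A faithful 2-transitive group of degree 24 and order 244823040 is simple. -/
theorem isSimpleGroup_of_card_degree24 {G Ω : Type*} [Group G] [MulAction G Ω]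
    [FaithfulSMul G Ω] (hΩ : Nat.card Ω = 24) (h2 : IsMultiplyPretransitive G Ω 2)
    (hG : Nat.card G = 244823040) : IsSimpleGroup G := by
  have : Finite G := Nat.finite_of_card_ne_zero (by rw [hG]; norm_num)
  have hfΩ : Finite Ω := Nat.finite_of_card_ne_zero (by rw [hΩ]; norm_num)
  have hprim : IsPreprimitive G Ω := isPreprimitive_of_is_two_pretransitive h2
  have hpre : IsPretransitive G Ω := inferInstance
  obtain ⟨a⟩ : Nonempty Ω := (Nat.card_ne_zero.1 (by rw [hΩ]; norm_num)).1
  have hst : Nat.card (stabilizer G a) = 10200960 := by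
    have := card_stabilizer_of_isPretransitive (G := G) a
    rw [hG, hΩ] at this
    omega
  have hc : Nat.card (SubMulAction.ofStabilizer G a) = 23 := by
    have := SubMulAction.nat_card_ofStabilizer_eq G a
    rw [this, hΩ]
  have hf : FaithfulSMul (stabilizer G a) (SubMulAction.ofStabilizer G a) := by
    refine ⟨fun {g h} hgh => ?_⟩
    apply Subtype.ext
    apply FaithfulSMul.eq_of_smul_eq_smul (α := Ω)
    intro x
    by_cases hx : x = a
    · have hg := g.2
      have hh := h.2
      rw [mem_stabilizer_iff] at hg hh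
      rw [hx, hg, hh]
    · have := hgh ⟨x, (SubMulAction.mem_ofStabilizer_iff G a).2 hx⟩
      exact congrArg Subtype.val this
  apply SimpleCrit.isSimpleGroup_of_simple_stabilizer h2 a
    (isSimpleGroup_of_card_degree23 (Ω := SubMulAction.ofStabilizer G a) hc hst)
  rw [hΩ, isPrimePow_nat_iff]
  rintro ⟨p, k, hp, -, h⟩
  have h2' : (2 : ℕ) ∣ p ^ k := by rw [h]; norm_num
  have h3' : (3 : ℕ) ∣ p ^ k := by rw [h]; norm_num
  have h2'' := (Nat.prime_dvd_prime_iff_eq Nat.prime_two hp).1 (Nat.prime_two.dvd_of_dvd_pow h2')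
  have h3'' := (Nat.prime_dvd_prime_iff_eq Nat.prime_three hp).1 (Nat.prime_three.dvd_of_dvd_pow h3')
  omega

end Cfsg.Agent.SporadicA.DegreePrime
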