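import Cfsg.Prelude.Def_Sporadic_a
import Cfsg.Prelude.Def_Spor_Conway
import Cfsg.Prelude.Def_SporadicCombinatorics
set_option linter.all false

/-!
The order of `Co0` from: transitivity on the vectors of sum of squares 64, their number, the size of
a cross, and the order of the stabiliser of the standard cross.
-/

set_option autoImplicit false
open Cfsg

namespace Cfsg.Agent.SporadicA.Co0Card

/-- `(g • v)` as a permutation application. -/
theorem smul_def (g : Co0) (v : leechLattice) : g • v = g.1 v := rfl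

theorem smul_add' (g : Co0) (v w : leechLattice) : g • (v + w) = g • v + g • w := g.2.1 v w

theorem sqNorm_smul (g : Co0) (v : leechLattice) :
    sqNorm ((g • v : leechLattice) : GolayPt → ℤ) = sqNorm (v : GolayPt → ℤ) := g.2.2 v

/-- The additive map given by an element of `Co0`. -/
def toHom (g : Co0) : leechLattice →+ leechLattice := AddMonoidHom.mk' (fun v => g • v) (smul_add' g)

theorem smul_sub' (g : Co0) (v w : leechLattice) : g • (v - w) = g • v - g • w :=
  (toHom g).map_sub v w

theorem smul_nsmul' (g : Co0) (n : ℕ) (v : leechLattice) : g • (n • v) = n • (g • v) :=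
  map_nsmul (toHom g) n v

/-- Membership of `4 e_i + 4 s e_j`-type vectors: all coordinates divisible by 4, sum divisible by 8. -/
theorem mem_of_four (x : GolayPt → ℤ) (h4 : ∀ i, x i ≡ 0 [ZMOD 4]) (hs : ∑ i, x i ≡ 0 [ZMOD 8]) :
    x ∈ leechLattice := by
  apply AddSubgroup.subset_closure
  exact Cfsg.Spor.mem_leechSet_of_const_mod_four x 0 0 (by decide) h4 (by simpa using hs)

theorem single8_mem (i : GolayPt) (s : ℤ) (hs : s = 8 ∨ s = -8) :
    (Pi.single i s : GolayPt → ℤ) ∈ leechLattice := by
  apply mem_of_four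
  · intro j
    by_cases h : j = i
    · subst h
      rw [Pi.single_eq_same]
      rcases hs with rfl | rfl <;> decide
    · rw [Pi.single_eq_of_ne h]
  · rw [Finset.sum_pi_single']
    simp only [Finset.mem_univ, if_true]
    rcases hs with rfl | rfl <;> decide

theorem pair4_mem (i j : GolayPt) (s t : ℤ) (hs : s = 4 ∨ s = -4) (ht : t = 4 ∨ t = -4) :
    (Pi.single i s + Pi.single j t : GolayPt → ℤ) ∈ leechLattice := by
  apply mem_of_four
  · intro k
    have h1 : (Pi.single i s : GolayPt → ℤ) k ≡ 0 [ZMOD 4] := by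
      by_cases h : k = i
      · subst h
        rw [Pi.single_eq_same]
        rcases hs with rfl | rfl <;> decide
      · rw [Pi.single_eq_of_ne h]
    have h2 : (Pi.single j t : GolayPt → ℤ) k ≡ 0 [ZMOD 4] := by
      by_cases h : k = j
      · subst h
        rw [Pi.single_eq_same]
        rcases ht with rfl | rfl <;> decide
      · rw [Pi.single_eq_of_ne h]
    simpa using h1.add h2
  · simp only [Pi.add_apply, Finset.sum_add_distrib, Finset.sum_pi_single', Finset.mem_univ, if_true]
    rcases hs with rfl | rfl <;> rcases ht with rfl | rfl <;> decide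

theorem sqNorm_single (i : GolayPt) (s : ℤ) : sqNorm (Pi.single i s : GolayPt → ℤ) = s ^ 2 := by
  unfold sqNorm
  rw [Finset.sum_eq_single i]
  · rw [Pi.single_eq_same]
  · intro j _ h
    rw [Pi.single_eq_of_ne h]; rfl
  · intro h; exact absurd (Finset.mem_univ _) h

/-- The base vector `8 e_∞`. -/
def v0 : leechLattice := ⟨Pi.single none 8, single8_mem none 8 (Or.inl rfl)⟩

theorem sqNorm_v0 : sqNorm (v0 : GolayPt → ℤ) = 64 := by
  show sqNorm (Pi.single none 8 : GolayPt → ℤ) = 64
  rw [sqNorm_single]; norm_num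

theorem stdCross_subset_cross : stdCross ⊆ cross (v0 : GolayPt → ℤ) := by
  rintro y ⟨i, s, hs, rfl⟩
  refine ⟨single8_mem i s hs, ?_, ?_⟩
  · rw [sqNorm_v0, sqNorm_single]
    rcases hs with rfl | rfl <;> norm_num
  · rcases hs with rfl | rfl
    · refine ⟨Pi.single none 4 + Pi.single i (-4), pair4_mem _ _ _ _ (Or.inl rfl) (Or.inr rfl), ?_⟩
      show (Pi.single none 8 : GolayPt → ℤ) - Pi.single i 8 = _
      ext j
      simp only [Pi.sub_apply, Pi.smul_apply, Pi.add_apply, Pi.single_apply]
      split_ifs <;> norm_num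
    · refine ⟨Pi.single none 4 + Pi.single i 4, pair4_mem _ _ _ _ (Or.inl rfl) (Or.inl rfl), ?_⟩
      show (Pi.single none 8 : GolayPt → ℤ) - Pi.single i (-8) = _
      ext j
      simp only [Pi.sub_apply, Pi.smul_apply, Pi.add_apply, Pi.single_apply]
      split_ifs <;> norm_num

/-- Parametrisation of the standard cross. -/
def crossFun (p : GolayPt × Bool) : GolayPt → ℤ := Pi.single p.1 (if p.2 then 8 else -8)

theorem crossFun_injective : Function.Injective crossFun := by
  rintro ⟨i, b⟩ ⟨j, c⟩ h
  have hi : (if b then (8 : ℤ) else -8) = (Pi.single j (if c then (8 : ℤ) else -8) : GolayPt → ℤ) i := by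
    have := congrFun h i
    simpa [crossFun] using this
  by_cases hij : i = j
  · subst hij
    rw [Pi.single_eq_same] at hi
    congr 1
    cases b <;> cases c <;> simp_all
  · rw [Pi.single_eq_of_ne hij] at hi
    cases b <;> simp at hi

theorem stdCross_eq_range : stdCross = Set.range crossFun := by
  ext y
  constructor
  · rintro ⟨i, s, hs, rfl⟩
    rcases hs with rfl | rfl
    · exact ⟨(i, true), by simp [crossFun]⟩
    · exact ⟨(i, false), by simp [crossFun]⟩
  · rintro ⟨⟨i, b⟩, rfl⟩
    refine ⟨i, if b then 8 else -8, ?_, rfl⟩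
    cases b <;> simp

theorem ncard_stdCross : stdCross.ncard = 48 := by
  rw [stdCross_eq_range, ← Set.image_univ, Set.ncard_image_of_injective _ crossFun_injective,
    Set.ncard_univ, Nat.card_eq_fintype_card]
  decide

/-- Membership in the cross of a vector, for lattice elements. -/
theorem smul_mem_cross (g : Co0) (x y : leechLattice) (h : (y : GolayPt → ℤ) ∈ cross (x : GolayPt → ℤ)) :
    ((g • y : leechLattice) : GolayPt → ℤ) ∈ cross ((g • x : leechLattice) : GolayPt → ℤ) := by
  obtain ⟨_, hn, z, hz, hxy⟩ := h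
  refine ⟨(g • y).2, ?_, ((g • (⟨z, hz⟩ : leechLattice) : leechLattice) : GolayPt → ℤ), (g • _ : leechLattice).2, ?_⟩
  · rw [sqNorm_smul, sqNorm_smul]; exact hn
  · have h1 : x - y = (2 : ℕ) • (⟨z, hz⟩ : leechLattice) := by
      apply Subtype.ext
      show (x : GolayPt → ℤ) - y = _
      rw [hxy]
      simp
    have h2 : g • x - g • y = (2 : ℕ) • (g • (⟨z, hz⟩ : leechLattice)) := by
      rw [← smul_sub', h1, smul_nsmul']
    have h3 := congrArg (fun u : leechLattice => (u : GolayPt → ℤ)) h2
    simpa using h3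

theorem cross_eq_of_mem {x y : GolayPt → ℤ} (h : y ∈ cross x) :
    cross y = cross x := by
  obtain ⟨hy, hn, z, hz, hxy⟩ := h
  ext u
  constructor
  · rintro ⟨hu, hnu, w, hw, hyu⟩
    refine ⟨hu, hnu.trans hn, z + w, leechLattice.add_mem hz hw, ?_⟩
    rw [smul_add, ← hxy, ← hyu]; abel
  · rintro ⟨hu, hnu, w, hw, hxu⟩
    refine ⟨hu, hnu.trans hn.symm, w - z, leechLattice.sub_mem hw hz, ?_⟩
    rw [smul_sub, ← hxy, ← hxu]; abel

/-- The order of `Co0`. -/
theorem card_co0
    (horb : ∀ v w : leechLattice, sqNorm (v : GolayPt → ℤ) = 64 → sqNorm (w : GolayPt → ℤ) = 64 →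
      ∃ g : Co0, g • v = w)
    (hcount : {x : GolayPt → ℤ | x ∈ leechLattice ∧ sqNorm x = 64}.ncard = 398034000)
    (hcross : ∀ x : GolayPt → ℤ, x ∈ leechLattice → sqNorm x = 64 → (cross x).ncard = 48)
    (hK : Nat.card {g : Co0 // ∀ v : leechLattice, (v : GolayPt → ℤ) ∈ stdCross →
      ((g • v : leechLattice) : GolayPt → ℤ) ∈ stdCross} = 4096 * 244823040) :
    Nat.card Co0 = 8315553613086720000 := by
  -- the standard cross is the cross of `v0`
  have hstd : stdCross = cross (v0 : GolayPt → ℤ) := by
    have hc := hcross _ v0.2 sqNorm_v0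
    have hfin : (cross (v0 : GolayPt → ℤ)).Finite := by
      apply Set.finite_of_ncard_ne_zero
      rw [hc]; norm_num
    exact Set.eq_of_subset_of_ncard_le stdCross_subset_cross (by rw [hc, ncard_stdCross]) hfin
  -- the key property
  have key : ∀ g : Co0, (∀ v : leechLattice, (v : GolayPt → ℤ) ∈ stdCross →
      ((g • v : leechLattice) : GolayPt → ℤ) ∈ stdCross) ↔
      ((g • v0 : leechLattice) : GolayPt → ℤ) ∈ stdCross := by
    intro g
    constructor
    · intro h
      exact h v0 ⟨none, 8, Or.inl rfl, rfl⟩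
    · intro h v hv
      rw [hstd] at h hv ⊢
      have h1 := smul_mem_cross g v0 v hv
      rw [cross_eq_of_mem h] at h1
      exact h1
  -- the set of elements mapping v0 into the cross
  have hK' : Nat.card {g : Co0 // ((g • v0 : leechLattice) : GolayPt → ℤ) ∈ stdCross} =
      4096 * 244823040 := by
    rw [← hK]
    exact Nat.card_congr (Equiv.subtypeEquivRight fun g => (key g).symm)
  -- count by fibres
  let S : Subgroup Co0 := MulAction.stabilizer Co0 v0
  let O : Type := {w : leechLattice // sqNorm (w : GolayPt → ℤ) = 64}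
  have hO : Nat.card O = 398034000 := by
    rw [← hcount, ← Nat.card_coe_set_eq]
    refine Nat.card_congr ⟨fun w => ⟨w.1.1, w.1.2, w.2⟩, fun x => ⟨⟨x.1, x.2.1⟩, x.2.2⟩, ?_, ?_⟩
    · intro w; rfl
    · intro x; rfl
  have hch : ∀ w : O, ∃ g : Co0, g • v0 = w.1 := fun w => horb v0 w.1 sqNorm_v0 w.2
  choose t ht using hch
  -- bijection Co0 ≃ O × S
  let e : Co0 ≃ O × S :=
    { toFun := fun g => (⟨g • v0, by rw [sqNorm_smul, sqNorm_v0]⟩,
        ⟨(t ⟨g • v0, by rw [sqNorm_smul, sqNorm_v0]⟩)⁻¹ * g, by
          show _ • v0 = v0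
          rw [mul_smul, inv_smul_eq_iff, ht]⟩)
      invFun := fun p => t p.1 * p.2.1
      left_inv := by
        intro g
        simp
      right_inv := by
        rintro ⟨w, s⟩
        have hs : (s : Co0) • v0 = v0 := s.2
        have hw : (t w * (s : Co0)) • v0 = w.1 := by rw [mul_smul, hs, ht]
        have hw' : (⟨(t w * (s : Co0)) • v0, by rw [sqNorm_smul, sqNorm_v0]⟩ : O) = w :=
          Subtype.ext hw
        refine Prod.ext hw' (Subtype.ext ?_)
        show (t ⟨(t w * (s : Co0)) • v0, _⟩)⁻¹ * (t w * (s : Co0)) = s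
        rw [hw', inv_mul_cancel_left] }
  have hmem : ∀ p : GolayPt × Bool, crossFun p ∈ leechLattice := by
    intro p
    refine single8_mem _ _ ?_
    cases p.2 <;> simp
  have hnorm : ∀ p : GolayPt × Bool, sqNorm (crossFun p) = 64 := by
    intro p
    unfold crossFun
    rw [sqNorm_single]
    cases p.2 <;> norm_num
  -- stdCross part
  let P : Type := {g : Co0 // ((g • v0 : leechLattice) : GolayPt → ℤ) ∈ stdCross}
  let D : Type := {w : O // (w.1 : GolayPt → ℤ) ∈ stdCross}
  have hD : Nat.card D = 48 := by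
    rw [← ncard_stdCross, ← Nat.card_coe_set_eq]
    refine Nat.card_congr ⟨fun w => ⟨w.1.1.1, w.2⟩, fun x => ⟨⟨⟨x.1, ?_⟩, ?_⟩, ?_⟩, ?_, ?_⟩
    · exact (hstd.subset x.2).1
    · exact (hstd.subset x.2).2.1.trans sqNorm_v0
    · exact x.2
    · intro w; rfl
    · intro x; rfl
  let e' : P ≃ D × S :=
    { toFun := fun g => (⟨(e g.1).1, g.2⟩, (e g.1).2)
      invFun := fun p => ⟨e.symm (p.1.1, p.2), by
        have : (e.symm (p.1.1, p.2)) • v0 = p.1.1.1 := by
          have h1 := e.apply_symm_apply (p.1.1, p.2)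
          have h2 := congrArg (fun q : O × S => q.1.1) h1
          exact h2
        rw [this]
        exact p.1.2⟩
      left_inv := by
        intro g
        apply Subtype.ext
        show e.symm ((e g.1).1, (e g.1).2) = g.1
        rw [Prod.mk.eta, e.symm_apply_apply]
      right_inv := by
        rintro ⟨w, s⟩
        have h1 := e.apply_symm_apply (w.1, s)
        refine Prod.ext (Subtype.ext ?_) ?_
        · show (e (e.symm (w.1, s))).1 = w.1
          rw [h1]
        · show (e (e.symm (w.1, s))).2 = s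
          rw [h1] }
  have h1 : Nat.card P = 48 * Nat.card S := by
    rw [Nat.card_congr e', Nat.card_prod, hD]
  have h2 : Nat.card Co0 = 398034000 * Nat.card S := by
    rw [Nat.card_congr e, Nat.card_prod, hO]
  have h3 : Nat.card P = 4096 * 244823040 := hK'
  have h4 : Nat.card S = 20891566080 := by
    rw [h1] at h3
    omega
  rw [h2, h4]

end Cfsg.Agent.SporadicA.Co0Card
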