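import Cfsg.Agent.Leech.Xi
import Cfsg.Agent.SporadicStructure.GolayInterp
import Cfsg.Agent.SporadicA.Co0Mono
set_option linter.all false

/-!
`Co0` is transitive on the vectors of `leechLattice` of sum of squares 64.

Maximise the largest absolute value of a coordinate over the orbit; the maps `xi` composed with sign
changes replace a coordinate by half the sum of the absolute values of four coordinates.
-/

set_option autoImplicit false
open Cfsg

namespace Cfsg.Agent.SporadicA.Norm64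

open Cfsg.Agent.SporadicA.Co0Mono

/-! ### the moves -/

theorem exists_sign (v : leechLattice) (t : Finset GolayPt) (ht : t.card ≤ 7) (x : GolayPt → ℤ)
    (hx : ∀ i ∈ t, x i = (v : GolayPt → ℤ) i ∨ x i = -(v : GolayPt → ℤ) i) :
    ∃ g : Co0, (∀ i ∈ t, ((g • v : leechLattice) : GolayPt → ℤ) i = x i) ∧
      ∀ i, ((g • v : leechLattice) : GolayPt → ℤ) i = (v : GolayPt → ℤ) i ∨
        ((g • v : leechLattice) : GolayPt → ℤ) i = -(v : GolayPt → ℤ) i := by
  classical
  obtain ⟨w, hw, hwt⟩ := Cfsg.Agent.SporadicStructure.GolayInterp.exists_word_interp t ht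
    (fun i => if x i = (v : GolayPt → ℤ) i then 0 else 1)
  refine ⟨signCo0 ⟨w, hw⟩, fun i hi => ?_, fun i => ?_⟩
  · rw [signCo0_smul, signMap_apply]
    show sgn (w i) * _ = _
    rw [hwt i hi]
    by_cases h : x i = (v : GolayPt → ℤ) i
    · rw [if_pos h, sgn_zero, one_mul, h]
    · rw [if_neg h, sgn_one, (hx i hi).resolve_left h]
      ring
  · rw [signCo0_smul, signMap_apply]
    show sgn (w i) * _ = _ ∨ sgn (w i) * _ = _
    rcases Cfsg.Agent.SporadicStructure.LeechBase.zmod2_cases (w i) with h | h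
    · left; rw [h, sgn_zero, one_mul]
    · right; rw [h, sgn_one]; ring

/-- The basic move: for four distinct points and a choice of signs `x` of the coordinates of `v` on
them, some `g` in `Co0` maps `v` to a vector with coordinates `(x p + x q + x r + x s) / 2 - x i`
on the four points. -/
theorem move (v : leechLattice) {p q r s : GolayPt} (hpq : p ≠ q) (hpr : p ≠ r) (hps : p ≠ s)
    (hqr : q ≠ r) (hqs : q ≠ s) (hrs : r ≠ s) (x : GolayPt → ℤ)
    (hx : ∀ i, x i = (v : GolayPt → ℤ) i ∨ x i = -(v : GolayPt → ℤ) i) :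
    ∃ g : Co0, ∀ i, (i = p ∨ i = q ∨ i = r ∨ i = s) →
      2 * ((g • v : leechLattice) : GolayPt → ℤ) i = (x p + x q + x r + x s) - 2 * x i := by
  classical
  have hcard : ({p, q, r, s} : Finset GolayPt).card = 4 := by
    rw [Finset.card_insert_of_notMem, Finset.card_insert_of_notMem, Finset.card_insert_of_notMem,
      Finset.card_singleton]
    · simpa using hrs
    · simp [hqr, hqs]
    · simp [hpq, hpr, hps]
  obtain ⟨g, hg, -⟩ := exists_sign v {p, q, r, s} (by rw [hcard]; norm_num) x (fun i _ => hx i)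
  obtain ⟨S, hS, hT⟩ := Cfsg.Agent.Leech.Code.exists_sextet {p, q, r, s} hcard
  refine ⟨Cfsg.Agent.Leech.Xi.xi S _ hS hT * g, fun i hi => ?_⟩
  have hi' : i ∈ ({p, q, r, s} : Finset GolayPt) := by
    simpa [or_assoc] using hi
  rw [mul_smul, Cfsg.Agent.Leech.Xi.xi_coe, Cfsg.Agent.Leech.Xi.xiMap_apply, if_pos hi']
  have h1 := Cfsg.Agent.Leech.Xi.two_mul_hsum hS (g • v).2 i
  rw [Cfsg.Agent.Leech.Xi.tet_eq hS hT hi'] at h1
  have h2 : ∑ j ∈ ({p, q, r, s} : Finset GolayPt), ((g • v : leechLattice) : GolayPt → ℤ) j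
      = x p + x q + x r + x s := by
    rw [Finset.sum_congr rfl (fun j hj => hg j hj), Finset.sum_insert, Finset.sum_insert,
      Finset.sum_insert, Finset.sum_singleton]
    · ring
    · simpa using hrs
    · simp [hqr, hqs]
    · simp [hpq, hpr, hps]
  rw [h2] at h1
  rw [hg i hi']
  linarith

/-! ### a combinatorial lemma -/

section comb

variable {α : Type*} [Fintype α] [DecidableEq α]

theorem exists_ne_three_aux (hcard : Fintype.card α = 24) (a b c : α) :
    ∃ d : α, d ≠ a ∧ d ≠ b ∧ d ≠ c := by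
  have : (({a, b, c} : Finset α)ᶜ).Nonempty := by
    rw [← Finset.card_pos, Finset.card_compl]
    have h1 : ({a, b, c} : Finset α).card ≤ 3 := Finset.card_le_three
    omega
  obtain ⟨d, hd⟩ := this
  simp only [Finset.mem_compl, Finset.mem_insert, Finset.mem_singleton, not_or] at hd
  exact ⟨d, hd⟩

theorem four_sq (x y z : ℕ) (h : x ^ 2 + y ^ 2 + z ^ 2 = 16) (hy : y ≤ x) (hz : z ≤ x) :
    x = 4 := by
  have hx : x ≤ 4 := by nlinarith
  have hy' : y ≤ 4 := hy.trans hx
  have hz' : z ≤ 4 := hz.trans hx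
  interval_cases x <;> interval_cases y <;> interval_cases z <;> simp_all

theorem comb_even (hcard : Fintype.card α = 24) (a : α → ℕ) (p : α) (hsum : ∑ i, a i ^ 2 = 64)
    (hev : ∀ i, Even (a i)) (hmax : ∀ i, a i ≤ a p) (hp8 : a p ≤ 8)
    (h3 : ∀ q r s, q ≠ p → r ≠ p → s ≠ p → q ≠ r → q ≠ s → r ≠ s → a q + a r + a s ≤ a p) :
    a p = 8 ∨ (a p = 6 ∧ ∃ q r s, q ≠ p ∧ r ≠ p ∧ s ≠ p ∧ q ≠ r ∧ q ≠ s ∧ r ≠ s ∧
      a q = 2 ∧ a r = 2 ∧ a s = 2) := by
  by_cases h : ∃ q r s, q ≠ p ∧ r ≠ p ∧ s ≠ p ∧ q ≠ r ∧ q ≠ s ∧ r ≠ s ∧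
      a q ≠ 0 ∧ a r ≠ 0 ∧ a s ≠ 0
  · obtain ⟨q, r, s, hq, hr, hs, hqr, hqs, hrs, h1, h2, h4⟩ := h
    have h5 := h3 q r s hq hr hs hqr hqs hrs
    obtain ⟨p', hp'⟩ := hev p
    obtain ⟨q', hq'⟩ := hev q
    obtain ⟨r', hr'⟩ := hev r
    obtain ⟨s', hs'⟩ := hev s
    rcases (show a p = 8 ∨ a p = 6 by omega) with h6 | h6
    · exact Or.inl h6
    · exact Or.inr ⟨h6, q, r, s, hq, hr, hs, hqr, hqs, hrs, by omega, by omega, by omega⟩
  · left
    have hF : ((Finset.univ.erase p).filter fun i => a i ≠ 0).card ≤ 2 := by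
      by_contra hcon
      rw [not_le, Finset.two_lt_card] at hcon
      obtain ⟨q, hq, r, hr, s, hs, hqr, hqs, hrs⟩ := hcon
      rw [Finset.mem_filter, Finset.mem_erase] at hq hr hs
      exact h ⟨q, r, s, hq.1.1, hr.1.1, hs.1.1, hqr, hqs, hrs, hq.2, hr.2, hs.2⟩
    obtain ⟨E, hFE, hE, hEc⟩ := Finset.exists_subsuperset_card_eq
      (Finset.filter_subset (fun i => a i ≠ 0) (Finset.univ.erase p)) hF (by
        rw [Finset.card_erase_of_mem (Finset.mem_univ p), Finset.card_univ, hcard]; norm_num)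
    obtain ⟨q, r, hqr, rfl⟩ := Finset.card_eq_two.1 hEc
    have hrest : ∑ i ∈ Finset.univ.erase p, a i ^ 2 = a q ^ 2 + a r ^ 2 := by
      rw [← Finset.sum_pair (f := fun i => a i ^ 2) hqr]
      symm
      apply Finset.sum_subset hE
      intro i hi hi'
      by_contra hne
      apply hi'
      apply hFE
      rw [Finset.mem_filter]
      refine ⟨hi, ?_⟩
      intro h0
      rw [h0] at hne
      exact hne rfl
    have hsum' : a p ^ 2 + (a q ^ 2 + a r ^ 2) = 64 := by
      rw [← hrest, ← hsum]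
      exact Finset.add_sum_erase _ (fun i => a i ^ 2) (Finset.mem_univ p)
    obtain ⟨p', hp'⟩ := hev p
    obtain ⟨q', hq'⟩ := hev q
    obtain ⟨r', hr'⟩ := hev r
    have h1 := hmax q
    have h2 := hmax r
    have h4 : p' ^ 2 + q' ^ 2 + r' ^ 2 = 16 := by
      rw [hp', hq', hr'] at hsum'
      nlinarith
    have h5 := four_sq p' q' r' h4 (by omega) (by omega)
    omega

theorem comb_odd (hcard : Fintype.card α = 24) (a : α → ℕ) (p : α) (hsum : ∑ i, a i ^ 2 = 64)
    (hodd : ∀ i, Odd (a i)) (hp8 : a p ≤ 8)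
    (h3 : ∀ q r s, q ≠ p → r ≠ p → s ≠ p → q ≠ r → q ≠ s → r ≠ s → a q + a r + a s ≤ a p) :
    False := by
  have hpos : ∀ i, 1 ≤ a i := fun i => (hodd i).pos
  have hcard' : (Finset.univ.erase p).card = 23 := by
    rw [Finset.card_erase_of_mem (Finset.mem_univ p), Finset.card_univ, hcard]
  have herase : a p ^ 2 + ∑ i ∈ Finset.univ.erase p, a i ^ 2 = 64 := by
    rw [← hsum]
    exact Finset.add_sum_erase Finset.univ (fun i => a i ^ 2) (Finset.mem_univ p)
  have hge : 23 ≤ ∑ i ∈ Finset.univ.erase p, a i ^ 2 := by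
    have h1 : (Finset.univ.erase p).card • 1 ≤ ∑ i ∈ Finset.univ.erase p, a i ^ 2 := by
      apply Finset.card_nsmul_le_sum
      intro i _
      exact Nat.one_le_pow _ _ (hpos i)
    rw [hcard'] at h1
    exact h1
  have hp5 : a p ≤ 5 := by
    obtain ⟨k, hk⟩ := hodd p
    by_contra hcon
    have h7 : a p = 7 := by omega
    rw [h7] at herase
    omega
  by_cases h : ∃ q, q ≠ p ∧ a q ≠ 1
  · obtain ⟨q, hqp, hq1⟩ := h
    have hq3 : 3 ≤ a q := by
      obtain ⟨k, hk⟩ := hodd q
      omega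
    have hother : ∀ k, k ≠ p → k ≠ q → a k = 1 ∧ a q + 2 ≤ a p := by
      intro k hkp hkq
      obtain ⟨l, hlp, hlq, hlk⟩ := exists_ne_three_aux hcard p q k
      have h1 := h3 q k l hqp hkp hlp (Ne.symm hkq) (Ne.symm hlq) (Ne.symm hlk)
      have h2 := hpos k
      have h4 := hpos l
      omega
    have hqmem : q ∈ Finset.univ.erase p := Finset.mem_erase.2 ⟨hqp, Finset.mem_univ q⟩
    have hsum2 : ∑ i ∈ (Finset.univ.erase p).erase q, a i ^ 2 = 22 := by
      have h1 : ∀ i ∈ (Finset.univ.erase p).erase q, a i ^ 2 = 1 := by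
        intro i hi
        rw [Finset.mem_erase, Finset.mem_erase] at hi
        rw [(hother i hi.2.1 hi.1).1]; norm_num
      rw [Finset.sum_congr rfl h1, Finset.sum_const, Finset.card_erase_of_mem hqmem, hcard']
      rfl
    have hq' : a q ^ 2 + 22 = ∑ i ∈ Finset.univ.erase p, a i ^ 2 := by
      rw [← hsum2]
      exact Finset.add_sum_erase (Finset.univ.erase p) (fun i => a i ^ 2) hqmem
    obtain ⟨k, hkp, hkq, -⟩ := exists_ne_three_aux hcard p q q
    have h5 := (hother k hkp hkq).2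
    have h6 : a p = 5 := by omega
    have h7 : a q = 3 := by omega
    rw [← hq', h6, h7] at herase
    norm_num at herase
  · push Not at h
    have h1 : ∀ i ∈ Finset.univ.erase p, a i ^ 2 = 1 := by
      intro i hi
      rw [h i (Finset.mem_erase.1 hi).1]; norm_num
    rw [Finset.sum_congr rfl h1, Finset.sum_const, hcard'] at herase
    have h6 : a p ^ 2 = 41 := by
      simp only [smul_eq_mul] at herase
      omega
    have h8 : a p ≤ 6 := by omega
    generalize a p = n at h6 h8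
    interval_cases n <;> omega

theorem comb (hcard : Fintype.card α = 24) (a : α → ℕ) (p : α) (hsum : ∑ i, a i ^ 2 = 64)
    (hpar : (∀ i, Even (a i)) ∨ (∀ i, Odd (a i))) (hmax : ∀ i, a i ≤ a p)
    (h3 : ∀ q r s, q ≠ p → r ≠ p → s ≠ p → q ≠ r → q ≠ s → r ≠ s → a q + a r + a s ≤ a p) :
    a p = 8 ∨ (a p = 6 ∧ ∃ q r s, q ≠ p ∧ r ≠ p ∧ s ≠ p ∧ q ≠ r ∧ q ≠ s ∧ r ≠ s ∧
      a q = 2 ∧ a r = 2 ∧ a s = 2) := by
  have hle : a p ^ 2 ≤ 64 := by
    rw [← hsum]
    exact Finset.single_le_sum (f := fun i => a i ^ 2) (fun i _ => Nat.zero_le _)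
      (Finset.mem_univ p)
  have hp8 : a p ≤ 8 := by nlinarith
  rcases hpar with hev | hodd
  · exact comb_even hcard a p hsum hev hmax hp8 h3
  · exact (comb_odd hcard a p hsum hodd hp8 h3).elim

end comb

theorem card24 : Fintype.card GolayPt = 24 := Cfsg.Agent.Leech.Code.card_golayPt

theorem exists_ne_three (a b c : GolayPt) : ∃ d : GolayPt, d ≠ a ∧ d ≠ b ∧ d ≠ c :=
  exists_ne_three_aux card24 a b c

/-! ### the theorem -/

/-- The vector `8` at the extra point. -/
def e8 : leechLattice := ⟨Pi.single none 8, by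
  apply AddSubgroup.subset_closure
  exact Spor.mem_leechSet_of_const_mod_four _ 0 0 (by decide) (by decide) (by decide)⟩

theorem e8_coe : ((e8 : leechLattice) : GolayPt → ℤ) = Pi.single none 8 := rfl

theorem parity (v : leechLattice) :
    (∀ i, Even ((v : GolayPt → ℤ) i).natAbs) ∨ (∀ i, Odd ((v : GolayPt → ℤ) i).natAbs) := by
  obtain ⟨m, z, -, -, h⟩ := (Cfsg.Agent.SporadicStructure.LeechBase.mem_leech_iff _).1 v.2
  rcases Int.even_or_odd m with hm | hm
  · left
    intro i
    rw [Int.natAbs_even, h i]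
    exact hm.add (even_two_mul _)
  · right
    intro i
    rw [Int.natAbs_odd, h i]
    exact hm.add_even (even_two_mul _)

theorem sum_natAbs (v : leechLattice) (hv : sqNorm (v : GolayPt → ℤ) = 64) :
    ∑ i, ((v : GolayPt → ℤ) i).natAbs ^ 2 = 64 := by
  have h : ((∑ i, ((v : GolayPt → ℤ) i).natAbs ^ 2 : ℕ) : ℤ) = 64 := by
    rw [← hv]
    push_cast
    show _ = ∑ i, (v : GolayPt → ℤ) i ^ 2
    apply Finset.sum_congr rfl
    intro i _
    rw [sq_abs]
  exact_mod_cast h

/-- A vector of sum of squares 64 with a coordinate of absolute value 8 has no other nonzero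
coordinate. -/
theorem eq_zero_of_eight (v : leechLattice) (hv : sqNorm (v : GolayPt → ℤ) = 64) (p : GolayPt)
    (hp : ((v : GolayPt → ℤ) p).natAbs = 8) (i : GolayPt) (hi : i ≠ p) :
    (v : GolayPt → ℤ) i = 0 := by
  classical
  have h1 := sum_natAbs v hv
  rw [← Finset.add_sum_erase _ _ (Finset.mem_univ p), hp] at h1
  have h2 : ((v : GolayPt → ℤ) i).natAbs ^ 2 ≤
      ∑ i ∈ Finset.univ.erase p, ((v : GolayPt → ℤ) i).natAbs ^ 2 :=
    Finset.single_le_sum (f := fun i => ((v : GolayPt → ℤ) i).natAbs ^ 2)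
      (fun i _ => Nat.zero_le _) (Finset.mem_erase.2 ⟨hi, Finset.mem_univ i⟩)
  have h3 : ((v : GolayPt → ℤ) i).natAbs ^ 2 = 0 := by omega
  have h4 : ((v : GolayPt → ℤ) i).natAbs = 0 := by
    exact pow_eq_zero_iff (two_ne_zero) |>.1 h3
  exact Int.natAbs_eq_zero.1 h4

theorem eq_e8 (v : leechLattice) (hv : sqNorm (v : GolayPt → ℤ) = 64)
    (hp : (v : GolayPt → ℤ) none = 8) : v = e8 := by
  apply Subtype.ext
  funext i
  rw [e8_coe]
  by_cases hi : i = none
  · subst hi; rw [hp]; simp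
  · rw [eq_zero_of_eight v hv none (by rw [hp]; rfl) i hi]
    simp [hi]

/-- From a vector `±8` at any point to `8` at the extra point. -/
theorem reach_of_eight (v : leechLattice) (hv : sqNorm (v : GolayPt → ℤ) = 64) (p : GolayPt)
    (hp : ((v : GolayPt → ℤ) p).natAbs = 8) : ∃ g : Co0, g • v = e8 := by
  have hzero := eq_zero_of_eight v hv p hp
  by_cases hpn : p = none
  · subst hpn
    obtain ⟨g, hg, -⟩ := exists_sign v {none} (by simp) (fun i => |(v : GolayPt → ℤ) i|)
      (fun i _ => abs_choice _)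
    refine ⟨g, eq_e8 _ (by rw [sqNorm_smul, hv]) ?_⟩
    rw [hg none (by simp)]
    show |(v : GolayPt → ℤ) none| = 8
    rw [Int.abs_eq_natAbs, hp]; rfl
  · obtain ⟨q, hqn, hqp, -⟩ := exists_ne_three none p p
    obtain ⟨r, hrn, hrp, hrq⟩ := exists_ne_three none p q
    obtain ⟨g, hg⟩ := move v (p := none) (q := p) (r := q) (s := r) (Ne.symm hpn) (Ne.symm hqn)
      (Ne.symm hrn) (Ne.symm hqp) (Ne.symm hrp) (Ne.symm hrq) (fun i => |(v : GolayPt → ℤ) i|)
      (fun i => abs_choice _)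
    have hpabs : |(v : GolayPt → ℤ) p| = 8 := by rw [Int.abs_eq_natAbs, hp]; rfl
    have h0 : (v : GolayPt → ℤ) none = 0 := hzero none (Ne.symm hpn)
    have hq0 : (v : GolayPt → ℤ) q = 0 := hzero q hqp
    have hr0 : (v : GolayPt → ℤ) r = 0 := hzero r hrp
    have e1 := hg none (by simp)
    have e2 := hg p (by simp)
    have e3 := hg q (by simp)
    have e4 := hg r (by simp)
    simp only [hpabs, h0, hq0, hr0, abs_zero] at e1 e2 e3 e4
    have f1 : ((g • v : leechLattice) : GolayPt → ℤ) none = 4 := by omega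
    have f2 : ((g • v : leechLattice) : GolayPt → ℤ) p = -4 := by omega
    have f3 : ((g • v : leechLattice) : GolayPt → ℤ) q = 4 := by omega
    have f4 : ((g • v : leechLattice) : GolayPt → ℤ) r = 4 := by omega
    classical
    obtain ⟨g', hg'⟩ := move (g • v) (p := none) (q := p) (r := q) (s := r) (Ne.symm hpn)
      (Ne.symm hqn) (Ne.symm hrn) (Ne.symm hqp) (Ne.symm hrp) (Ne.symm hrq)
      (fun i => if i = none then -|((g • v : leechLattice) : GolayPt → ℤ) i| else
        |((g • v : leechLattice) : GolayPt → ℤ) i|)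
      (fun i => by
        split_ifs
        · rcases abs_choice (((g • v : leechLattice) : GolayPt → ℤ) i) with h | h
          · right; rw [h]
          · left; rw [h, neg_neg]
        · exact abs_choice _)
    have e5 := hg' none (by simp)
    simp only [if_true, if_neg hpn, if_neg hqn, if_neg hrn, f1, f2, f3, f4] at e5
    refine ⟨g' * g, eq_e8 _ (by rw [mul_smul, sqNorm_smul, sqNorm_smul, hv]) ?_⟩
    rw [mul_smul]
    norm_num at e5
    omega

theorem reach_e8 (v : leechLattice) (hv : sqNorm (v : GolayPt → ℤ) = 64) :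
    ∃ g : Co0, g • v = e8 := by
  classical
  set S : Set ℕ := {n | ∃ (g : Co0) (p : GolayPt),
    (((g • v : leechLattice) : GolayPt → ℤ) p).natAbs = n} with hS
  have hne : S.Nonempty := ⟨_, 1, none, rfl⟩
  have hnorm : ∀ g : Co0, sqNorm ((g • v : leechLattice) : GolayPt → ℤ) = 64 := fun g => by
    rw [sqNorm_smul, hv]
  have hbdd : BddAbove S := by
    refine ⟨64, ?_⟩
    rintro n ⟨g, p, rfl⟩
    have h1 := sum_natAbs (g • v) (hnorm g)
    have h2 : (((g • v : leechLattice) : GolayPt → ℤ) p).natAbs ^ 2 ≤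
        ∑ i, (((g • v : leechLattice) : GolayPt → ℤ) i).natAbs ^ 2 :=
      Finset.single_le_sum (f := fun i => (((g • v : leechLattice) : GolayPt → ℤ) i).natAbs ^ 2)
        (fun i _ => Nat.zero_le _) (Finset.mem_univ p)
    nlinarith
  obtain ⟨g, p, hgp⟩ := Nat.sSup_mem hne hbdd
  have hmax : ∀ (g' : Co0) (q : GolayPt),
      (((g' • v : leechLattice) : GolayPt → ℤ) q).natAbs ≤
        (((g • v : leechLattice) : GolayPt → ℤ) p).natAbs := by
    intro g' q
    rw [hgp]
    exact le_csSup hbdd ⟨g', q, rfl⟩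
  set w : leechLattice := g • v with hw
  have hwnorm : sqNorm (w : GolayPt → ℤ) = 64 := hnorm g
  have hmax' : ∀ (g' : Co0) (q : GolayPt),
      (((g' • w : leechLattice) : GolayPt → ℤ) q).natAbs ≤ ((w : GolayPt → ℤ) p).natAbs := by
    intro g' q
    rw [hw, ← mul_smul]
    exact hmax (g' * g) q
  have key := comb card24 (fun i => ((w : GolayPt → ℤ) i).natAbs) p (sum_natAbs w hwnorm)
    (parity w)
    (fun i => by simpa using hmax' 1 i) (by
      intro q r s hq hr hs hqr hqs hrs
      obtain ⟨g', hg'⟩ := move w (Ne.symm hq) (Ne.symm hr) (Ne.symm hs) hqr hqs hrs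
        (fun i => if i = p then -|(w : GolayPt → ℤ) i| else |(w : GolayPt → ℤ) i|)
        (fun i => by
          split_ifs
          · rcases abs_choice ((w : GolayPt → ℤ) i) with h | h
            · right; rw [h]
            · left; rw [h, neg_neg]
          · exact abs_choice _)
      have h1 := hg' p (by simp)
      simp only [if_true, if_neg hq, if_neg hr, if_neg hs, Int.abs_eq_natAbs] at h1
      have h2 := hmax' g' p
      show ((w : GolayPt → ℤ) q).natAbs + ((w : GolayPt → ℤ) r).natAbs +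
        ((w : GolayPt → ℤ) s).natAbs ≤ ((w : GolayPt → ℤ) p).natAbs
      omega)
  rcases key with h8 | ⟨h6, q, r, s, hq, hr, hs, hqr, hqs, hrs, e1, e2, e3⟩
  · obtain ⟨g', hg'⟩ := reach_of_eight w hwnorm p h8
    exact ⟨g' * g, by rw [mul_smul]; exact hg'⟩
  · exfalso
    obtain ⟨g', hg'⟩ := move w (Ne.symm hq) (Ne.symm hr) (Ne.symm hs) hqr hqs hrs
      (fun i => |(w : GolayPt → ℤ) i|) (fun i => abs_choice _)
    have f0 := hg' p (by simp)
    have f1 := hg' q (by simp)
    have f2 := hg' r (by simp)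
    have f3 := hg' s (by simp)
    simp only [Int.abs_eq_natAbs, h6, e1, e2, e3] at f0 f1 f2 f3
    set u : leechLattice := g' • w with hu
    have hunorm : sqNorm (u : GolayPt → ℤ) = 64 := by rw [hu, sqNorm_smul, hwnorm]
    have u0 : (u : GolayPt → ℤ) p = 0 := by omega
    have u1 : (u : GolayPt → ℤ) q = 4 := by omega
    have u2 : (u : GolayPt → ℤ) r = 4 := by omega
    have u3 : (u : GolayPt → ℤ) s = 4 := by omega
    have hex : ∃ d, d ≠ q ∧ d ≠ r ∧ d ≠ s ∧ (u : GolayPt → ℤ) d ≠ 0 := by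
      by_contra hcon
      push Not at hcon
      have h1 : ∑ i, (u : GolayPt → ℤ) i ^ 2 = 64 := hunorm
      rw [← Finset.sum_subset (Finset.subset_univ ({q, r, s} : Finset GolayPt)),
        Finset.sum_insert, Finset.sum_insert, Finset.sum_singleton, u1, u2, u3] at h1
      · norm_num at h1
      · simpa using hrs
      · simp [hqr, hqs]
      · intro i _ hi
        simp only [Finset.mem_insert, Finset.mem_singleton, not_or] at hi
        rw [hcon i hi.1 hi.2.1 hi.2.2]
        norm_num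
    obtain ⟨d, hdq, hdr, hds, hd0⟩ := hex
    obtain ⟨g'', hg''⟩ := move u (p := q) (q := r) (r := s) (s := d) hqr hqs (Ne.symm hdq) hrs
      (Ne.symm hdr) (Ne.symm hds)
      (fun i => if i = q then -|(u : GolayPt → ℤ) i| else |(u : GolayPt → ℤ) i|)
      (fun i => by
        split_ifs
        · rcases abs_choice ((u : GolayPt → ℤ) i) with h | h
          · right; rw [h]
          · left; rw [h, neg_neg]
        · exact abs_choice _)
    have h1 := hg'' q (by simp)
    simp only [if_true, if_neg (Ne.symm hqr), if_neg (Ne.symm hqs), if_neg hdq, u1, u2, u3] at h1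
    have habs : |(u : GolayPt → ℤ) d| = (((u : GolayPt → ℤ) d).natAbs : ℤ) := Int.abs_eq_natAbs _
    have habs4 : |(4 : ℤ)| = 4 := by norm_num
    rw [habs, habs4] at h1
    have h2 : (((g'' • u : leechLattice) : GolayPt → ℤ) q).natAbs ≤
        ((w : GolayPt → ℤ) p).natAbs := by
      rw [hu, ← mul_smul]
      exact hmax' _ q
    have h3 : 0 < ((u : GolayPt → ℤ) d).natAbs := Int.natAbs_pos.2 hd0
    omega

/-- `Co0` is transitive on the lattice vectors of sum of squares 64. -/
theorem orbit64 (v w : leechLattice) (hv : sqNorm (v : GolayPt → ℤ) = 64)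
    (hw : sqNorm (w : GolayPt → ℤ) = 64) : ∃ g : Co0, g • v = w := by
  obtain ⟨g, hg⟩ := reach_e8 v hv
  obtain ⟨h, hh⟩ := reach_e8 w hw
  exact ⟨h⁻¹ * g, by rw [mul_smul, hg, ← hh, inv_smul_smul]⟩

end Cfsg.Agent.SporadicA.Norm64
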