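import Cfsg.Prelude.Def_Sporadic_a
set_option linter.all false

set_option autoImplicit false
open Cfsg
open scoped Pointwise

/-! A self-contained criterion for membership in `M24`, and the three standard generators
(shift, `projInv`, `cubeTwist`) lie in `M24`. -/

namespace Cfsg.Agent.SporadicA.M24Gens

/-- index of a point: residues 0..22, the extra point is 23 -/
def pidx : GolayPt → ℕ
  | none => 23
  | some x => x.val

theorem pidx_injective : Function.Injective pidx := by
  intro a b h
  revert a b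
  decide +kernel

theorem pidx_lt (p : GolayPt) : pidx p < 24 := by
  revert p
  decide +kernel

/-- A permutation mapping every word of a code into the code is an automorphism of the
family of supports. -/
theorem mem_setSystemAut_of {C : Submodule (ZMod 2) (GolayPt → ZMod 2)}
    (g : Equiv.Perm GolayPt) (h : ∀ w ∈ C, (fun p => w (g.symm p)) ∈ C) :
    g ∈ setSystemAut (supports (C : Set (GolayPt → ZMod 2))) := by
  have hfin : (supports (C : Set (GolayPt → ZMod 2))).Finite := Set.toFinite _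
  rw [setSystemAut, MulAction.mem_stabilizer_set_iff_smul_set_subset hfin]
  rintro _ ⟨s, ⟨w, hw, rfl⟩, rfl⟩
  refine ⟨fun p => w (g.symm p), h w hw, ?_⟩
  ext p
  simp only [support₂, Finset.mem_filter, Finset.mem_univ, true_and]
  rw [← Finset.inv_smul_mem_iff]
  simp only [Finset.mem_filter, Finset.mem_univ, true_and]
  rfl

/-- It is enough to look at generators of the code. -/
theorem mem_M24_of_gens (g : Equiv.Perm GolayPt)
    (h : ∀ t : ZMod 23, (fun p => qrWord t (g.symm p)) ∈ golayCode) : g ∈ M24 := by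
  apply mem_setSystemAut_of
  intro w hw
  let f : (GolayPt → ZMod 2) →ₗ[ZMod 2] (GolayPt → ZMod 2) :=
    LinearMap.funLeft (ZMod 2) (ZMod 2) g.symm
  have key : golayCode ≤ golayCode.comap f := by
    conv_lhs => rw [golayCode]
    rw [Submodule.span_le]
    rintro v (⟨t, rfl⟩ | hv)
    · exact h t
    · rw [Set.mem_singleton_iff] at hv
      subst hv
      exact Submodule.subset_span (Or.inr rfl)
  exact key hw

/-- the word with a given bit mask -/
def word (m : ℕ) : GolayPt → ZMod 2 := fun p => if m.testBit (pidx p) then 1 else 0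

theorem word_xor (a b : ℕ) : word (a ^^^ b) = word a + word b := by
  funext p
  simp only [word, Nat.testBit_xor, Pi.add_apply]
  cases a.testBit (pidx p) <;> cases b.testBit (pidx p) <;> decide

theorem word_zero : word 0 = 0 := by
  funext p
  simp [word]

/-- masks of the 24 generators of the code -/
def qmask (t : ℕ) : ℕ :=
  [340831, 681662, 1363324, 2726648, 5453296, 2517985, 5035970, 1683333, 3366666, 6733332,
   5078057, 1767507, 3535014, 7070028, 5751449, 3114291, 6228582, 4068557, 8137114, 7885621,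
   7382635, 6376663, 4364719, 16777215].getD t 0

theorem qrWord_zero_some (y : ZMod 23) :
    qrWord 0 (some y) = if (340831 : ℕ).testBit y.val then 1 else 0 := by
  revert y
  decide +kernel

theorem qrWord_some (t x : ZMod 23) : qrWord t (some x) = qrWord 0 (some (x - t)) := by
  have : (∃ r : ZMod 23, x = r ^ 2 + t) ↔ (∃ r : ZMod 23, x - t = r ^ 2 + 0) := by
    simp only [add_zero, sub_eq_iff_eq_add]
  show (if ∃ r : ZMod 23, x = r ^ 2 + t then (1 : ZMod 2) else 0)
    = if ∃ r : ZMod 23, x - t = r ^ 2 + 0 then 1 else 0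
  simp only [this]

theorem qrWord_eq_word (t : ZMod 23) : qrWord t = word (qmask t.val) := by
  have h : ∀ t x : ZMod 23, (340831 : ℕ).testBit (x - t).val = (qmask t.val).testBit x.val := by
    decide +kernel
  have h' : ∀ t : ZMod 23, (qmask t.val).testBit 23 = false := by decide +kernel
  funext p
  cases p with
  | none =>
    show (0 : ZMod 2) = if (qmask t.val).testBit 23 then 1 else 0
    rw [h' t]; rfl
  | some x =>
    rw [qrWord_some, qrWord_zero_some, h t x]
    rfl

theorem one_eq_word : (1 : GolayPt → ZMod 2) = word (qmask 23) := by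
  have h : ∀ p : GolayPt, (qmask 23).testBit (pidx p) = true := by decide +kernel
  funext p
  show (1 : ZMod 2) = if (qmask 23).testBit (pidx p) then 1 else 0
  rw [h p]; rfl

theorem word_qmask_mem (t : ℕ) : word (qmask t) ∈ golayCode := by
  by_cases h : t < 23
  · have : ((t : ZMod 23)).val = t := ZMod.val_natCast_of_lt h
    rw [← this, ← qrWord_eq_word]
    exact Submodule.subset_span (Or.inl ⟨_, rfl⟩)
  · by_cases h2 : t = 23
    · subst h2
      rw [← one_eq_word]
      exact Submodule.subset_span (Or.inr rfl)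
    · have : qmask t = 0 := by
        rw [qmask]
        apply List.getD_eq_default
        simp only [List.length_cons, List.length_nil]
        omega
      rw [this, word_zero]
      exact Submodule.zero_mem _

/-- xor of a list of generator masks -/
def combo (L : List ℕ) : ℕ := L.foldr (fun u m => qmask u ^^^ m) 0

theorem word_combo_mem (L : List ℕ) : word (combo L) ∈ golayCode := by
  induction L with
  | nil => rw [show combo [] = 0 from rfl, word_zero]; exact Submodule.zero_mem _
  | cons u L ih =>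
    rw [show combo (u :: L) = qmask u ^^^ combo L from rfl, word_xor]
    exact Submodule.add_mem _ (word_qmask_mem u) ih

/-- The criterion used for explicit permutations: `tab` is the table of the inverse, `Ls t` lists
the generators whose sum is the image of the `t`-th generator. -/
theorem mem_M24_of_table (g : Equiv.Perm GolayPt) (tab : List ℕ) (Ls : List (List ℕ))
    (htab : ∀ p, pidx (g.symm p) = tab.getD (pidx p) 0)
    (h : ∀ t < 23, ∀ j < 24,
      (qmask t).testBit (tab.getD j 0) = (combo (Ls.getD t [])).testBit j) : g ∈ M24 := by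
  apply mem_M24_of_gens
  intro t
  have : (fun p => qrWord t (g.symm p)) = word (combo (Ls.getD t.val [])) := by
    funext p
    rw [qrWord_eq_word]
    simp only [word]
    rw [htab p, h t.val (ZMod.val_lt t) (pidx p) (pidx_lt p)]
  rw [this]
  exact word_combo_mem _

/-- a permutation that is given by a table has the inverse table as the table of its inverse -/
theorem symm_table (g : Equiv.Perm GolayPt) (tab itab : List ℕ)
    (h : ∀ p, pidx (g p) = tab.getD (pidx p) 0)
    (hinv : ∀ j < 24, tab.getD (itab.getD j 0) 0 = j ∧ itab.getD j 0 < 24) :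
    ∀ p, pidx (g.symm p) = itab.getD (pidx p) 0 := by
  have hsurj : ∀ j < 24, ∃ p, pidx p = j := by decide +kernel
  intro p
  obtain ⟨h1, h2⟩ := hinv (pidx p) (pidx_lt p)
  obtain ⟨q, hq⟩ := hsurj _ h2
  have : pidx (g q) = pidx p := by rw [h q, hq, h1]
  have h3 := pidx_injective this
  rw [← h3, Equiv.symm_apply_apply, hq, h3]

def tabS : List ℕ := [1, 2, 3, 4, 5, 6, 7, 8, 9, 10, 11, 12, 13, 14, 15, 16, 17, 18, 19, 20, 21, 22, 0, 23]
def tabI : List ℕ := [23, 22, 11, 15, 17, 9, 19, 13, 20, 5, 16, 2, 21, 7, 18, 3, 10, 4, 14, 6, 8, 12, 1, 0]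
def tabC : List ℕ := [0, 18, 6, 3, 2, 21, 1, 5, 16, 12, 7, 19, 8, 9, 17, 15, 13, 11, 4, 22, 10, 20, 14, 23]
def itabS : List ℕ := [22, 0, 1, 2, 3, 4, 5, 6, 7, 8, 9, 10, 11, 12, 13, 14, 15, 16, 17, 18, 19, 20, 21, 23]
def itabI : List ℕ := [23, 22, 11, 15, 17, 9, 19, 13, 20, 5, 16, 2, 21, 7, 18, 3, 10, 4, 14, 6, 8, 12, 1, 0]
def itabC : List ℕ := [0, 6, 4, 3, 18, 7, 2, 10, 12, 13, 20, 17, 9, 16, 22, 15, 8, 14, 1, 11, 21, 5, 19, 23]

theorem shift_table (p : GolayPt) :
    pidx (Equiv.optionCongr (Equiv.addRight (1 : ZMod 23)) p) = tabS.getD (pidx p) 0 := by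
  revert p
  decide +kernel

theorem projInv_table (p : GolayPt) : pidx (projInv p) = tabI.getD (pidx p) 0 := by
  revert p
  decide +kernel

theorem cubeTwist_table (p : GolayPt) : pidx (cubeTwist p) = tabC.getD (pidx p) 0 := by
  have : ∀ p, pidx (cubeTwistFun p) = tabC.getD (pidx p) 0 := by decide +kernel
  exact this p

theorem shift_mem : Equiv.optionCongr (Equiv.addRight (1 : ZMod 23)) ∈ M24 :=
  mem_M24_of_table _ itabS
    [[1], [2], [3], [4], [5], [6], [7], [8], [9], [10], [0, 1, 5, 6, 7, 9], [1, 2, 6, 7, 8, 10],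
     [0, 1, 2, 3, 5, 6, 8], [1, 2, 3, 4, 6, 7, 9], [2, 3, 4, 5, 7, 8, 10], [0, 1, 3, 4, 7, 8],
     [1, 2, 4, 5, 8, 9], [2, 3, 5, 6, 9, 10], [0, 1, 3, 4, 5, 9, 10], [0, 2, 4, 7, 9, 10],
     [0, 3, 6, 7, 8, 9, 10], [0, 4, 5, 6, 8, 10], [0], [23]]
    (symm_table _ tabS itabS shift_table (by decide +kernel)) (by decide +kernel)

theorem projInv_mem : projInv ∈ M24 :=
  mem_M24_of_table _ itabI
    [[0, 23], [4, 5, 6, 8, 10], [1, 5, 6, 7, 9], [0, 2, 3, 4, 5, 7, 8, 10], [0, 1, 2, 4, 5, 8, 9],
     [0, 9, 23], [1, 3, 4, 5, 9, 10], [1, 2, 3, 5, 6, 8, 23], [2, 4, 7, 9, 10], [0, 5],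
     [1, 3, 4, 7, 8, 23], [0, 2, 23], [3, 6, 7, 8, 9, 10], [0, 7], [0, 2, 3, 5, 6, 9, 10, 23],
     [0, 3, 23], [0, 10], [0, 4, 23], [0, 1, 2, 3, 4, 6, 7, 9], [0, 6, 23], [0, 8, 23],
     [0, 1, 2, 6, 7, 8, 10, 23], [0, 1, 23], [23]]
    (symm_table _ tabI itabI projInv_table (by decide +kernel)) (by decide +kernel)

theorem cubeTwist_mem : cubeTwist ∈ M24 :=
  mem_M24_of_table _ itabC
    [[0], [0, 1, 3, 5, 9], [0, 2, 3, 4, 5, 9], [0, 2, 3, 5, 9], [1, 2, 5, 7], [2, 3, 4, 6, 7],
     [1, 2, 5, 7, 9], [0, 2, 5, 8, 10], [0, 2, 3, 5, 7, 8, 9, 10], [0, 2, 3, 4, 5, 8, 9],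
     [0, 2, 3, 4, 7, 8, 9, 10], [3, 6, 9, 10], [0, 2, 5, 7, 8, 9, 10],
     [0, 2, 3, 5, 6, 7, 8, 9, 10], [0, 1, 5, 9, 10], [0, 1, 2, 3, 4, 5, 6, 8, 10], [0, 3, 5, 9],
     [2, 3, 4, 5, 6, 7, 10], [1, 3, 6, 7, 9, 10], [0, 2, 3, 4, 6, 7, 10], [0, 1, 2, 3, 4, 8, 9],
     [1, 5, 7, 9, 10], [0, 2, 3, 5, 6, 7, 9], [23]]
    (symm_table _ tabC itabC cubeTwist_table (by decide +kernel)) (by decide +kernel)

end Cfsg.Agent.SporadicA.M24Gens
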