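import Cfsg.Agent.SporadicA.GolayPerm
import Cfsg.Agent.Prune
set_option linter.all false
prune_inst 0x7f00000000000000000000000000000000000000000000000000000000000000000000000000000000000000000000000000000000000000000000000000000000000000000000000000000000000000003fffffffffffffffffffffffffffbeffbdffffffff
open scoped Cfsg.Agent.FastGrp

/-!
Fast forms of the functions on packed permutations of the 24 points: equations `slow = fast`, to be rewritten before a
kernel computation.
-/

set_option autoImplicit false

namespace Cfsg.Agent.GolayF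

open Cfsg.Agent.SporadicA.GolayBase Cfsg.Agent.SporadicA.GolayPerm

/-- image of a point -/
def pa (P i : ℕ) : ℕ := Nat.mod (Nat.shiftRight P (Nat.mul 5 i)) 32

theorem papp_eq : papp = pa := rfl

/-- packing -/
noncomputable def pk (l : List ℕ) : ℕ := List.rec 0 (fun a _ ih => Nat.add a (Nat.mul 32 ih)) l

theorem pack_pk : ∀ l : List ℕ, pack l = pk l
  | [] => rfl
  | a :: l => congrArg (fun x => a + 32 * x) (pack_pk l)

theorem pack_eq : pack = pk := funext pack_pk

/-- product -/
def pc (P Q : ℕ) : ℕ :=
  (Nat.add (Nat.mod (Nat.shiftRight P (Nat.mul 5 (Nat.mod Q 32))) 32) (Nat.mul 32 (Nat.add (Nat.mod (Nat.shiftRight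
    P (Nat.mul 5 (Nat.mod (Nat.shiftRight Q 5) 32))) 32) (Nat.mul 32 (Nat.add (Nat.mod (Nat.shiftRight P (Nat.mul 5
    (Nat.mod (Nat.shiftRight Q 10) 32))) 32) (Nat.mul 32 (Nat.add (Nat.mod (Nat.shiftRight P (Nat.mul 5 (Nat.mod
    (Nat.shiftRight Q 15) 32))) 32) (Nat.mul 32 (Nat.add (Nat.mod (Nat.shiftRight P (Nat.mul 5 (Nat.mod
    (Nat.shiftRight Q 20) 32))) 32) (Nat.mul 32 (Nat.add (Nat.mod (Nat.shiftRight P (Nat.mul 5 (Nat.mod
    (Nat.shiftRight Q 25) 32))) 32) (Nat.mul 32 (Nat.add (Nat.mod (Nat.shiftRight P (Nat.mul 5 (Nat.mod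
    (Nat.shiftRight Q 30) 32))) 32) (Nat.mul 32 (Nat.add (Nat.mod (Nat.shiftRight P (Nat.mul 5 (Nat.mod
    (Nat.shiftRight Q 35) 32))) 32) (Nat.mul 32 (Nat.add (Nat.mod (Nat.shiftRight P (Nat.mul 5 (Nat.mod
    (Nat.shiftRight Q 40) 32))) 32) (Nat.mul 32 (Nat.add (Nat.mod (Nat.shiftRight P (Nat.mul 5 (Nat.mod
    (Nat.shiftRight Q 45) 32))) 32) (Nat.mul 32 (Nat.add (Nat.mod (Nat.shiftRight P (Nat.mul 5 (Nat.mod
    (Nat.shiftRight Q 50) 32))) 32) (Nat.mul 32 (Nat.add (Nat.mod (Nat.shiftRight P (Nat.mul 5 (Nat.mod
    (Nat.shiftRight Q 55) 32))) 32) (Nat.mul 32 (Nat.add (Nat.mod (Nat.shiftRight P (Nat.mul 5 (Nat.mod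
    (Nat.shiftRight Q 60) 32))) 32) (Nat.mul 32 (Nat.add (Nat.mod (Nat.shiftRight P (Nat.mul 5 (Nat.mod
    (Nat.shiftRight Q 65) 32))) 32) (Nat.mul 32 (Nat.add (Nat.mod (Nat.shiftRight P (Nat.mul 5 (Nat.mod
    (Nat.shiftRight Q 70) 32))) 32) (Nat.mul 32 (Nat.add (Nat.mod (Nat.shiftRight P (Nat.mul 5 (Nat.mod
    (Nat.shiftRight Q 75) 32))) 32) (Nat.mul 32 (Nat.add (Nat.mod (Nat.shiftRight P (Nat.mul 5 (Nat.mod
    (Nat.shiftRight Q 80) 32))) 32) (Nat.mul 32 (Nat.add (Nat.mod (Nat.shiftRight P (Nat.mul 5 (Nat.mod
    (Nat.shiftRight Q 85) 32))) 32) (Nat.mul 32 (Nat.add (Nat.mod (Nat.shiftRight P (Nat.mul 5 (Nat.mod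
    (Nat.shiftRight Q 90) 32))) 32) (Nat.mul 32 (Nat.add (Nat.mod (Nat.shiftRight P (Nat.mul 5 (Nat.mod
    (Nat.shiftRight Q 95) 32))) 32) (Nat.mul 32 (Nat.add (Nat.mod (Nat.shiftRight P (Nat.mul 5 (Nat.mod
    (Nat.shiftRight Q 100) 32))) 32) (Nat.mul 32 (Nat.add (Nat.mod (Nat.shiftRight P (Nat.mul 5 (Nat.mod
    (Nat.shiftRight Q 105) 32))) 32) (Nat.mul 32 (Nat.add (Nat.mod (Nat.shiftRight P (Nat.mul 5 (Nat.mod
    (Nat.shiftRight Q 110) 32))) 32) (Nat.mul 32 (Nat.add (Nat.mod (Nat.shiftRight P (Nat.mul 5 (Nat.mod
    (Nat.shiftRight Q 115) 32))) 32) (Nat.mul 32 0))))))))))))))))))))))))))))))))))))))))))))))))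

theorem pcomp_eq : pcomp = pc := funext fun _ => funext fun _ => rfl

/-- image of six bits of a mask -/
def c0 (P v : ℕ) : ℕ :=
  (Nat.xor (Nat.xor (Nat.xor (Nat.xor (Nat.xor (Nat.shiftLeft (Nat.mod v 2) (Nat.mod P 32)) (Nat.shiftLeft (Nat.mod
    (Nat.shiftRight v 1) 2) (Nat.mod (Nat.shiftRight P 5) 32))) (Nat.shiftLeft (Nat.mod (Nat.shiftRight v 2) 2)
    (Nat.mod (Nat.shiftRight P 10) 32))) (Nat.shiftLeft (Nat.mod (Nat.shiftRight v 3) 2) (Nat.mod (Nat.shiftRight P
    15) 32))) (Nat.shiftLeft (Nat.mod (Nat.shiftRight v 4) 2) (Nat.mod (Nat.shiftRight P 20) 32))) (Nat.shiftLeft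
    (Nat.mod (Nat.shiftRight v 5) 2) (Nat.mod (Nat.shiftRight P 25) 32)))

/-- image of six bits of a mask -/
def c1 (P v : ℕ) : ℕ :=
  (Nat.xor (Nat.xor (Nat.xor (Nat.xor (Nat.xor (Nat.shiftLeft (Nat.mod v 2) (Nat.mod (Nat.shiftRight P 30) 32))
    (Nat.shiftLeft (Nat.mod (Nat.shiftRight v 1) 2) (Nat.mod (Nat.shiftRight P 35) 32))) (Nat.shiftLeft (Nat.mod
    (Nat.shiftRight v 2) 2) (Nat.mod (Nat.shiftRight P 40) 32))) (Nat.shiftLeft (Nat.mod (Nat.shiftRight v 3) 2)
    (Nat.mod (Nat.shiftRight P 45) 32))) (Nat.shiftLeft (Nat.mod (Nat.shiftRight v 4) 2) (Nat.mod (Nat.shiftRight P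
    50) 32))) (Nat.shiftLeft (Nat.mod (Nat.shiftRight v 5) 2) (Nat.mod (Nat.shiftRight P 55) 32)))

/-- image of six bits of a mask -/
def c2 (P v : ℕ) : ℕ :=
  (Nat.xor (Nat.xor (Nat.xor (Nat.xor (Nat.xor (Nat.shiftLeft (Nat.mod v 2) (Nat.mod (Nat.shiftRight P 60) 32))
    (Nat.shiftLeft (Nat.mod (Nat.shiftRight v 1) 2) (Nat.mod (Nat.shiftRight P 65) 32))) (Nat.shiftLeft (Nat.mod
    (Nat.shiftRight v 2) 2) (Nat.mod (Nat.shiftRight P 70) 32))) (Nat.shiftLeft (Nat.mod (Nat.shiftRight v 3) 2)
    (Nat.mod (Nat.shiftRight P 75) 32))) (Nat.shiftLeft (Nat.mod (Nat.shiftRight v 4) 2) (Nat.mod (Nat.shiftRight P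
    80) 32))) (Nat.shiftLeft (Nat.mod (Nat.shiftRight v 5) 2) (Nat.mod (Nat.shiftRight P 85) 32)))

/-- image of six bits of a mask -/
def c3 (P v : ℕ) : ℕ :=
  (Nat.xor (Nat.xor (Nat.xor (Nat.xor (Nat.xor (Nat.shiftLeft (Nat.mod v 2) (Nat.mod (Nat.shiftRight P 90) 32))
    (Nat.shiftLeft (Nat.mod (Nat.shiftRight v 1) 2) (Nat.mod (Nat.shiftRight P 95) 32))) (Nat.shiftLeft (Nat.mod
    (Nat.shiftRight v 2) 2) (Nat.mod (Nat.shiftRight P 100) 32))) (Nat.shiftLeft (Nat.mod (Nat.shiftRight v 3) 2)
    (Nat.mod (Nat.shiftRight P 105) 32))) (Nat.shiftLeft (Nat.mod (Nat.shiftRight v 4) 2) (Nat.mod (Nat.shiftRight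
    P 110) 32))) (Nat.shiftLeft (Nat.mod (Nat.shiftRight v 5) 2) (Nat.mod (Nat.shiftRight P 115) 32)))

/-- image of a mask -/
noncomputable def pi (P m : ℕ) : ℕ :=
  (Nat.xor (Nat.xor (Nat.xor (Nat.rec 0 (fun k _ => c0 P (Nat.succ k)) (Nat.mod m 64)) (Nat.rec 0 (fun k _ => c1 P
    (Nat.succ k)) (Nat.mod (Nat.shiftRight m 6) 64))) (Nat.rec 0 (fun k _ => c2 P (Nat.succ k)) (Nat.mod
    (Nat.shiftRight m 12) 64))) (Nat.rec 0 (fun k _ => c3 P (Nat.succ k)) (Nat.mod (Nat.shiftRight m 18) 64)))

theorem bit6 (x j : ℕ) (hj : j < 6) : (x % 2 ^ 6) >>> j % 2 = x >>> j % 2 := by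
  have h := Nat.testBit_mod_two_pow x 6 j
  rw [decide_eq_true hj, Bool.true_and, Nat.testBit_eq_decide_div_mod_eq, Nat.testBit_eq_decide_div_mod_eq, decide_eq_decide,
    ← Nat.shiftRight_eq_div_pow, ← Nat.shiftRight_eq_div_pow] at h
  omega

theorem rec0 (f : ℕ → ℕ) (h : f 0 = 0) : ∀ x : ℕ, (Nat.rec 0 (fun k _ => f (Nat.succ k)) x : ℕ) = f x
  | 0 => h.symm
  | _ + 1 => rfl

theorem pimg_eq : pimg = pi := funext fun P => funext fun m => by
  have z : ∀ x : ℕ, Nat.shiftLeft 0 x = 0 := Nat.zero_shiftLeft
  have e : ∀ (x : ℕ) (a : ℕ → ℕ), ((x % 2 ^ 6) >>> 0 % 2) <<< a 0 ^^^ ((x % 2 ^ 6) >>> 1 % 2) <<< a 1 ^^^ ((x % 2 ^ 6) >>> 2 % 2) <<< a 2 ^^^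
      ((x % 2 ^ 6) >>> 3 % 2) <<< a 3 ^^^ ((x % 2 ^ 6) >>> 4 % 2) <<< a 4 ^^^ ((x % 2 ^ 6) >>> 5 % 2) <<< a 5 =
      (x >>> 0 % 2) <<< a 0 ^^^ (x >>> 1 % 2) <<< a 1 ^^^ (x >>> 2 % 2) <<< a 2 ^^^
      (x >>> 3 % 2) <<< a 3 ^^^ (x >>> 4 % 2) <<< a 4 ^^^ (x >>> 5 % 2) <<< a 5 := fun x a => by
    rw [bit6 x 0 (by decide), bit6 x 1 (by decide), bit6 x 2 (by decide), bit6 x 3 (by decide), bit6 x 4 (by decide), bit6 x 5 (by decide)]
  have z0 : ∀ a : ℕ → ℕ, (0 >>> 0 % 2) <<< a 0 ^^^ (0 >>> 1 % 2) <<< a 1 ^^^ (0 >>> 2 % 2) <<< a 2 ^^^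
      (0 >>> 3 % 2) <<< a 3 ^^^ (0 >>> 4 % 2) <<< a 4 ^^^ (0 >>> 5 % 2) <<< a 5 = 0 := fun a => by
    simp only [Nat.zero_shiftRight, Nat.zero_mod, Nat.zero_shiftLeft, Nat.xor_self]
  have e0 : c0 P (m % 64) = _ := e m fun j => papp P j
  have e1 : c1 P (m >>> 6 % 64) = _ := e (m >>> 6) fun j => papp P (6 + j)
  have e2 : c2 P (m >>> 12 % 64) = _ := e (m >>> 12) fun j => papp P (12 + j)
  have e3 : c3 P (m >>> 18 % 64) = _ := e (m >>> 18) fun j => papp P (18 + j)
  refine Eq.trans ?_ (congrArg₂ Nat.xor (congrArg₂ Nat.xor (congrArg₂ Nat.xor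
    ((rec0 (c0 P) (z0 fun j => papp P j) _).trans e0) ((rec0 (c1 P) (z0 fun j => papp P (6 + j)) _).trans e1))
    ((rec0 (c2 P) (z0 fun j => papp P (12 + j)) _).trans e2)) ((rec0 (c3 P) (z0 fun j => papp P (18 + j)) _).trans e3)).symm
  simp only [← Nat.shiftRight_add, Nat.xor_eq, ← Nat.xor_assoc]
  rfl

/-- test for a permutation -/
def ip (P : ℕ) : Bool := Nat.beq
  (Nat.xor (Nat.xor (Nat.xor (Nat.xor (Nat.xor (Nat.xor (Nat.xor (Nat.xor (Nat.xor (Nat.xor (Nat.xor (Nat.xor
    (Nat.xor (Nat.xor (Nat.xor (Nat.xor (Nat.xor (Nat.xor (Nat.xor (Nat.xor (Nat.xor (Nat.xor (Nat.xor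
    (Nat.shiftLeft 1 (Nat.mod P 32)) (Nat.shiftLeft 1 (Nat.mod (Nat.shiftRight P 5) 32))) (Nat.shiftLeft 1 (Nat.mod
    (Nat.shiftRight P 10) 32))) (Nat.shiftLeft 1 (Nat.mod (Nat.shiftRight P 15) 32))) (Nat.shiftLeft 1 (Nat.mod
    (Nat.shiftRight P 20) 32))) (Nat.shiftLeft 1 (Nat.mod (Nat.shiftRight P 25) 32))) (Nat.shiftLeft 1 (Nat.mod
    (Nat.shiftRight P 30) 32))) (Nat.shiftLeft 1 (Nat.mod (Nat.shiftRight P 35) 32))) (Nat.shiftLeft 1 (Nat.mod
    (Nat.shiftRight P 40) 32))) (Nat.shiftLeft 1 (Nat.mod (Nat.shiftRight P 45) 32))) (Nat.shiftLeft 1 (Nat.mod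
    (Nat.shiftRight P 50) 32))) (Nat.shiftLeft 1 (Nat.mod (Nat.shiftRight P 55) 32))) (Nat.shiftLeft 1 (Nat.mod
    (Nat.shiftRight P 60) 32))) (Nat.shiftLeft 1 (Nat.mod (Nat.shiftRight P 65) 32))) (Nat.shiftLeft 1 (Nat.mod
    (Nat.shiftRight P 70) 32))) (Nat.shiftLeft 1 (Nat.mod (Nat.shiftRight P 75) 32))) (Nat.shiftLeft 1 (Nat.mod
    (Nat.shiftRight P 80) 32))) (Nat.shiftLeft 1 (Nat.mod (Nat.shiftRight P 85) 32))) (Nat.shiftLeft 1 (Nat.mod
    (Nat.shiftRight P 90) 32))) (Nat.shiftLeft 1 (Nat.mod (Nat.shiftRight P 95) 32))) (Nat.shiftLeft 1 (Nat.mod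
    (Nat.shiftRight P 100) 32))) (Nat.shiftLeft 1 (Nat.mod (Nat.shiftRight P 105) 32))) (Nat.shiftLeft 1 (Nat.mod
    (Nat.shiftRight P 110) 32))) (Nat.shiftLeft 1 (Nat.mod (Nat.shiftRight P 115) 32)))
  16777215

theorem isPerm_eq : isPerm = ip := funext fun _ => rfl

/-- loop -/
noncomputable def allN (f : ℕ → Bool) (n : ℕ) : Bool := Nat.rec true (fun k ih => and (f k) ih) n

theorem allN_spec {f : ℕ → Bool} : ∀ {n : ℕ}, allN f n = true → ∀ k, k < n → f k = true
  | n + 1, h, k, hk => by
    obtain ⟨h1, h2⟩ := Bool.and_eq_true_iff.1 (show (f n && allN f n) = true from h)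
    rcases Nat.lt_succ_iff_lt_or_eq.1 hk with h3 | rfl
    · exact allN_spec h2 k h3
    · exact h1

/-- weight of twelve bits, plain form -/
def p0 (v : ℕ) : ℕ :=
  (Nat.add (Nat.add (Nat.add (Nat.add (Nat.add (Nat.add (Nat.add (Nat.add (Nat.add (Nat.add (Nat.add (Nat.mod v 2)
    (Nat.mod (Nat.shiftRight v 1) 2)) (Nat.mod (Nat.shiftRight v 2) 2)) (Nat.mod (Nat.shiftRight v 3) 2)) (Nat.mod
    (Nat.shiftRight v 4) 2)) (Nat.mod (Nat.shiftRight v 5) 2)) (Nat.mod (Nat.shiftRight v 6) 2)) (Nat.mod
    (Nat.shiftRight v 7) 2)) (Nat.mod (Nat.shiftRight v 8) 2)) (Nat.mod (Nat.shiftRight v 9) 2)) (Nat.mod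
    (Nat.shiftRight v 10) 2)) (Nat.mod (Nat.shiftRight v 11) 2))

/-- table of the weights -/
def pT : ℕ := 0xcbbabaa9baa9a998baa9a998a9989887baa9a998a9989887a998988798878776baa9a998a9989887a998988798878776a9989887988787769887877687767665baa9a998a9989887a998988798878776a9989887988787769887877687767665a998988798878776988787768776766598878776877676658776766576656554baa9a998a9989887a998988798878776a9989887988787769887877687767665a998988798878776988787768776766598878776877676658776766576656554a9989887988787769887877687767665988787768776766587767665766565549887877687767665877676657665655487767665766565547665655465545443baa9a998a9989887a998988798878776a9989887988787769887877687767665a998988798878776988787768776766598878776877676658776766576656554a9989887988787769887877687767665988787768776766587767665766565549887877687767665877676657665655487767665766565547665655465545443a99898879887877698878776877676659887877687767665877676657665655498878776877676658776766576656554877676657665655476656554655454439887877687767665877676657665655487767665766565547665655465545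4438776766576656554766565546554544376656554655454436554544354434332baa9a998a9989887a998988798878776a9989887988787769887877687767665a998988798878776988787768776766598878776877676658776766576656554a9989887988787769887877687767665988787768776766587767665766565549887877687767665877676657665655487767665766565547665655465545443a998988798878776988787768776766598878776877676658776766576656554988787768776766587767665766565548776766576656554766565546554544398878776877676658776766576656554877676657665655476656554655454438776766576656554766565546554544376656554655454436554544354434332a99898879887877698878776877676659887877687767665877676657665655498878776877676658776766576656554877676657665655476656554655454439887877687767665877676657665655487767665766565547665655465545443877676657665655476656554655454437665655465545443655454435443433298878776877676658776766576656554877676657665655476656554655454438776766576656554766565546554544376656554655454436554544354434332877676657665655476656554655454437665655465545443655454435443433276656554655454436554544354434332655454435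44343325443433243323221baa9a998a9989887a998988798878776a9989887988787769887877687767665a998988798878776988787768776766598878776877676658776766576656554a9989887988787769887877687767665988787768776766587767665766565549887877687767665877676657665655487767665766565547665655465545443a998988798878776988787768776766598878776877676658776766576656554988787768776766587767665766565548776766576656554766565546554544398878776877676658776766576656554877676657665655476656554655454438776766576656554766565546554544376656554655454436554544354434332a9989887988787769887877687767665988787768776766587767665766565549887877687767665877676657665655487767665766565547665655465545443988787768776766587767665766565548776766576656554766565546554544387767665766565547665655465545443766565546554544365545443544343329887877687767665877676657665655487767665766565547665655465545443877676657665655476656554655454437665655465545443655454435443433287767665766565547665655465545443766565546554544365545443544343327665655465545443655454435443433265545443544343325443433243323221a99898879887877698878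7768776766598878776877676658776766576656554988787768776766587767665766565548776766576656554766565546554544398878776877676658776766576656554877676657665655476656554655454438776766576656554766565546554544376656554655454436554544354434332988787768776766587767665766565548776766576656554766565546554544387767665766565547665655465545443766565546554544365545443544343328776766576656554766565546554544376656554655454436554544354434332766565546554544365545443544343326554544354434332544343324332322198878776877676658776766576656554877676657665655476656554655454438776766576656554766565546554544376656554655454436554544354434332877676657665655476656554655454437665655465545443655454435443433276656554655454436554544354434332655454435443433254434332433232218776766576656554766565546554544376656554655454436554544354434332766565546554544365545443544343326554544354434332544343324332322176656554655454436554544354434332655454435443433254434332433232216554544354434332544343324332322154434332433232214332322132212110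

/-- weight -/
def pp (m : ℕ) : ℕ := Nat.add (Nat.mod (Nat.shiftRight pT (Nat.mul 4 (Nat.mod m 4096))) 16)
  (Nat.mod (Nat.shiftRight pT (Nat.mul 4 (Nat.mod (Nat.shiftRight m 12) 4096))) 16)

theorem pp_tab : allN (fun j => allN (fun k => Nat.beq (Nat.mod (Nat.shiftRight pT (Nat.mul 4 (Nat.add (Nat.mul 64 j) k))) 16)
    (p0 (Nat.add (Nat.mul 64 j) k))) 64) 64 = true := by decide +kernel

theorem pp_half (x : ℕ) : Nat.mod (Nat.shiftRight pT (Nat.mul 4 (Nat.mod x 4096))) 16 = p0 x := by
  have h := Nat.eq_of_beq_eq_true (allN_spec (allN_spec pp_tab (x / 64 % 64) (Nat.mod_lt _ (by decide))) (x % 64) (Nat.mod_lt _ (by decide)))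
  have e : Nat.add (Nat.mul 64 (x / 64 % 64)) (x % 64) = x % 2 ^ 12 := by show 64 * (x / 64 % 64) + x % 64 = _; omega
  have b : ∀ j, j < 12 → Nat.mod (Nat.shiftRight (x % 2 ^ 12) j) 2 = Nat.mod (Nat.shiftRight x j) 2 := fun j hj => by
    have h := Nat.testBit_mod_two_pow x 12 j
    rw [decide_eq_true hj, Bool.true_and, Nat.testBit_eq_decide_div_mod_eq, Nat.testBit_eq_decide_div_mod_eq, decide_eq_decide,
      ← Nat.shiftRight_eq_div_pow, ← Nat.shiftRight_eq_div_pow] at h
    show (x % 2 ^ 12) >>> j % 2 = x >>> j % 2
    omega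
  rw [e] at h
  refine h.trans ?_
  delta p0
  rw [b 1 (by decide), b 2 (by decide), b 3 (by decide), b 4 (by decide), b 5 (by decide), b 6 (by decide), b 7 (by decide),
    b 8 (by decide), b 9 (by decide), b 10 (by decide), b 11 (by decide), show Nat.mod (x % 2 ^ 12) 2 = Nat.mod x 2 from b 0 (by decide)]

theorem popcount_eq : popcount = pp := funext fun m => by
  refine Eq.trans ?_ (congrArg₂ Nat.add (pp_half m) (pp_half (m >>> 12))).symm
  delta p0
  simp only [Nat.shiftRight_eq, ← Nat.shiftRight_add, Nat.add_eq, ← Nat.add_assoc]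
  rfl

/-- the code word, plain form -/
def e0 (i : ℕ) : ℕ :=
  (Nat.xor (Nat.xor (Nat.xor (Nat.xor (Nat.xor (Nat.xor (Nat.xor (Nat.xor (Nat.xor (Nat.xor (Nat.xor (Nat.mul
    (Nat.mod i 2) 13062145) (Nat.mul (Nat.mod (Nat.shiftRight i 1) 2) 4845570)) (Nat.mul (Nat.mod (Nat.shiftRight i
    2) 2) 13938692)) (Nat.mul (Nat.mod (Nat.shiftRight i 3) 2) 7221256)) (Nat.mul (Nat.mod (Nat.shiftRight i 4) 2)
    10170384)) (Nat.mul (Nat.mod (Nat.shiftRight i 5) 2) 11952160)) (Nat.mul (Nat.mod (Nat.shiftRight i 6) 2)
    15515712)) (Nat.mul (Nat.mod (Nat.shiftRight i 7) 2) 2019456)) (Nat.mul (Nat.mod (Nat.shiftRight i 8) 2)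
    4038912)) (Nat.mul (Nat.mod (Nat.shiftRight i 9) 2) 8077824)) (Nat.mul (Nat.mod (Nat.shiftRight i 10) 2)
    11654144)) (Nat.mul (Nat.mod (Nat.shiftRight i 11) 2) 14919680))

theorem e0_eq (i : ℕ) : enc i = e0 i := rfl

/-- first table of code words -/
def eT0 : ℕ := 239510434820274484582990021118980983058065035983932422742857089676379683193280701497805739257111506311983523676792601614103705453893104186446304275556025705311706521679889737507838043027650129569524445515896878743591137186693463246848865625044561441637378123989740741737084160787267541966105167481045864428001303886005048377488815857689393365140475677037785323422672783152808326207574393042981716014969628508671865993941298976958860366526160550257688123870806016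

/-- second table of code words -/
def eT1 : ℕ := 2170801978877056321206066550973645231370018518148737010460888627484320594131954417005307800194815298264957691227617220182861712980008484935104406725257219755645831506356463650249473718557211287114430814465724194914313158489264210233264328116331432912057880136939143465690909374580877009309300185414866380981791077099760077532401440591524037543454007497739766655759863206419661742301300073101175805721402921519000902489630112648558377488461552587503226534655688704

/-- the code word -/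
def en (i : ℕ) : ℕ :=
  Nat.xor (Nat.mod (Nat.shiftRight eT0 (Nat.mul 24 (Nat.mod i 64))) 16777216)
    (Nat.mod (Nat.shiftRight eT1 (Nat.mul 24 (Nat.mod (Nat.shiftRight i 6) 64))) 16777216)

theorem en_tab : allN (fun j => allN (fun k => Nat.beq (e0 (Nat.add (Nat.mul 64 j) k)) (en (Nat.add (Nat.mul 64 j) k))) 64) 64 = true := by
  decide +kernel

theorem enc_eq : enc = en := funext fun i => by
  have h := Nat.eq_of_beq_eq_true (allN_spec (allN_spec en_tab (i / 64 % 64) (Nat.mod_lt _ (by decide))) (i % 64) (Nat.mod_lt _ (by decide)))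
  have e : Nat.add (Nat.mul 64 (i / 64 % 64)) (i % 64) = i % 4096 := by show 64 * (i / 64 % 64) + i % 64 = _; omega
  have e1 : Nat.mod (i % 4096) 64 = Nat.mod i 64 := by show i % 4096 % 64 = i % 64; omega
  have e2 : Nat.mod (Nat.shiftRight (i % 4096) 6) 64 = Nat.mod (Nat.shiftRight i 6) 64 := by
    show (i % 4096) >>> 6 % 64 = i >>> 6 % 64
    rw [Nat.shiftRight_eq_div_pow, Nat.shiftRight_eq_div_pow]; omega
  rw [e, ← e0_eq, enc_mod] at h
  rw [h]
  delta en
  rw [e1, e2]

/-- test for a code word -/
def ic (m : ℕ) : Bool := Nat.beq (en m) m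

theorem isCode_eq : isCode = ic := funext fun m => congrArg (fun f : ℕ → ℕ => Nat.beq (f m) m) enc_eq

/-- the syndrome -/
def syn (m : ℕ) : ℕ := Nat.xor (en m) m

theorem syn_xor (m n : ℕ) : syn (m ^^^ n) = syn m ^^^ syn n := by
  show en (m ^^^ n) ^^^ (m ^^^ n) = (en m ^^^ m) ^^^ (en n ^^^ n)
  rw [← enc_eq, enc_xor]
  ac_rfl

theorem isCode_syn (m : ℕ) : isCode m = true ↔ syn m = 0 := by
  rw [isCode_iff, enc_eq]
  exact Nat.xor_eq_zero_iff.symm

/-- the syndromes of the points -/
def sT : ℕ := 89884656753579746629736815597155012919053819629231300169974335991435450977486621650048908736992967772721990730446448769367134891609248586294102283987248318133409806745129229874119254163662133418911421900958556034265284072788198991792063176374444598438967799647921065138736778405262701217088271321546042593280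

/-- the basis words through the points -/
def bT : ℕ := 45654141244558518158640418336277607118545112271829644826632528595873861884377597469268114996522464462911953544362840610428567154512519187746914228115733943221705458013403773610060949700030120956719162405051655094185732262268269021696774284097341302397697028222385705336357972208062624434243955513966442510039302206673124735778915224709663398676323384420127235823849800570127432747823249462290646637036408341013547677168505689055459875730881068425423501049971637047689095064568589974982866474348263252895388413408807683256283290999051552821442477102105442032230602516916218275162258564263843984143973703627599572640105817045295694410195101850937980437930722554899261063885421975450939471459279413804751381331181672627797239523179842219708085001896264320167453013474193770395756067745161940886976045732801195826236719886248012153220192343604560024254335694212336186232191505355787291693356733523868080541401021614984599736581839631541956413930043736546849028132834245510145466530111587952647670852744346955128175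599956493553241127839583308281087350537479333446371508546369660004374537518416958056987692085559284009917179837108461431047086059086826932993878728144212828758320042218931470416766834409761591676284624851672140006168111211013667118476836340439023496540691849328759718772915678100150663829892797247223483886950380465821842522728597761016388767319558720956816893114606111304611940970669394282115157444197930497006085564539149823922330334305575148238570588195255271912044564104753657359048974200624239993888687063722717730657379735804837245015115975782999929019786739463734497627747608306534664554092174412769114866642230513379450617840486445447962230935636880856275032921737477658379332720825040573572980631213360010925353820191620322940427539039723784219262463923174689611659487617795586713916070875963368711841727730799028305897181525056394958330929251362041188938790821202326273361193311373992292585835316002648835238309914071242918574589004817890525064690075596903231783539418539734154748835006368262971229019653299534209427047595889415293743465805722624661492415119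383337247680884503842507031602724177572596561146036607609471577919091574444810314556307628732626189597706317010887557264709436862702643731170844829655321882664970036960309128450264312218254983787158216446126972455114638003101800076224564423850493775165605726231510295490169320767541184284744537426687725149685119021150263344760489100252585137390369861198720993021177487825759289612285043380858574920201246105291323161779368874904831451429725897745244195579948471194807416139405266291558940522562077068994075624021282700669701041108862688359623897606816325084498964328618105825089568272459000403117954395536470713794036404755161252975560831218069505601311980302363093215244443960077189121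

/-- all syndromes of the images of the basis words -/
def zz (P : ℕ) : ℕ :=
  (Nat.xor (Nat.xor (Nat.xor (Nat.xor (Nat.xor (Nat.xor (Nat.xor (Nat.xor (Nat.xor (Nat.xor (Nat.xor (Nat.xor
    (Nat.xor (Nat.xor (Nat.xor (Nat.xor (Nat.xor (Nat.xor (Nat.xor (Nat.xor (Nat.xor (Nat.xor (Nat.xor (Nat.xor 0
    (Nat.mul (Nat.mod (Nat.shiftRight sT (Nat.mul 32 (Nat.mod P 32))) 4294967296) 1)) (Nat.mul (Nat.mod
    (Nat.shiftRight sT (Nat.mul 32 (Nat.mod (Nat.shiftRight P 5) 32))) 4294967296) 4294967296)) (Nat.mul (Nat.mod
    (Nat.shiftRight sT (Nat.mul 32 (Nat.mod (Nat.shiftRight P 10) 32))) 4294967296) 18446744073709551616)) (Nat.mul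
    (Nat.mod (Nat.shiftRight sT (Nat.mul 32 (Nat.mod (Nat.shiftRight P 15) 32))) 4294967296)
    79228162514264337593543950336)) (Nat.mul (Nat.mod (Nat.shiftRight sT (Nat.mul 32 (Nat.mod (Nat.shiftRight P 20)
    32))) 4294967296) 340282366920938463463374607431768211456)) (Nat.mul (Nat.mod (Nat.shiftRight sT (Nat.mul 32
    (Nat.mod (Nat.shiftRight P 25) 32))) 4294967296) 1461501637330902918203684832716283019655932542976)) (Nat.mul
    (Nat.mod (Nat.shiftRight sT (Nat.mul 32 (Nat.mod (Nat.shiftRight P 30) 32))) 4294967296)
    6277101735386680763835789423207666416102355444464034512896)) (Nat.mul (Nat.mod (Nat.shiftRight sT (Nat.mul 32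
    (Nat.mod (Nat.shiftRight P 35) 32))) 4294967296)
    26959946667150639794667015087019630673637144422540572481103610249216)) (Nat.mul (Nat.mod (Nat.shiftRight sT
    (Nat.mul 32 (Nat.mod (Nat.shiftRight P 40) 32))) 4294967296)
    115792089237316195423570985008687907853269984665640564039457584007913129639936)) (Nat.mul (Nat.mod
    (Nat.shiftRight sT (Nat.mul 32 (Nat.mod (Nat.shiftRight P 45) 32))) 4294967296)
    497323236409786642155382248146820840100456150797347717440463976893159497012533375533056)) (Nat.mul (Nat.mod
    (Nat.shiftRight sT (Nat.mul 32 (Nat.mod (Nat.shiftRight P 50) 32))) 4294967296)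
    2135987035920910082395021706169552114602704522356652769947041607822219725780640550022962086936576)) (Nat.mul
    (Nat.mod (Nat.shiftRight sT (Nat.mul 32 (Nat.mod (Nat.shiftRight P 55) 32))) 4294967296)
    9173994463960286046443283581208347763186259956673124494950355357547691504353939232280074212440502746218496))
    (Nat.mul (Nat.mod (Nat.shiftRight sT (Nat.mul 32 (Nat.mod (Nat.shiftRight P 60) 32))) 4294967296)
    2135987035920910082395021706196512061269855162151319785034401520862857036829177208193169013866497)) (Nat.mul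
    (Nat.mod (Nat.shiftRight sT (Nat.mul 32 (Nat.mod (Nat.shiftRight P 65) 32))) 4294967296)
    9173994463960286046443283581324139852423576152096695479960504767038632674304783647778244165157175125082112))
    (Nat.mul (Nat.mod (Nat.shiftRight sT (Nat.mul 32 (Nat.mod (Nat.shiftRight P 70) 32))) 4294967296)
    2135987036418233318804808348351894309422953103988624118232575648277732198345159257980723334742017)) (Nat.mul
    (Nat.mod (Nat.shiftRight sT (Nat.mul 32 (Nat.mod (Nat.shiftRight P 75) 32))) 4294967296)
    9173994466096273082364193663719161558620088213372827743845749731198858516938644332938833721141023612076032))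
    (Nat.mul (Nat.mod (Nat.shiftRight sT (Nat.mul 32 (Nat.mod (Nat.shiftRight P 80) 32))) 4294967296)
    9173994466096273082861516900128948200748510514846220842416152186145691096649184437456795218091347401506817))
    (Nat.mul (Nat.mod (Nat.shiftRight sT (Nat.mul 32 (Nat.mod (Nat.shiftRight P 85) 32))) 4294967296)
    9173994463960286046940606817618134405368602151487095974846940025069730037753244205054468203898820976705537))
    (Nat.mul (Nat.mod (Nat.shiftRight sT (Nat.mul 32 (Nat.mod (Nat.shiftRight P 90) 32))) 4294967296)
    115792089264276142096998726540203105341456307680768287873349506034803960446977)) (Nat.mul (Nat.mod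
    (Nat.shiftRight sT (Nat.mul 32 (Nat.mod (Nat.shiftRight P 95) 32))) 4294967296)
    497323236525578731419658390243819566639197754501813404569949518397237647891043757064192)) (Nat.mul (Nat.mod
    (Nat.shiftRight sT (Nat.mul 32 (Nat.mod (Nat.shiftRight P 100) 32))) 4294967296)
    2135987036418233318920600437589210504840246987261925345322350125887086034431996307895673612664832)) (Nat.mul
    (Nat.mod (Nat.shiftRight sT (Nat.mul 32 (Nat.mod (Nat.shiftRight P 105) 32))) 4294967296)
    9173994466096273082861516900128948200748510514852497944153000368546517506623754078404664746285624849334272))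
    (Nat.mul (Nat.mod (Nat.shiftRight sT (Nat.mul 32 (Nat.mod (Nat.shiftRight P 110) 32))) 4294967296)
    9173994463960286046940606817618134405341642204826222436786198189108875011217690103751868775979171704733697))
    (Nat.mul (Nat.mod (Nat.shiftRight sT (Nat.mul 32 (Nat.mod (Nat.shiftRight P 115) 32))) 4294967296)
    9173994466096273082364193663603369469355812071282106119043856309896240086884491247773015222279090277974017))

/-- test for an automorphism of the code -/
def ia (P : ℕ) : Bool := Nat.beq (Nat.mod (zz P) 39402006196394479212279040100143613805079739270465446667948293404245721771497210611414266254884915640806627990306816) 0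

/-- one summand of `zz` -/
def zt (i x : ℕ) : ℕ :=
  Nat.mul (Nat.mod (Nat.shiftRight sT (Nat.mul 32 x)) 4294967296) (Nat.mod (Nat.shiftRight bT (Nat.mul 384 i)) 39402006196394479212279040100143613805079739270465446667948293404245721771497210611414266254884915640806627990306816)

/-- one slot -/
def sl (k z : ℕ) : ℕ := Nat.mod (Nat.shiftRight z (Nat.mul 32 k)) 4294967296

theorem sl_eq (k z : ℕ) : sl k z = z / 2 ^ (32 * k) % 2 ^ 32 := by rw [← Nat.shiftRight_eq_div_pow]; rfl

theorem sl_xor (k a b : ℕ) : sl k (a ^^^ b) = sl k a ^^^ sl k b := by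
  show (a ^^^ b) >>> (32 * k) % 2 ^ 32 = a >>> (32 * k) % 2 ^ 32 ^^^ b >>> (32 * k) % 2 ^ 32
  rw [Nat.shiftRight_xor_distrib, Nat.xor_mod_two_pow]

theorem zz_eq (P : ℕ) : zz P = (List.range 24).foldl (fun acc i => acc ^^^ zt i (papp P i)) 0 := by
  rw [show List.range 24 = [0, 1, 2, 3, 4, 5, 6, 7, 8, 9, 10, 11, 12, 13, 14, 15, 16, 17, 18, 19, 20, 21, 22, 23] by decide]
  rfl

theorem zt_tab : allN (fun k => allN (fun i => allN (fun x => Nat.beq (sl k (zt i x))
    (syn (Nat.shiftLeft (Nat.mod (Nat.shiftRight (basisMask k) i) 2) x))) 32) 24) 12 = true := by decide +kernel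

theorem sl_fold (P : ℕ) {k : ℕ} (hk : k < 12) : ∀ (l : List ℕ) (a b : ℕ), (∀ i ∈ l, i < 24) → sl k a = syn b →
    sl k (l.foldl (fun acc i => acc ^^^ zt i (papp P i)) a) =
      syn (l.foldl (fun acc i => acc ^^^ (((basisMask k >>> i) % 2) <<< papp P i)) b)
  | [], _, _, _, h => h
  | i :: l, a, b, hl, h => sl_fold P hk l _ _ (fun j hj => hl j (List.mem_cons_of_mem _ hj)) (by
      rw [sl_xor, syn_xor, h]
      exact congrArg _ (Nat.eq_of_beq_eq_true (allN_spec (allN_spec (allN_spec zt_tab k hk) i (hl i List.mem_cons_self))
        (papp P i) (Nat.mod_lt _ (by decide)))))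

theorem slots (z : ℕ) : ∀ n : ℕ, z % 2 ^ (32 * n) = 0 ↔ ∀ k < n, sl k z = 0
  | 0 => ⟨fun _ k hk => absurd hk (Nat.not_lt_zero k), fun _ => Nat.mod_one z⟩
  | n + 1 => by
    rw [Nat.mul_succ, pow_add, Nat.mod_mul, Nat.add_eq_zero_iff, slots z n, Nat.mul_eq_zero, ← sl_eq, Nat.forall_lt_succ_right,
      or_iff_right (Nat.two_pow_pos _).ne']

theorem isAut_eq : isAut = ia := funext fun P => by
  rw [Bool.eq_iff_iff, isAut_iff]
  refine Iff.trans ?_ ((slots (zz P) 12).symm.trans Nat.beq_eq.to_iff.symm)
  refine forall_congr' fun k => forall_congr' fun hk => ?_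
  rw [isCode_syn, zz_eq, pimg_eq_foldl,
    sl_fold P hk _ 0 0 (fun i hi => List.mem_range.1 hi) ((Nat.zero_mod _ ▸ Nat.zero_div _ ▸ sl_eq k 0 : sl k 0 = 0).trans (by decide +kernel))]

end Cfsg.Agent.GolayF
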