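import Cfsg.Prelude.Def_Sporadic_a
import Cfsg.Agent.SporadicA.FieldFour
import Cfsg.Agent.SporadicA.GolayBase
import Cfsg.Agent.SporadicA.M24Mem
set_option linter.all false

/-!
# The projective plane of order 4 on 21 of the 24 points

`planeHom : PSL(3, F4) →* Equiv.Perm GolayPt` is the action of `PSL(3, 4)` on the 21 points of
`GolayPt` other than `none, 0, 1`, under an explicit bijection with the points of the projective
plane over `F4`.
-/

set_option autoImplicit false

namespace Cfsg.Agent.SporadicA.PlaneFour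

open Cfsg Cfsg.Agent.SporadicA.FieldFour
open scoped LinearAlgebra.Projectivization

/-- Vectors of length 3 over `F4`. -/
abbrev V3 : Type := Fin 3 → F4

/-- Number `16 a + 4 b + c` of a vector. -/
def code (v : V3) : ℕ := 16 * (v 0).toNat + 4 * (v 1).toNat + (v 2).toNat

/-- The vector with a given number. -/
def vecOf (n : ℕ) : V3 := ![F4.ofNat (n / 16 % 4), F4.ofNat (n / 4 % 4), F4.ofNat (n % 4)]

/-- The point with a given number; 23 is the extra point. -/
def ofIdx (n : ℕ) : GolayPt := if n = 23 then none else some (Fin.ofNat 23 n : ZMod 23)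

/-- The number of a point. -/
def idx : GolayPt → ℕ
  | none => 23
  | some x => x.val

/-- The point of each nonzero vector. -/
def ptTable : List ℕ := [0, 2, 2, 2, 3, 5, 14, 17, 3, 17, 5, 14, 3, 14, 17, 5, 4, 13, 16, 22, 11, 8,
  18, 12, 19, 6, 7, 21, 20, 10, 9, 15, 4, 22, 13, 16, 20, 15, 10, 9, 11, 12, 8, 18, 19, 21, 6, 7,
  4, 16, 22, 13, 19, 7, 21, 6, 20, 9, 15, 10, 11, 18, 12, 8]

/-- A vector representing each point. -/
def repTable : List ℕ := [0, 0, 1, 4, 16, 5, 25, 26, 21, 30, 29, 20, 23, 17, 6, 31, 18, 7, 22, 24,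
  28, 27, 19, 0]

/-- The point of a nonzero vector. -/
def ptOf (v : V3) : GolayPt := ofIdx (ptTable.getD (code v) 0)

/-- A vector representing a point. -/
def rep (x : GolayPt) : V3 := vecOf (repTable.getD (idx x) 0)

theorem forall_vec {P : V3 → Prop} (h : ∀ a b c : F4, P ![a, b, c]) (v : V3) : P v := by
  have := h (v 0) (v 1) (v 2)
  have hv : ![v 0, v 1, v 2] = v := by
    funext i
    fin_cases i <;> rfl
  rwa [hv] at this

/-- The 21 points of the plane. -/
abbrev IsPlanePt (x : GolayPt) : Prop := x ≠ none ∧ x ≠ some 0 ∧ x ≠ some 1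

theorem isPlanePt_ptOf (v : V3) (hv : v ≠ 0) : IsPlanePt (ptOf v) := by
  revert v
  apply forall_vec
  decide +kernel

theorem ptOf_smul (v : V3) (c : F4) (hc : c ≠ 0) : ptOf (c • v) = ptOf v := by
  revert v
  apply forall_vec
  revert c
  decide +kernel

theorem rep_ne_zero (x : GolayPt) (hx : IsPlanePt x) : rep x ≠ 0 := by
  revert x
  decide +kernel

theorem ptOf_rep (x : GolayPt) (hx : IsPlanePt x) : ptOf (rep x) = x := by
  revert x
  decide +kernel

theorem rep_ptOf (v : V3) (hv : v ≠ 0) : ∃ c : F4, c • v = rep (ptOf v) := by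
  revert v
  apply forall_vec
  decide +kernel

/-- The points of the projective plane over `F4` are the 21 points of `GolayPt` other than
`none, 0, 1`. -/
noncomputable def planeEquiv : ℙ F4 V3 ≃ {x : GolayPt // IsPlanePt x} where
  toFun := Projectivization.lift (fun v => ⟨ptOf v.1, isPlanePt_ptOf v.1 v.2⟩) (by
    rintro ⟨a, ha⟩ ⟨b, hb⟩ t hab
    have hab' : a = t • b := hab
    have ht : t ≠ 0 := by
      rintro rfl
      exact ha (by rw [hab', zero_smul])
    apply Subtype.ext
    show ptOf a = ptOf b
    rw [hab', ptOf_smul b t ht])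
  invFun := fun x => Projectivization.mk F4 (rep x.1) (rep_ne_zero x.1 x.2)
  left_inv := by
    intro x
    induction x using Projectivization.ind with
    | h v hv =>
      rw [Projectivization.lift_mk, Projectivization.mk_eq_mk_iff']
      exact rep_ptOf v hv
  right_inv := by
    rintro ⟨x, hx⟩
    rw [Projectivization.lift_mk]
    exact Subtype.ext (ptOf_rep x hx)

theorem planeEquiv_mk (v : V3) (hv : v ≠ 0) :
    (planeEquiv (Projectivization.mk F4 v hv) : GolayPt) = ptOf v := rfl

theorem planeEquiv_symm (x : {x : GolayPt // IsPlanePt x}) :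
    planeEquiv.symm x = Projectivization.mk F4 (rep x.1) (rep_ne_zero x.1 x.2) := rfl

/-- The action of permutations of the plane on all 24 points. -/
noncomputable def permHom : Equiv.Perm (ℙ F4 V3) →* Equiv.Perm GolayPt :=
  (Equiv.Perm.ofSubtype (p := IsPlanePt)).comp planeEquiv.permCongrHom.toMonoidHom

theorem permHom_injective : Function.Injective permHom :=
  Equiv.Perm.ofSubtype_injective.comp planeEquiv.permCongrHom.injective

theorem permHom_apply_of_not (g : Equiv.Perm (ℙ F4 V3)) (x : GolayPt) (hx : ¬ IsPlanePt x) :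
    permHom g x = x :=
  Equiv.Perm.ofSubtype_apply_of_not_mem _ hx

theorem permHom_apply (g : Equiv.Perm (ℙ F4 V3)) (x : GolayPt) (hx : IsPlanePt x) :
    permHom g x = planeEquiv (g (planeEquiv.symm ⟨x, hx⟩)) :=
  Equiv.Perm.ofSubtype_apply_of_mem _ hx

/-- The action of `SL(3, 4)` on the 24 points. -/
noncomputable def slHom : Matrix.SpecialLinearGroup (Fin 3) F4 →* Equiv.Perm GolayPt :=
  permHom.comp (MulAction.toPermHom _ _)

/-- The action of `PSL(3, 4)` on the 24 points. -/
noncomputable def pslHom : Matrix.ProjectiveSpecialLinearGroup (Fin 3) F4 →* Equiv.Perm GolayPt :=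
  permHom.comp Projectivization.PSLAction.toPermHom

theorem pslHom_injective : Function.Injective pslHom :=
  permHom_injective.comp Matrix.ProjectiveSpecialLinearGroup.toPermHom_injective

theorem pslHom_mk (g : Matrix.SpecialLinearGroup (Fin 3) F4) :
    pslHom (QuotientGroup.mk g) = slHom g := rfl

theorem slHom_apply_of_not (g : Matrix.SpecialLinearGroup (Fin 3) F4) (x : GolayPt)
    (hx : ¬ IsPlanePt x) : slHom g x = x := permHom_apply_of_not _ _ hx

theorem slHom_apply (g : Matrix.SpecialLinearGroup (Fin 3) F4) (x : GolayPt) (hx : IsPlanePt x) :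
    slHom g x = ptOf (g.1.mulVec (rep x)) := by
  show permHom _ x = _
  rw [permHom_apply _ _ hx, planeEquiv_symm]
  rfl

theorem slHom_transvection_apply {i j : Fin 3} (hij : i ≠ j) (c : F4) (x : GolayPt)
    (hx : IsPlanePt x) :
    slHom (Matrix.SpecialLinearGroup.transvection hij c) x =
      ptOf (fun k => if k = i then rep x i + c * rep x j else rep x k) := by
  rw [slHom_apply _ _ hx, Matrix.SpecialLinearGroup.transvection_coe]
  congr 1
  funext k
  rw [Matrix.add_mulVec, Matrix.one_mulVec]
  by_cases hk : k = i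
  · subst hk
    simp [Matrix.single_mulVec_eq]
  · simp [Matrix.single_mulVec_eq, hk]

theorem slHom_diag2n_apply {i j : Fin 3} (hij : i ≠ j) {c : F4} (hc : c ≠ 0) (x : GolayPt)
    (hx : IsPlanePt x) :
    slHom (Matrix.SpecialLinearGroup.diag2n hij c hc) x =
      ptOf (fun k => if k = i then c * rep x k else if k = j then c⁻¹ * rep x k else rep x k) := by
  rw [slHom_apply _ _ hx, Matrix.SpecialLinearGroup.diag2n_coe]
  congr 1
  funext k
  rw [Matrix.mulVec_diagonal]
  split_ifs <;> simp

/-! ### The image preserves the code -/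

/-- The map of the 24 points induced by a transvection. -/
def trF (i j : Fin 3) (c : F4) (x : GolayPt) : GolayPt :=
  if IsPlanePt x then ptOf (fun k => if k = i then rep x i + c * rep x j else rep x k) else x

/-- The map of the 24 points induced by a diagonal matrix. -/
def dgF (i j : Fin 3) (c : F4) (x : GolayPt) : GolayPt :=
  if IsPlanePt x then
    ptOf (fun k => if k = i then c * rep x k else if k = j then c⁻¹ * rep x k else rep x k)
  else x

theorem slHom_transvection_eq {i j : Fin 3} (hij : i ≠ j) (c : F4) :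
    (slHom (Matrix.SpecialLinearGroup.transvection hij c) : GolayPt → GolayPt) = trF i j c := by
  funext x
  by_cases hx : IsPlanePt x
  · rw [slHom_transvection_apply hij c x hx, trF, if_pos hx]
  · rw [slHom_apply_of_not _ x hx, trF, if_neg hx]

theorem slHom_diag2n_eq {i j : Fin 3} (hij : i ≠ j) {c : F4} (hc : c ≠ 0) :
    (slHom (Matrix.SpecialLinearGroup.diag2n hij c hc) : GolayPt → GolayPt) = dgF i j c := by
  funext x
  by_cases hx : IsPlanePt x
  · rw [slHom_diag2n_apply hij hc x hx, dgF, if_pos hx]
  · rw [slHom_apply_of_not _ x hx, dgF, if_neg hx]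

theorem trF_check : ∀ i j : Fin 3, i ≠ j → ∀ c : F4, ∀ t : Fin 23,
    GolayBase.isCode (GolayBase.maskW (GolayBase.word (GolayBase.qrMask t.val) ∘ trF i j c)) =
      true := by
  decide +kernel

theorem dgF_check : ∀ i j : Fin 3, i ≠ j → ∀ c : F4, c ≠ 0 → ∀ t : Fin 23,
    GolayBase.isCode (GolayBase.maskW (GolayBase.word (GolayBase.qrMask t.val) ∘ dgF i j c)) =
      true := by
  decide +kernel

theorem slHom_mem_M24 (g : Matrix.SpecialLinearGroup (Fin 3) F4) : slHom g ∈ M24 := by
  induction g using Matrix.SpecialLinearGroup.diagonal_transvection_induction' with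
  | hdiag i j hij hc =>
    apply M24Mem.mem_M24_of_qrWord
    intro t
    rw [slHom_diag2n_eq hij hc, ← GolayBase.word_qrMask, GolayBase.mem_golayCode_iff]
    exact dgF_check i j hij _ hc t
  | htransvec i j hij c =>
    apply M24Mem.mem_M24_of_qrWord
    intro t
    rw [slHom_transvection_eq hij c, ← GolayBase.word_qrMask, GolayBase.mem_golayCode_iff]
    exact trF_check i j hij c t
  | hmul A B hA hB =>
    rw [map_mul]
    exact M24.mul_mem hA hB

theorem pslHom_mem_M24 (g : Matrix.ProjectiveSpecialLinearGroup (Fin 3) F4) : pslHom g ∈ M24 := by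
  obtain ⟨g, rfl⟩ := QuotientGroup.mk_surjective g
  exact slHom_mem_M24 g

end Cfsg.Agent.SporadicA.PlaneFour
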