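import Mathlib
import Cfsg.Agent.SporadicA.SimpleCrit
set_option linter.all false

-- part: SporadicA/SelfCent
section
/-!
Finite groups with a self-centralising element of prime order `p`.

* `card_modEq_one_of_fixedPointFree` : an automorphism of order dividing `p` fixing only `1` forces
  `|S| ≡ 1 mod p`.
* `card_sylow_modEq_one` : if `x` has order `p`, `C_G(x) = ⟨x⟩`, `K` is normal of order prime to `p`,
  then every Sylow subgroup of `K` has order `≡ 1 mod p`.
* `card_normalizer` : `|N_G(⟨x⟩)| = p * ((|G| / p) mod p)`.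
* `isSimpleGroup_of_selfCent` : simplicity from the arithmetic of `|G|`.
-/

set_option autoImplicit false

namespace Cfsg.Agent.SporadicA.SelfCent

open Subgroup MulAction

/-- An automorphism `φ` with `φ ^ p = 1` and no nontrivial fixed element: `|S| ≡ 1 mod p`. -/
theorem card_modEq_one_of_fixedPointFree {S : Type*} [Group S] [Finite S] (p : ℕ) [Fact p.Prime]
    (φ : MulAut S) (hφ : φ ^ p = 1) (hfix : ∀ s : S, φ s = s → s = 1) :
    Nat.card S ≡ 1 [MOD p] := by
  have hP : IsPGroup p (zpowers φ) := by
    rintro ⟨y, hy⟩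
    obtain ⟨k, rfl⟩ := mem_zpowers_iff.1 hy
    refine ⟨1, ?_⟩
    apply Subtype.ext
    change (φ ^ k) ^ (p ^ 1) = 1
    rw [pow_one, ← zpow_natCast, ← zpow_mul, mul_comm, zpow_mul, zpow_natCast, hφ, one_zpow]
  have h := hP.card_modEq_card_fixedPoints S
  have hf : fixedPoints (zpowers φ) S = {1} := by
    ext s
    rw [Set.mem_singleton_iff]
    constructor
    · intro hs
      exact hfix s (hs ⟨φ, mem_zpowers φ⟩)
    · rintro rfl
      intro g
      exact map_one (g : MulAut S)
  rw [hf] at h
  simpa using h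

/-- If `K ⊴ G` has order prime to `p`, `p ∣ |G|`, and every element of order `p` of `G` centralises
only `1` in `K`, then Sylow subgroups of `K` have order `≡ 1 mod p`. -/
theorem card_sylow_modEq_one' {G : Type*} [Group G] [Finite G] (p : ℕ) [Fact p.Prime]
    (hpG : p ∣ Nat.card G) (K : Subgroup G) [K.Normal] (hpK : ¬ p ∣ Nat.card K)
    (hc : ∀ y : G, orderOf y = p → ∀ z ∈ K, Commute z y → z = 1)
    (r : ℕ) [Fact r.Prime] (S : Sylow r K) : Nat.card S ≡ 1 [MOD p] := by
  have hp : p.Prime := Fact.out
  set S' : Subgroup G := (S : Subgroup K).map K.subtype with hS'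
  have hfr : normalizer (S' : Set G) ⊔ K = ⊤ := Sylow.normalizer_sup_eq_top S
  have hidx : K.relIndex (normalizer (S' : Set G)) = K.index := by
    have h1 := relIndex_sup_right (normalizer (S' : Set G)) K
    rw [hfr, relIndex_top_right] at h1
    exact h1.symm
  have hpI : p ∣ K.index := by
    have := K.card_mul_index
    rw [← this] at hpG
    exact (hp.dvd_mul.1 hpG).resolve_left hpK
  have hpM : p ∣ Nat.card (normalizer (S' : Set G)) := by
    rw [← hidx] at hpI
    exact hpI.trans (relIndex_dvd_card _ _)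
  obtain ⟨y, hy⟩ := exists_prime_orderOf_dvd_card' (G := normalizer (S' : Set G)) p hpM
  have hyo : orderOf (y : G) = p := by rw [orderOf_coe, hy]
  have hS'K : S' ≤ K := map_subtype_le _
  have key := card_modEq_one_of_fixedPointFree p (S'.normalizerMonoidHom y)
    (by rw [← map_pow, ← hy, pow_orderOf_eq_one, map_one])
    (by
      intro s hs
      have h2 : (y : G) * s * (y : G)⁻¹ = s := by
        have := congrArg (Subtype.val) hs
        simpa using this
      apply Subtype.ext
      apply hc y hyo s (hS'K s.2)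
      change (s : G) * y = y * s
      rw [← mul_inv_eq_iff_eq_mul.1 h2])
  have hcS : Nat.card S' = Nat.card S :=
    Subgroup.card_map_of_injective (Subgroup.subtype_injective K)
  rwa [hcS] at key

section self

variable {G : Type*} [Group G] [Finite G] (p : ℕ) [Fact p.Prime] (x : G) (hx : orderOf x = p)
  (hc : ∀ z : G, Commute z x → z ∈ zpowers x) (hp2 : ¬ p ^ 2 ∣ Nat.card G)

include hx hc hp2

omit hc in
/-- The Sylow subgroup generated by `x`. -/
theorem exists_sylow : ∃ P : Sylow p G, (P : Subgroup G) = zpowers x ∧ Nat.card P = p := by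
  have hp : p.Prime := Fact.out
  have hP : IsPGroup p (zpowers x) := by
    apply IsPGroup.of_card (n := 1)
    rw [Nat.card_zpowers, hx, pow_one]
  obtain ⟨Q, hQ⟩ := hP.exists_le_sylow
  obtain ⟨n, hn⟩ := Q.2.exists_card_eq
  have hpQ : p ∣ Nat.card Q := by
    have := card_dvd_of_le hQ
    rwa [Nat.card_zpowers, hx] at this
  have hQG : Nat.card Q ∣ Nat.card G := card_subgroup_dvd_card _
  have hn1 : n = 1 := by
    change Nat.card Q = p ^ n at hn
    rcases n with _ | _ | n
    · rw [hn, pow_zero, Nat.dvd_one] at hpQ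
      exact absurd hpQ hp.one_lt.ne'
    · rfl
    · exfalso
      apply hp2
      refine (pow_dvd_pow p (by omega : 2 ≤ n + 1 + 1)).trans ?_
      rw [← hn]; exact hQG
  have hQc : Nat.card Q = p := by
    change Nat.card Q = p ^ n at hn
    rw [hn, hn1, pow_one]
  refine ⟨Q, ?_, hQc⟩
  symm
  apply Subgroup.eq_of_le_of_card_ge hQ
  rw [Nat.card_zpowers, hx]
  exact hQc.le

/-- Every element of order `p` is self-centralising. -/
theorem mem_zpowers_of_commute (y : G) (hy : orderOf y = p) (z : G) (hz : Commute z y) :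
    z ∈ zpowers y := by
  have hp : p.Prime := Fact.out
  obtain ⟨P, hP, -⟩ := exists_sylow p x hx hp2
  obtain ⟨Q, hQ, -⟩ := exists_sylow p y hy hp2
  obtain ⟨g, hg⟩ := exists_smul_eq G P Q
  -- conjugate of x generates zpowers y
  have hmem : g * x * g⁻¹ ∈ zpowers y := by
    rw [← hQ, ← hg, Sylow.coe_subgroup_smul, Subgroup.mem_pointwise_smul_iff_inv_smul_mem, hP]
    simp [MulAut.smul_def, mul_assoc]
  have hcz : Commute z (g * x * g⁻¹) := by
    obtain ⟨k, hk⟩ := mem_zpowers_iff.1 hmem
    rw [← hk]
    exact hz.zpow_right k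
  have hcz' : Commute (g⁻¹ * z * g) x := by
    have h1 : z * (g * x * g⁻¹) = (g * x * g⁻¹) * z := hcz
    change g⁻¹ * z * g * x = x * (g⁻¹ * z * g)
    have h2 : g⁻¹ * (z * (g * x * g⁻¹)) * g = g⁻¹ * ((g * x * g⁻¹) * z) * g := by rw [h1]
    simpa [mul_assoc] using h2
  obtain ⟨k, hk⟩ := mem_zpowers_iff.1 (hc _ hcz')
  have h3 : z = (g * x * g⁻¹) ^ k := by
    rw [conj_zpow, hk]
    group
  rw [h3]
  exact zpow_mem hmem k

/-- Sylow subgroups of normal `p'`-subgroups have order `≡ 1 mod p`. -/
theorem card_sylow_modEq_one (K : Subgroup G) [K.Normal] (hpK : ¬ p ∣ Nat.card K)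
    (r : ℕ) [Fact r.Prime] (S : Sylow r K) : Nat.card S ≡ 1 [MOD p] := by
  have hp : p.Prime := Fact.out
  have hpG : p ∣ Nat.card G := by rw [← hx]; exact orderOf_dvd_natCard x
  refine card_sylow_modEq_one' p hpG K hpK (fun y hy z hzK hz => ?_) r S
  have h1 : z ∈ zpowers y := mem_zpowers_of_commute p x hx hc hp2 y hy z hz
  by_contra hne
  have h2 : orderOf z ∣ p := by
    rw [← hy, ← Nat.card_zpowers y]
    exact Subgroup.orderOf_dvd_natCard _ h1
  rcases (Nat.dvd_prime hp).1 h2 with h3 | h3
  · exact hne (orderOf_eq_one_iff.1 h3)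
  · apply hpK
    rw [← h3]
    exact Subgroup.orderOf_dvd_natCard _ hzK

/-- The order of the normaliser is determined by `|G|`. -/
theorem card_normalizer (P : Sylow p G) :
    Nat.card (normalizer (P : Set G)) = p * (Nat.card G / p % p) := by
  have hp : p.Prime := Fact.out
  obtain ⟨Q, hQ, hQc⟩ := exists_sylow p x hx hp2
  have hPc : Nat.card P = p := by
    rw [Nat.card_congr (Sylow.equiv P Q).toEquiv, hQc]
  -- a generator of `P`
  obtain ⟨y, hy⟩ := exists_prime_orderOf_dvd_card' (G := P) p (by rw [hPc])
  have hyo : orderOf (y : G) = p := by rw [orderOf_coe, hy]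
  have hPy : (P : Subgroup G) = zpowers (y : G) := by
    symm
    apply Subgroup.eq_of_le_of_card_ge (zpowers_le.2 y.2)
    rw [Nat.card_zpowers, hyo]
    exact hPc.le
  -- centraliser of P is P
  have hcent : centralizer ((P : Subgroup G) : Set G) = P := by
    apply le_antisymm
    · intro z hz
      rw [hPy]
      apply mem_zpowers_of_commute p x hx hc hp2 _ hyo
      exact (mem_centralizer_iff.1 hz (y : G) y.2).symm
    · intro z hz
      rw [mem_centralizer_iff]
      intro w hw
      have hz' : z ∈ (P : Subgroup G) := hz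
      have hw' : w ∈ (P : Subgroup G) := hw
      rw [hPy] at hz' hw'
      obtain ⟨a, rfl⟩ := mem_zpowers_iff.1 hz'
      obtain ⟨b, rfl⟩ := mem_zpowers_iff.1 hw'
      exact zpow_mul_comm _ _ _
  have : Fact p.Prime := ⟨hp⟩
  have hcyc : IsCyclic P := isCyclic_of_prime_card hPc
  have key : Nat.card (normalizer ((P : Subgroup G) : Set G) ⧸ (P : Subgroup G).normalizerMonoidHom.ker) ∣
      Nat.card (MulAut (P : Subgroup G)) :=
    card_dvd_of_injective _ (QuotientGroup.kerLift_injective (P : Subgroup G).normalizerMonoidHom)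
  rw [normalizerMonoidHom_ker, ← index, ← relIndex] at key
  rw [hcyc.card_mulAut] at key
  change (centralizer ((P : Subgroup G) : Set G)).relIndex (normalizer ((P : Subgroup G) : Set G)) ∣
    Nat.totient (Nat.card P) at key
  rw [hPc, Nat.totient_prime hp, hcent] at key
  have hNc : Nat.card (normalizer (P : Set G)) =
      p * (P : Subgroup G).relIndex (normalizer ((P : Subgroup G) : Set G)) := by
    have h5 := Subgroup.card_mul_index ((P : Subgroup G).subgroupOf (normalizer ((P : Subgroup G) : Set G)))
    rw [Nat.card_congr (subgroupOfEquivOfLe P.le_normalizer).toEquiv] at h5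
    change Nat.card (normalizer ((P : Subgroup G) : Set G)) = _
    rw [← h5]
    change _ = p * ((P : Subgroup G).subgroupOf (normalizer ((P : Subgroup G) : Set G))).index
    rw [show Nat.card ↥(P : Subgroup G) = p from hPc]
  set d := (P : Subgroup G).relIndex (normalizer ((P : Subgroup G) : Set G)) with hd
  have hdlt : d < p := by
    have h6 := Nat.le_of_dvd (Nat.sub_pos_of_lt hp.one_lt) key
    have := hp.pos
    omega
  have h7 : Nat.card (Sylow p G) = (normalizer (P : Set G)).index := P.card_eq_index_normalizer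
  have h8 : Nat.card (Sylow p G) ≡ 1 [MOD p] := _root_.card_sylow_modEq_one p G
  have h9 : Nat.card G = p * (d * Nat.card (Sylow p G)) := by
    rw [h7, ← Subgroup.card_mul_index (normalizer (P : Set G)), hNc, mul_assoc]
  have h10 : Nat.card G / p = d * Nat.card (Sylow p G) := by
    rw [h9, Nat.mul_div_cancel_left _ hp.pos]
  have h11 : Nat.card G / p % p = d := by
    rw [h10]
    have h12 : d * Nat.card (Sylow p G) ≡ d * 1 [MOD p] := Nat.ModEq.mul_left d h8
    rw [mul_one] at h12
    rw [h12, Nat.mod_eq_of_lt hdlt]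
  rw [h11, hNc]

/-- **Simplicity criterion.** A finite group with a self-centralising element `x` of order `p`,
in which no nontrivial normal subgroup has order prime to `p`. -/
theorem isSimpleGroup_of_selfCent' (q : ℕ) (hq : q.Prime)
    (hcard : Nat.card G / p % p = q) (hG : Nat.card G ≠ p * q)
    (hnum : ∀ K : Subgroup G, K.Normal → ¬ p ∣ Nat.card K → K = ⊥) : IsSimpleGroup G := by
  obtain ⟨P, -, hPc⟩ := exists_sylow p x hx hp2
  refine SimpleCrit.isSimpleGroup_of_sylow_prime p q hq P hPc ?_ hG ?_
  · rw [card_normalizer p x hx hc hp2 P, hcard]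
  · intro N hN hNb
    by_contra h
    exact hNb (hnum N hN h)

/-- A normal subgroup of order prime to `p` is trivial if no prime power `r ^ a > 1` dividing `|G|`
is `≡ 1 mod p`. -/
theorem eq_bot_of_normal (hnum : ∀ r a : ℕ, r.Prime → r ≠ p → r ^ a ∣ Nat.card G →
      r ^ a ≡ 1 [MOD p] → a = 0) (K : Subgroup G) (hK : K.Normal) (hpK : ¬ p ∣ Nat.card K) :
    K = ⊥ := by
  by_contra hne
  have hnt : Nontrivial K := (Subgroup.nontrivial_iff_ne_bot K).2 hne
  have hc1 : Nat.card K ≠ 1 := (Finite.one_lt_card (α := K)).ne'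
  obtain ⟨r, hr, hrd⟩ := Nat.exists_prime_and_dvd hc1
  have : Fact r.Prime := ⟨hr⟩
  let S : Sylow r K := default
  have h1 : Nat.card S ≡ 1 [MOD p] := card_sylow_modEq_one p x hx hc hp2 K hpK r S
  obtain ⟨a, ha⟩ := S.2.exists_card_eq
  change Nat.card S = r ^ a at ha
  have hrp : r ≠ p := fun h => hpK (h ▸ hrd)
  have hdvd : r ^ a ∣ Nat.card G := by
    rw [← ha]
    exact (card_subgroup_dvd_card (S : Subgroup K)).trans (card_subgroup_dvd_card K)
  have ha0 := hnum r a hr hrp hdvd (ha ▸ h1)
  rw [ha0, pow_zero] at ha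
  have h2 : r ∣ Nat.card S := S.dvd_card_of_dvd_card hrd
  rw [ha, Nat.dvd_one] at h2
  exact hr.one_lt.ne' h2

/-- **Simplicity criterion** by arithmetic of the group order only. -/
theorem isSimpleGroup_of_selfCent (q : ℕ) (hq : q.Prime)
    (hcard : Nat.card G / p % p = q) (hG : Nat.card G ≠ p * q)
    (hnum : ∀ r a : ℕ, r.Prime → r ≠ p → r ^ a ∣ Nat.card G → r ^ a ≡ 1 [MOD p] → a = 0) :
    IsSimpleGroup G :=
  isSimpleGroup_of_selfCent' p x hx hc hp2 q hq hcard hG
    (eq_bot_of_normal p x hx hc hp2 hnum)

end self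

end Cfsg.Agent.SporadicA.SelfCent
end

-- part: SporadicA/SelfCentTwo
section
/-!
Normal `p'`-subgroups of a group with a self-centralising element of order `p`: if the arithmetic of
`|G|` leaves one prime power `r ^ a` only, such a normal subgroup is elementary abelian of order
`r ^ a`, its centraliser has order `r ^ a`, and `|G| / r ^ a` divides `|GL_a(r)|`.
-/

set_option autoImplicit false

namespace Cfsg.Agent.SporadicA.SelfCentTwo

open Subgroup MulAction

/-- A group acting faithfully by additive automorphisms on an `F_r`-space of order `r ^ a`. -/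
theorem card_dvd_card_GL {M H : Type*} [AddCommGroup M] [Finite M] [Group H] (r a : ℕ)
    [Fact r.Prime] [Module (ZMod r) M] (hcard : Nat.card M = r ^ a) (φ : H →* AddMonoid.End M)
    (hφ : Function.Injective φ) :
    Nat.card H ∣ Nat.card (GL (Fin a) (ZMod r)) := by
  classical
  have : Fintype M := Fintype.ofFinite M
  have hfin : Module.Finite (ZMod r) M := Module.Finite.of_finite
  have hrank : Module.finrank (ZMod r) M = a := by
    have h1 : Fintype.card M = Fintype.card (ZMod r) ^ Module.finrank (ZMod r) M :=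
      Module.card_eq_pow_finrank
    rw [ZMod.card, ← Nat.card_eq_fintype_card, hcard] at h1
    exact (Nat.pow_right_injective (Fact.out : r.Prime).two_le h1).symm
  let b : Module.Basis (Fin a) (ZMod r) M := Module.finBasisOfFinrankEq (ZMod r) M hrank
  let φ' : H →* Module.End (ZMod r) M :=
    { toFun := fun f => AddMonoidHom.toZModLinearMap r (φ f)
      map_one' := by
        apply LinearMap.ext
        intro x
        change φ 1 x = x
        rw [map_one]
        rfl
      map_mul' := by
        intro f g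
        apply LinearMap.ext
        intro x
        change φ (f * g) x = φ f (φ g x)
        rw [map_mul]
        rfl }
  have hφ' : Function.Injective φ' := by
    intro f g h
    apply hφ
    ext x
    exact congrArg (fun l : Module.End (ZMod r) M => l x) h
  let ψ : H →* GL (Fin a) (ZMod r) :=
    (Matrix.GeneralLinearGroup.toLin' b).symm.toMonoidHom.comp φ'.toHomUnits
  have hψ : Function.Injective ψ := by
    intro f g h
    have h1 : φ'.toHomUnits f = φ'.toHomUnits g :=
      (Matrix.GeneralLinearGroup.toLin' b).symm.injective h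
    apply hφ'
    exact congrArg Units.val h1
  exact card_dvd_of_injective ψ hψ

/-- The automorphism group of an elementary abelian group of order `r ^ a` has order dividing that of
`GL_a(r)`. -/
theorem card_mulAut_dvd {K : Type*} [CommGroup K] [Finite K] (r a : ℕ) [Fact r.Prime]
    (hexp : ∀ k : K, k ^ r = 1) (hcard : Nat.card K = r ^ a) :
    Nat.card (MulAut K) ∣ Nat.card (GL (Fin a) (ZMod r)) := by
  let mod : Module (ZMod r) (Additive K) := AddCommGroup.zmodModule (fun x => by
    change Additive.ofMul ((Additive.toMul x) ^ r) = 0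
    rw [hexp]
    rfl)
  let φ : MulAut K →* AddMonoid.End (Additive K) :=
    { toFun := fun f => MonoidHom.toAdditive f.toMonoidHom
      map_one' := rfl
      map_mul' := fun f g => rfl }
  have hcard' : Nat.card (Additive K) = r ^ a := by
    rw [← hcard]
    exact Nat.card_congr Additive.toMul
  refine card_dvd_card_GL r a hcard' φ ?_
  intro f g h
  ext x
  have := congrArg (fun l : AddMonoid.End (Additive K) => Additive.toMul (l (Additive.ofMul x))) h
  exact this

section

variable {G : Type*} [Group G] [Finite G] (p : ℕ) [Fact p.Prime] (x : G) (hx : orderOf x = p)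
  (hc : ∀ z : G, Commute z x → z ∈ zpowers x) (hp2 : ¬ p ^ 2 ∣ Nat.card G) (r a : ℕ)
  [Fact r.Prime]
  (hnum : ∀ s b : ℕ, s.Prime → s ≠ p → s ^ b ∣ Nat.card G → s ^ b ≡ 1 [MOD p] →
    b = 0 ∨ (s = r ∧ b = a))

include hx hc hp2 hnum

/-- A nontrivial normal `p'`-subgroup has order `r ^ a`. -/
theorem card_eq_of_normal (K : Subgroup G) (hK : K.Normal) (hpK : ¬ p ∣ Nat.card K)
    (hne : K ≠ ⊥) : Nat.card K = r ^ a := by
  have hnt : Nontrivial K := (Subgroup.nontrivial_iff_ne_bot K).2 hne
  have hc1 : Nat.card K ≠ 1 := (Finite.one_lt_card (α := K)).ne'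
  have key : ∀ s : ℕ, s.Prime → s ∣ Nat.card K → s = r ∧ ∀ S : Sylow s K, Nat.card S = r ^ a := by
    intro s hs hsd
    have : Fact s.Prime := ⟨hs⟩
    have main : ∀ S : Sylow s K, s = r ∧ Nat.card S = r ^ a := by
      intro S
      have h1 : Nat.card S ≡ 1 [MOD p] := SelfCent.card_sylow_modEq_one p x hx hc hp2 K hpK s S
      obtain ⟨b, hb⟩ := S.2.exists_card_eq
      change Nat.card S = s ^ b at hb
      have hsp : s ≠ p := fun h => hpK (h ▸ hsd)
      have hdvd : s ^ b ∣ Nat.card G := by
        rw [← hb]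
        exact (card_subgroup_dvd_card (S : Subgroup K)).trans (card_subgroup_dvd_card K)
      rcases hnum s b hs hsp hdvd (hb ▸ h1) with hb0 | ⟨h2, h3⟩
      · exfalso
        rw [hb0, pow_zero] at hb
        have h2 : s ∣ Nat.card S := S.dvd_card_of_dvd_card hsd
        rw [hb, Nat.dvd_one] at h2
        exact hs.one_lt.ne' h2
      · exact ⟨h2, by rw [hb, h2, h3]⟩
    exact ⟨(main default).1, fun S => (main S).2⟩
  obtain ⟨s, hs, hsd⟩ := Nat.exists_prime_and_dvd hc1
  obtain ⟨rfl, hS⟩ := key s hs hsd
  let S : Sylow s K := default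
  have hidx : (S : Subgroup K).index = 1 := by
    by_contra h
    obtain ⟨t, ht, htd⟩ := Nat.exists_prime_and_dvd h
    have h1 : t ∣ Nat.card K := htd.trans (Subgroup.index_dvd_card _)
    obtain ⟨h2, -⟩ := key t ht h1
    rw [h2] at htd
    exact S.not_dvd_index htd
  have h4 := (S : Subgroup K).card_mul_index
  rw [hidx, mul_one] at h4
  rw [← h4]
  exact hS S

/-- A nontrivial normal `p'`-subgroup is elementary abelian. -/
theorem elementary_of_normal (K : Subgroup G) (hK : K.Normal) (hpK : ¬ p ∣ Nat.card K)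
    (hne : K ≠ ⊥) : (∀ k ∈ K, ∀ l ∈ K, k * l = l * k) ∧ ∀ k ∈ K, k ^ r = 1 := by
  have hnt : Nontrivial K := (Subgroup.nontrivial_iff_ne_bot K).2 hne
  have hcard := card_eq_of_normal p x hx hc hp2 r a hnum K hK hpK hne
  have hpg : IsPGroup r K := IsPGroup.of_card hcard
  have heq : ∀ L : Subgroup G, L.Normal → L ≤ K → L ≠ ⊥ → L = K := by
    intro L hL hLK hLne
    apply Subgroup.eq_of_le_of_card_ge hLK
    have hpL : ¬ p ∣ Nat.card L := fun h => hpK (h.trans (card_dvd_of_le hLK))
    rw [hcard, card_eq_of_normal p x hx hc hp2 r a hnum L hL hpL hLne]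
  have hcomm : ∀ k ∈ K, ∀ l ∈ K, k * l = l * k := by
    have hZ : ((center K).map K.subtype) = K := by
      apply heq
      · exact ConjAct.normal_of_characteristic_of_normal
      · exact map_subtype_le _
      · intro h
        rw [Subgroup.map_eq_bot_iff_of_injective _ (Subgroup.subtype_injective K)] at h
        have := hpg.center_nontrivial
        rw [Subgroup.nontrivial_iff_ne_bot] at this
        exact this h
    intro k hk l hl
    have hk' : k ∈ (center K).map K.subtype := by rw [hZ]; exact hk
    obtain ⟨k', hk1, rfl⟩ := hk'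
    have := (mem_center_iff.1 hk1) ⟨l, hl⟩
    exact (congrArg Subtype.val this).symm
  refine ⟨hcomm, ?_⟩
  let T : Subgroup G :=
    { carrier := {k | k ∈ K ∧ k ^ r = 1}
      one_mem' := ⟨K.one_mem, one_pow _⟩
      mul_mem' := by
        rintro k l ⟨hk, hk'⟩ ⟨hl, hl'⟩
        refine ⟨K.mul_mem hk hl, ?_⟩
        have : Commute k l := hcomm k hk l hl
        rw [this.mul_pow, hk', hl', one_mul]
      inv_mem' := by
        rintro k ⟨hk, hk'⟩
        exact ⟨K.inv_mem hk, by rw [inv_pow, hk', inv_one]⟩ }
  have hT : T = K := by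
    apply heq
    · constructor
      rintro k ⟨hk, hk'⟩ g
      refine ⟨hK.conj_mem k hk g, ?_⟩
      rw [conj_pow, hk', mul_one, mul_inv_cancel]
    · rintro k ⟨hk, -⟩
      exact hk
    · intro h
      have hr : r ∣ Nat.card K := by
        have h1 : Nat.card K ≠ 1 := (Finite.one_lt_card (α := K)).ne'
        rw [hcard] at h1 ⊢
        rcases Nat.eq_zero_or_pos a with ha | ha
        · rw [ha, pow_zero] at h1
          exact absurd rfl h1
        · exact dvd_pow_self r ha.ne'
      obtain ⟨k, hk⟩ := exists_prime_orderOf_dvd_card' (G := K) r hr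
      have hkT : (k : G) ∈ T := by
        refine ⟨k.2, ?_⟩
        have : k ^ r = 1 := by rw [← hk, pow_orderOf_eq_one]
        have := congrArg Subtype.val this
        simpa using this
      rw [h, mem_bot] at hkT
      have : k = 1 := Subtype.ext hkT
      rw [this, orderOf_one] at hk
      exact (Fact.out : r.Prime).one_lt.ne hk
  intro k hk
  have hk' : k ∈ T := by rw [hT]; exact hk
  exact hk'.2

/-- The centraliser of a nontrivial normal `p'`-subgroup has order `r ^ a`. -/
theorem card_centralizer (K : Subgroup G) (hK : K.Normal) (hpK : ¬ p ∣ Nat.card K)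
    (hne : K ≠ ⊥) : Nat.card (centralizer (K : Set G)) = r ^ a := by
  have hcomm := (elementary_of_normal p x hx hc hp2 r a hnum K hK hpK hne).1
  have hp : p.Prime := Fact.out
  apply card_eq_of_normal p x hx hc hp2 r a hnum _ inferInstance
  · intro h
    obtain ⟨y, hy⟩ := exists_prime_orderOf_dvd_card' (G := centralizer (K : Set G)) p h
    have hyo : orderOf (y : G) = p := by rw [orderOf_coe, hy]
    apply hne
    rw [eq_bot_iff]
    intro k hk
    rw [mem_bot]
    have h1 : Commute k (y : G) := (mem_centralizer_iff.1 y.2) k hk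
    have h2 := SelfCent.mem_zpowers_of_commute p x hx hc hp2 (y : G) hyo k h1
    have h3 : orderOf k ∣ p := by
      rw [← hyo, ← Nat.card_zpowers (y : G)]
      exact Subgroup.orderOf_dvd_natCard _ h2
    rcases (Nat.dvd_prime hp).1 h3 with h4 | h4
    · exact orderOf_eq_one_iff.1 h4
    · exfalso
      apply hpK
      rw [← h4]
      exact Subgroup.orderOf_dvd_natCard _ hk
  · intro h
    apply hne
    rw [eq_bot_iff, ← h]
    intro k hk
    rw [mem_centralizer_iff]
    intro l hl
    exact (hcomm k hk l hl).symm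

/-- `|G|` divides `r ^ a * |GL_a(r)|`. -/
theorem card_dvd (K : Subgroup G) (hK : K.Normal) (hpK : ¬ p ∣ Nat.card K)
    (hne : K ≠ ⊥) : Nat.card G ∣ r ^ a * Nat.card (GL (Fin a) (ZMod r)) := by
  have hcard := card_eq_of_normal p x hx hc hp2 r a hnum K hK hpK hne
  obtain ⟨hcomm, hexp⟩ := elementary_of_normal p x hx hc hp2 r a hnum K hK hpK hne
  have hcent := card_centralizer p x hx hc hp2 r a hnum K hK hpK hne
  have hker : (MulAut.conjNormal : G →* MulAut K).ker = centralizer (K : Set G) := by
    ext g
    rw [MonoidHom.mem_ker, mem_centralizer_iff]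
    constructor
    · intro h k hk
      have h1 := congrArg (fun f : MulAut K => ((f ⟨k, hk⟩ : K) : G)) h
      simp only [MulAut.conjNormal_apply, MulAut.one_apply] at h1
      rw [mul_inv_eq_iff_eq_mul] at h1
      exact h1.symm
    · intro h
      ext k
      simp only [MulAut.conjNormal_apply, MulAut.one_apply]
      rw [mul_inv_eq_iff_eq_mul]
      exact (h k k.2).symm
  have h1 : Nat.card (G ⧸ (MulAut.conjNormal : G →* MulAut K).ker) ∣ Nat.card (MulAut K) :=
    card_dvd_of_injective _ (QuotientGroup.kerLift_injective (MulAut.conjNormal : G →* MulAut K))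
  rw [hker] at h1
  let _ : CommGroup K := { (inferInstance : Group K) with
    mul_comm := fun k l => Subtype.ext (hcomm k k.2 l l.2) }
  have h2 : Nat.card (MulAut K) ∣ Nat.card (GL (Fin a) (ZMod r)) :=
    card_mulAut_dvd r a (fun k => Subtype.ext (hexp k k.2)) hcard
  have h3 := (centralizer (K : Set G)).card_mul_index
  rw [hcent] at h3
  rw [← h3]
  exact mul_dvd_mul_left _ (h1.trans h2)

/-- No nontrivial normal `p'`-subgroup if `|G| ∤ r ^ a * |GL_a(r)|`. -/
theorem eq_bot_of_normal (hGL : ¬ Nat.card G ∣ r ^ a * Nat.card (GL (Fin a) (ZMod r)))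
    (K : Subgroup G) (hK : K.Normal) (hpK : ¬ p ∣ Nat.card K) : K = ⊥ := by
  by_contra hne
  exact hGL (card_dvd p x hx hc hp2 r a hnum K hK hpK hne)

end

end Cfsg.Agent.SporadicA.SelfCentTwo
end
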