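import Cfsg.Prelude.Def_Sporadic_a
import Cfsg.Agent.S0355
set_option linter.all false

/-!
# Extending a Steiner system S(4, 7, 23) to a Steiner system S(5, 8, 24)

Every Steiner system `B` with parameters `(4, 7)` on 23 points is the derived system of a Steiner
system with parameters `(5, 8)` on the 24 points `Option α`: the blocks through `none` are exactly
the sets `insertNone b`, `b ∈ B`.
-/

set_option autoImplicit false

namespace Cfsg.Agent.SporadicA.Extend23

open Finset Cfsg

/-- Cardinality of a symmetric difference. -/
theorem card_symmDiff_add {γ : Type*} [DecidableEq γ] (s t : Finset γ) :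
    (symmDiff s t).card + 2 * (s ∩ t).card = s.card + t.card := by
  have h1 : (symmDiff s t).card = (s \ t).card + (t \ s).card := by
    rw [symmDiff_def, sup_eq_union, card_union_of_disjoint]
    exact disjoint_sdiff_sdiff
  have h2 := card_sdiff_add_card_inter s t
  have h3 := card_sdiff_add_card_inter t s
  rw [inter_comm t s] at h3
  omega

/-- Parity of the intersection with a symmetric difference. -/
theorem even_symmDiff_inter {γ : Type*} [DecidableEq γ] (s t u : Finset γ)
    (hs : Even (s ∩ u).card) (ht : Even (t ∩ u).card) : Even (symmDiff s t ∩ u).card := by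
  have h : symmDiff s t ∩ u = symmDiff (s ∩ u) (t ∩ u) := by
    ext x
    simp only [mem_inter, mem_symmDiff]
    tauto
  have h1 := card_symmDiff_add (s ∩ u) (t ∩ u)
  rw [h]
  obtain ⟨a, ha⟩ := hs
  obtain ⟨b, hb⟩ := ht
  rw [Nat.even_iff]
  omega

variable {α : Type*} [Fintype α] [DecidableEq α]

/-- The sets which are sums (symmetric differences) of extended blocks `insertNone b`, `b ∈ B`, and
of the whole set. -/
inductive InCode (B : Set (Finset α)) : Finset (Option α) → Prop
  | empty : InCode B ∅
  | univ : InCode B Finset.univ
  | add (b : Finset α) (hb : b ∈ B) (s : Finset (Option α)) (hs : InCode B s) :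
      InCode B (symmDiff (insertNone b) s)

theorem InCode.compl {B : Set (Finset α)} {s : Finset (Option α)} (hs : InCode B s) :
    InCode B sᶜ := by
  induction hs with
  | empty => simpa using InCode.univ
  | univ => simpa using InCode.empty
  | add b hb s _ ih =>
    have h : (symmDiff (insertNone b) s)ᶜ = symmDiff (insertNone b) sᶜ := by
      ext x
      simp only [mem_compl, mem_symmDiff]
      tauto
    rw [h]
    exact InCode.add b hb _ ih

theorem InCode.symmDiff' {B : Set (Finset α)} {s t : Finset (Option α)} (hs : InCode B s)
    (ht : InCode B t) : InCode B (symmDiff s t) := by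
  induction hs with
  | empty =>
    have h : symmDiff (∅ : Finset (Option α)) t = t := by
      ext x
      simp [mem_symmDiff]
    rw [h]
    exact ht
  | univ =>
    have h : symmDiff (Finset.univ : Finset (Option α)) t = tᶜ := by
      ext x
      simp [mem_symmDiff]
    rw [h]
    exact ht.compl
  | add b hb s _ ih =>
    rw [symmDiff_assoc]
    exact InCode.add b hb _ ih

theorem InCode.block {B : Set (Finset α)} {b : Finset α} (hb : b ∈ B) :
    InCode B (insertNone b) := by
  have h := InCode.add b hb ∅ InCode.empty
  have h' : symmDiff (insertNone b) (∅ : Finset (Option α)) = insertNone b := by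
    ext x
    simp [mem_symmDiff]
  rwa [h'] at h

/-- The set of points lying in an odd number of members of a family of code words is a code
word. -/
theorem InCode.oddSum {B : Set (Finset α)} {ι : Type*} [DecidableEq ι] (S : Finset ι)
    (f : ι → Finset (Option α)) (hf : ∀ i ∈ S, InCode B (f i)) :
    InCode B (Finset.univ.filter fun x => Odd (S.filter fun i => x ∈ f i).card) := by
  induction S using Finset.induction_on with
  | empty =>
    have h : (Finset.univ.filter fun x : Option α =>
        Odd ((∅ : Finset ι).filter fun i => x ∈ f i).card) = ∅ := by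
      ext x
      simp
    rw [h]
    exact InCode.empty
  | insert a S ha ih =>
    have h : (Finset.univ.filter fun x : Option α =>
        Odd ((insert a S : Finset ι).filter fun i => x ∈ f i).card) =
        symmDiff (f a) (Finset.univ.filter fun x => Odd (S.filter fun i => x ∈ f i).card) := by
      ext x
      rw [mem_symmDiff]
      simp only [mem_filter, mem_univ, true_and]
      rw [filter_insert]
      by_cases hx : x ∈ f a
      · rw [if_pos hx, card_insert_of_notMem (by simp [ha])]
        simp only [hx, true_and, not_true_eq_false, and_false, or_false]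
        rw [Nat.odd_add_one]
      · rw [if_neg hx]
        simp [hx]
    rw [h]
    exact (hf a (mem_insert_self a S)).symmDiff' (ih fun i hi => hf i (mem_insert_of_mem hi))

omit [Fintype α] in
/-- Intersection of extended sets. -/
theorem insertNone_inter (b c : Finset α) :
    insertNone b ∩ insertNone c = insertNone (b ∩ c) := by
  ext x
  cases x <;> simp

section Steiner

variable (hα : Fintype.card α = 23) {B : Set (Finset α)} (hB : IsSteinerSystem 4 7 B)
  (hI : ∀ b ∈ B, ∀ c ∈ B, b ≠ c → (b ∩ c).card = 1 ∨ (b ∩ c).card = 3)

omit [Fintype α] in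
include hB hI in
/-- Extended blocks meet in an even number of points. -/
theorem even_inter_blocks {b c : Finset α} (hb : b ∈ B) (hc : c ∈ B) :
    Even (insertNone b ∩ insertNone c).card := by
  rw [insertNone_inter, card_insertNone]
  by_cases h : b = c
  · subst h
    rw [inter_self, hB.1 b hb]
    decide
  · rcases hI b hb c hc h with h | h <;> rw [h] <;> decide

include hα hB hI in
/-- The code is doubly even and orthogonal to the extended blocks. -/
theorem InCode.four_dvd {s : Finset (Option α)} (hs : InCode B s) :
    4 ∣ s.card ∧ ∀ b ∈ B, Even (s ∩ insertNone b).card := by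
  induction hs with
  | empty => simp
  | univ =>
    refine ⟨?_, fun b hb => ?_⟩
    · rw [card_univ, Fintype.card_option, hα]
      decide
    · rw [univ_inter, card_insertNone, hB.1 b hb]
      decide
  | add b hb s _ ih =>
    refine ⟨?_, fun c hc => even_symmDiff_inter _ _ _ (even_inter_blocks hB hI hb hc) (ih.2 c hc)⟩
    have h1 := card_symmDiff_add (insertNone b) s
    rw [card_insertNone, hB.1 b hb] at h1
    have h2 := ih.2 b hb
    rw [inter_comm, Nat.even_iff] at h2
    have h3 := ih.1
    omega

include hα hB in
/-- A set of at most three points and a further point are separated by a block. -/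
theorem exists_block_separating {T : Finset α} (hT : T.card ≤ 3) {t : α} (ht : t ∉ T) :
    ∃ b ∈ B, T ⊆ b ∧ t ∉ b := by
  -- enlarge `T` to exactly three points, avoiding `t`
  obtain ⟨T', hTT', hT', hT'card⟩ : ∃ T', T ⊆ T' ∧ T' ⊆ (Finset.univ.erase t) ∧ T'.card = 3 := by
    refine exists_subsuperset_card_eq (s := T) (t := Finset.univ.erase t) ?_ hT ?_
    · intro x hx
      rw [mem_erase]
      exact ⟨fun h => ht (h ▸ hx), mem_univ x⟩
    · rw [card_erase_of_mem (mem_univ t), card_univ, hα]
      decide
  have htT' : t ∉ T' := fun h => (mem_erase.1 (hT' h)).1 rfl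
  obtain ⟨c, ⟨hcB, hc⟩, hcu⟩ := hB.2 (insert t T') (by rw [card_insert_of_notMem htT', hT'card])
  -- a point outside `c`
  obtain ⟨x, hx⟩ : ∃ x, x ∉ c := by
    by_contra hcon
    push Not at hcon
    have : c = Finset.univ := by
      ext y
      simp [hcon y]
    have h7 := hB.1 c hcB
    rw [this, card_univ, hα] at h7
    omega
  have hxT' : x ∉ T' := fun h => hx (hc (mem_insert_of_mem h))
  obtain ⟨b, ⟨hbB, hb⟩, _⟩ := hB.2 (insert x T') (by rw [card_insert_of_notMem hxT', hT'card])
  refine ⟨b, hbB, hTT'.trans ((subset_insert x T').trans hb), fun htb => ?_⟩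
  have hbc : b = c := by
    refine hcu b ⟨hbB, ?_⟩
    intro y hy
    rcases mem_insert.1 hy with h | h
    · rw [h]; exact htb
    · exact hb (mem_insert_of_mem h)
  exact hx (hbc ▸ hb (mem_insert_self x T'))

include hα hB hI in
/-- The code has no words of weight four. -/
theorem InCode.card_ne_four {s : Finset (Option α)} (hs : InCode B s) : s.card ≠ 4 := by
  intro h4
  have horth := (hs.four_dvd hα hB hI).2
  -- a point `some t` of `s`
  obtain ⟨t, ht⟩ : ∃ t, some t ∈ s := by
    by_contra hcon
    push Not at hcon
    have : s ⊆ {none} := by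
      intro x hx
      cases x with
      | none => simp
      | some x => exact absurd hx (hcon x)
    have := card_le_card this
    rw [card_singleton] at this
    omega
  set T := (eraseNone s).erase t with hT
  have htT : t ∉ T := by simp [hT]
  by_cases hn : none ∈ s
  · have hc : (eraseNone s).card = 3 := by rw [card_eraseNone_of_mem hn, h4]
    have hTc : T.card = 2 := by
      rw [hT, card_erase_of_mem (mem_eraseNone.2 ht), hc]
    obtain ⟨b, hbB, hTb, htb⟩ := exists_block_separating hα hB (by omega : T.card ≤ 3) htT
    have h := horth b hbB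
    have hs' : s ∩ insertNone b = insertNone T := by
      ext x
      cases x with
      | none => simp [hn]
      | some x =>
        simp only [mem_inter, some_mem_insertNone, hT, mem_erase, mem_eraseNone]
        constructor
        · rintro ⟨h1, h2⟩
          exact ⟨fun hxt => htb (hxt ▸ h2), h1⟩
        · rintro ⟨h1, h2⟩
          exact ⟨h2, hTb (by simp [hT, h1, h2])⟩
    rw [hs', card_insertNone, hTc] at h
    revert h
    decide
  · have hc : (eraseNone s).card = 4 := by rw [card_eraseNone_of_not_mem hn, h4]
    have hTc : T.card = 3 := by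
      rw [hT, card_erase_of_mem (mem_eraseNone.2 ht), hc]
    obtain ⟨b, hbB, hTb, htb⟩ := exists_block_separating hα hB (by omega : T.card ≤ 3) htT
    have h := horth b hbB
    have hs' : s ∩ insertNone b = T.map Function.Embedding.some := by
      ext x
      cases x with
      | none => simp [hn]
      | some x =>
        simp only [mem_inter, some_mem_insertNone, hT, mem_map, Function.Embedding.some_apply,
          mem_erase, mem_eraseNone, Option.some.injEq, exists_eq_right]
        constructor
        · rintro ⟨h1, h2⟩
          exact ⟨fun hxt => htb (hxt ▸ h2), h1⟩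
        · rintro ⟨h1, h2⟩
          exact ⟨h2, hTb (by simp [hT, h1, h2])⟩
    rw [hs', card_map, hTc] at h
    revert h
    decide

include hα hB hI in
/-- Two code words of weight eight with five common points are equal. -/
theorem InCode.eq_of_inter {u v : Finset (Option α)} (hu : InCode B u) (hv : InCode B v)
    (hu8 : u.card = 8) (hv8 : v.card = 8) (huv : 5 ≤ (u ∩ v).card) : u = v := by
  have h := hu.symmDiff' hv
  have h1 := (h.four_dvd hα hB hI).1
  have h2 := h.card_ne_four hα hB hI
  have h3 := card_symmDiff_add u v
  rw [hu8, hv8] at h3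
  have h0 : (symmDiff u v).card = 0 := by omega
  rw [card_eq_zero] at h0
  exact symmDiff_eq_bot.1 h0

include hα hB hI in
/-- Five points not contained in a block lie in a code word of weight eight avoiding `none`. -/
theorem exists_octad {S : Finset α} (hS : S.card = 5) (hSB : ∀ b ∈ B, ¬ S ⊆ b) :
    ∃ u : Finset (Option α), InCode B u ∧ u.card = 8 ∧ S.map Function.Embedding.some ⊆ u := by
  -- the block through the four points different from `a`
  have hex : ∀ a : α, ∃ b : Finset α, a ∈ S → b ∈ B ∧ S.erase a ⊆ b := by
    intro a
    by_cases ha : a ∈ S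
    · obtain ⟨b, hb, _⟩ := hB.2 (S.erase a) (by rw [card_erase_of_mem ha, hS])
      exact ⟨b, fun _ => hb⟩
    · exact ⟨∅, fun h => absurd h ha⟩
  choose β hβ using hex
  have hβB : ∀ a ∈ S, β a ∈ B := fun a ha => (hβ a ha).1
  have hβS : ∀ a ∈ S, ∀ x ∈ S, x ≠ a → x ∈ β a :=
    fun a ha x hx hxa => (hβ a ha).2 (mem_erase.2 ⟨hxa, hx⟩)
  have hβa : ∀ a ∈ S, a ∉ β a := by
    intro a ha hmem
    refine hSB (β a) (hβB a ha) fun x hx => ?_
    by_cases hxa : x = a
    · rw [hxa]; exact hmem
    · exact hβS a ha x hx hxa
  -- distinct blocks `β a`, `β c` meet in `S` only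
  have hβdisj : ∀ a ∈ S, ∀ c ∈ S, a ≠ c → ∀ x, x ∉ S → x ∈ β a → x ∉ β c := by
    intro a ha c hc hac x hxS hxa hxc
    have hne : β a ≠ β c := fun h => hβa a ha (h ▸ hβS c hc a ha hac)
    have hsub : insert x ((S.erase a).erase c) ⊆ β a ∩ β c := by
      intro y hy
      rcases mem_insert.1 hy with h | h
      · rw [h]; exact mem_inter.2 ⟨hxa, hxc⟩
      · rw [mem_erase, mem_erase] at h
        exact mem_inter.2 ⟨hβS a ha y h.2.2 h.2.1, hβS c hc y h.2.2 h.1⟩
    have hcard : (insert x ((S.erase a).erase c)).card = 4 := by
      rw [card_insert_of_notMem, card_erase_of_mem (mem_erase.2 ⟨hac.symm, hc⟩),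
        card_erase_of_mem ha, hS]
      intro h
      exact hxS (mem_of_mem_erase (mem_of_mem_erase h))
    have := card_le_card hsub
    rcases hI _ (hβB a ha) _ (hβB c hc) hne with h | h <;> omega
  -- the sum of the five extended blocks
  set W := Finset.univ.filter fun x : Option α =>
    Odd (S.filter fun i => x ∈ insertNone (β i)).card with hW
  have hWcode : InCode B W := InCode.oddSum S (fun i => insertNone (β i))
    fun i hi => InCode.block (hβB i hi)
  have hWeq : W = insertNone (S.biUnion fun a => β a \ S) := by
    ext x
    cases x with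
    | none =>
      simp only [hW, mem_filter, mem_univ, true_and, none_mem_insertNone, filter_true, hS,
        iff_true]
      decide
    | some x =>
      simp only [hW, mem_filter, mem_univ, true_and, some_mem_insertNone, mem_biUnion, mem_sdiff]
      by_cases hxS : x ∈ S
      · have h4 : (S.filter fun i => x ∈ β i) = S.erase x := by
          ext i
          rw [mem_filter, mem_erase]
          constructor
          · rintro ⟨hi, hxi⟩
            exact ⟨fun h => hβa i hi (h ▸ hxi), hi⟩
          · rintro ⟨hix, hi⟩
            exact ⟨hi, hβS i hi x hxS (Ne.symm hix)⟩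
        rw [h4, card_erase_of_mem hxS, hS]
        constructor
        · intro h
          exact absurd h (by decide)
        · rintro ⟨a, _, _, h⟩
          exact absurd hxS h
      · constructor
        · intro h
          have hpos : 0 < (S.filter fun i => x ∈ β i).card := h.pos
          obtain ⟨a, ha⟩ := card_pos.1 hpos
          rw [mem_filter] at ha
          exact ⟨a, ha.1, ha.2, hxS⟩
        · rintro ⟨a, ha, hxa, _⟩
          have h1 : (S.filter fun i => x ∈ β i) = {a} := by
            ext i
            rw [mem_filter, mem_singleton]
            constructor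
            · rintro ⟨hi, hxi⟩
              by_contra hne
              exact hβdisj i hi a ha hne x hxS hxi hxa
            · rintro rfl
              exact ⟨ha, hxa⟩
          rw [h1, card_singleton]
          decide
  have hWcard : W.card = 16 := by
    rw [hWeq, card_insertNone, card_biUnion]
    · have h3 : ∀ a ∈ S, (β a \ S).card = 3 := by
        intro a ha
        have h1 := card_sdiff_add_card_inter (β a) S
        have h2 : β a ∩ S = S.erase a := by
          ext x
          rw [mem_inter, mem_erase]
          constructor
          · rintro ⟨hx, hxS⟩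
            exact ⟨fun h => hβa a ha (h ▸ hx), hxS⟩
          · rintro ⟨hxa, hxS⟩
            exact ⟨hβS a ha x hxS hxa, hxS⟩
        rw [h2, card_erase_of_mem ha, hS, hB.1 _ (hβB a ha)] at h1
        omega
      rw [sum_congr rfl h3, sum_const, hS]
      rfl
    · intro a ha c hc hac
      rw [Function.onFun, disjoint_left]
      intro x hx hx'
      rw [mem_sdiff] at hx hx'
      exact hβdisj a ha c hc hac x hx.2 hx.1 hx'.1
  refine ⟨Wᶜ, hWcode.compl, ?_, ?_⟩
  · rw [card_compl, hWcard, Fintype.card_option, hα]
  · intro x hx
    rw [mem_map] at hx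
    obtain ⟨y, hy, rfl⟩ := hx
    rw [mem_compl, hWeq]
    simp only [Function.Embedding.some_apply, some_mem_insertNone, mem_biUnion, mem_sdiff,
      not_exists, not_and, not_not]
    intro a _ _
    exact hy

include hα hB hI in
/-- The extended system. -/
theorem isSteinerSystem_octads :
    IsSteinerSystem 5 8 {u : Finset (Option α) | u.card = 8 ∧ InCode B u} := by
  refine ⟨fun u hu => hu.1, fun s hs => ?_⟩
  have hex : ∃ u : Finset (Option α), (u.card = 8 ∧ InCode B u) ∧ s ⊆ u := by
    by_cases hn : none ∈ s
    · obtain ⟨b, ⟨hbB, hb⟩, _⟩ := hB.2 (eraseNone s) (by rw [card_eraseNone_of_mem hn, hs])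
      refine ⟨insertNone b, ⟨by rw [card_insertNone, hB.1 b hbB], InCode.block hbB⟩, ?_⟩
      intro x hx
      cases x with
      | none => simp
      | some x => exact some_mem_insertNone.2 (hb (mem_eraseNone.2 hx))
    · have hs' : (eraseNone s).map Function.Embedding.some = s := by
        rw [map_some_eraseNone, erase_eq_of_notMem hn]
      by_cases h : ∃ b ∈ B, eraseNone s ⊆ b
      · obtain ⟨b, hbB, hb⟩ := h
        refine ⟨insertNone b, ⟨by rw [card_insertNone, hB.1 b hbB], InCode.block hbB⟩, ?_⟩
        intro x hx
        cases x with
        | none => simp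
        | some x => exact some_mem_insertNone.2 (hb (mem_eraseNone.2 hx))
      · push Not at h
        obtain ⟨u, hu, hu8, hsu⟩ := exists_octad hα hB hI
          (by rw [card_eraseNone_of_not_mem hn, hs]) h
        rw [hs'] at hsu
        exact ⟨u, ⟨hu8, hu⟩, hsu⟩
  obtain ⟨u, hu, hsu⟩ := hex
  refine ⟨u, ⟨hu, hsu⟩, ?_⟩
  rintro v ⟨hv, hsv⟩
  refine InCode.eq_of_inter hα hB hI hv.2 hu.2 hv.1 hu.1 ?_
  have := card_le_card (subset_inter hsv hsu)
  omega

include hα hB hI in
/-- The blocks of the extended system through `none` are the extended blocks. -/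
theorem mem_iff_insertNone_mem (b : Finset α) :
    b ∈ B ↔ insertNone b ∈ {u : Finset (Option α) | u.card = 8 ∧ InCode B u} := by
  constructor
  · intro hb
    exact ⟨by rw [card_insertNone, hB.1 b hb], InCode.block hb⟩
  · rintro ⟨h8, hcode⟩
    rw [card_insertNone] at h8
    obtain ⟨s, hsb, hs⟩ := exists_subset_card_eq (s := b) (n := 4) (by omega)
    obtain ⟨c, ⟨hcB, hsc⟩, _⟩ := hB.2 s hs
    have h : insertNone b = insertNone c := by
      refine InCode.eq_of_inter hα hB hI hcode (InCode.block hcB)
        (by rw [card_insertNone]; omega) (by rw [card_insertNone, hB.1 c hcB]) ?_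
      rw [insertNone_inter, card_insertNone]
      have := card_le_card (subset_inter hsb hsc)
      omega
    have h' : b = c := by
      have := congrArg eraseNone h
      rwa [eraseNone_insertNone, eraseNone_insertNone] at this
    rw [h']
    exact hcB

end Steiner

/-- Every Steiner system S(4, 7, 23) on `α` extends to a Steiner system S(5, 8, 24) on `Option α`
whose blocks through `none` are exactly the sets `insertNone b`, `b ∈ B`. -/
theorem exists_extension (hα : Fintype.card α = 23) {B : Set (Finset α)}
    (hB : IsSteinerSystem 4 7 B) :
    ∃ O : Set (Finset (Option α)), IsSteinerSystem 5 8 O ∧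
      ∀ b : Finset α, b ∈ B ↔ insertNone b ∈ O := by
  have hI : ∀ b ∈ B, ∀ c ∈ B, b ≠ c → (b ∩ c).card = 1 ∨ (b ∩ c).card = 3 :=
    fun b hb c hc hbc => Cfsg.Agent.S0355.result hα hB hb hc hbc
  exact ⟨_, isSteinerSystem_octads hα hB hI, mem_iff_insertNone_mem hα hB hI⟩

/-- An isomorphism of extensions fixing `none` restricts to an isomorphism of the derived
systems. -/
theorem iso_of_extension {α β : Type*} [DecidableEq α] [DecidableEq β]
    {B : Set (Finset α)} {B' : Set (Finset β)} {O : Set (Finset (Option α))}
    {O' : Set (Finset (Option β))} (hO : ∀ b : Finset α, b ∈ B ↔ insertNone b ∈ O)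
    (hO' : ∀ b : Finset β, b ∈ B' ↔ insertNone b ∈ O') (e : Option α ≃ Option β)
    (he : (fun b => b.image e) '' O = O') (hn : e none = none) :
    ∃ f : α ≃ β, (∀ a, some (f a) = e (some a)) ∧ (fun b => b.image f) '' B = B' := by
  have hf : ∀ a, some (Equiv.removeNone e a) = e (some a) := by
    intro a
    refine Equiv.removeNone_some e ?_
    cases h : e (some a) with
    | none =>
      rw [← hn] at h
      exact absurd (e.injective h) (by simp)
    | some b => exact ⟨b, rfl⟩
  refine ⟨Equiv.removeNone e, hf, ?_⟩
  have himg : ∀ b : Finset α, (insertNone b).image e =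
      insertNone (b.image (Equiv.removeNone e)) := by
    intro b
    ext x
    cases x with
    | none =>
      simp only [mem_image, none_mem_insertNone, iff_true]
      exact ⟨none, none_mem_insertNone, hn⟩
    | some x =>
      simp only [mem_image, some_mem_insertNone]
      constructor
      · rintro ⟨a, ha, hax⟩
        cases a with
        | none => rw [hn] at hax; cases hax
        | some a =>
          refine ⟨a, some_mem_insertNone.1 ha, ?_⟩
          rw [← hf a] at hax
          exact Option.some.inj hax
      · rintro ⟨a, ha, hax⟩
        exact ⟨some a, some_mem_insertNone.2 ha, by rw [← hf a, hax]⟩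
  have hinj : Function.Injective (fun b : Finset (Option α) => b.image e) :=
    Finset.image_injective e.injective
  ext c
  constructor
  · rintro ⟨b, hb, rfl⟩
    show b.image (Equiv.removeNone e) ∈ B'
    rw [hO', ← himg, ← he]
    exact ⟨_, (hO b).1 hb, rfl⟩
  · intro hc
    refine ⟨c.image (Equiv.removeNone e).symm, ?_, ?_⟩
    · have hcc : (c.image (Equiv.removeNone e).symm).image (Equiv.removeNone e) = c := by
        rw [image_image, Equiv.self_comp_symm, image_id]
      rw [hO]
      have h1 : insertNone c ∈ O' := (hO' c).1 hc
      rw [← he] at h1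
      obtain ⟨d, hd, hdc⟩ := h1
      have h2 : d = insertNone (c.image (Equiv.removeNone e).symm) := by
        apply hinj
        show d.image e = (insertNone (c.image (Equiv.removeNone e).symm)).image e
        rw [himg, hcc]
        exact hdc
      rw [← h2]
      exact hd
    · show (c.image (Equiv.removeNone e).symm).image (Equiv.removeNone e) = c
      rw [image_image, Equiv.self_comp_symm, image_id]

end Cfsg.Agent.SporadicA.Extend23
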