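import Mathlib
import Cfsg.Prelude.Def_Sporadic_a
set_option linter.all false

/-!
# Bit masks for subsets of `Fin n`, and a checked search for Steiner systems

* `mask s` is the natural number whose binary digits are the indicator function of `s : Finset (Fin n)`,
  `ofMask n m` goes back.
* `popc f c` counts the binary digits `1` of `c` below position `f`.
* `search` is an exhaustive search through binary words, with a soundness theorem.
* `setSystemIso_of_label` : if all the systems in question can be labelled so that they contain a fixed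
  Steiner system on `Fin n`, they are isomorphic.
-/

set_option autoImplicit false

namespace Cfsg.Agent.SporadicA.SteinerMask

open Finset

/-- number of ones among the lowest `f` binary digits of `c` -/
def popc : ℕ → ℕ → ℕ
  | 0, _ => 0
  | f + 1, c => c % 2 + popc f (c / 2)

theorem popc_zero (c : ℕ) : popc 0 c = 0 := rfl

theorem popc_succ (f c : ℕ) : popc (f + 1) c = c % 2 + popc f (c / 2) := rfl

theorem popc_eq_card (f c : ℕ) :
    popc f c = ((Finset.range f).filter fun i => c.testBit i = true).card := by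
  induction f generalizing c with
  | zero => simp [popc_zero]
  | succ f ih =>
    rw [popc_succ, ih, Finset.card_filter, Finset.card_filter, Finset.sum_range_succ']
    simp only [Nat.testBit_succ, Nat.testBit_zero, decide_eq_true_eq]
    have : c % 2 = if c % 2 = 1 then 1 else 0 := by
      rcases Nat.mod_two_eq_zero_or_one c with h | h <;> simp [h]
    omega

theorem popc_add (j f c : ℕ) : popc (j + f) c = popc j c + popc f (c >>> j) := by
  induction j generalizing c with
  | zero => simp [popc_zero]
  | succ j ih =>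
    rw [show j + 1 + f = (j + f) + 1 by ring, popc_succ, popc_succ, ih]
    have : (c / 2) >>> j = c >>> (j + 1) := by
      rw [Nat.shiftRight_succ_inside]
    rw [this]; ring

theorem popc_of_zero (f : ℕ) : popc f 0 = 0 := by
  induction f with
  | zero => rfl
  | succ f ih => rw [popc_succ, Nat.zero_div, ih]

theorem popc_eq_of_le {n f c : ℕ} (hc : c < 2 ^ n) (hf : n ≤ f) : popc f c = popc n c := by
  obtain ⟨d, rfl⟩ := Nat.exists_eq_add_of_le hf
  rw [popc_add, Nat.shiftRight_eq_zero _ _ hc, popc_of_zero, add_zero]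

theorem popc_mod_zero (j c k : ℕ) (hk : k % 2 ^ j = 0) : popc j (c &&& k) = 0 := by
  rw [popc_eq_card, Finset.card_eq_zero, Finset.filter_eq_empty_iff]
  intro i hi
  rw [Finset.mem_range] at hi
  rw [Nat.testBit_and]
  have : k.testBit i = false := by
    have h1 : (k % 2 ^ j).testBit i = false := by rw [hk]; simp
    rw [Nat.testBit_mod_two_pow] at h1
    simpa [hi] using h1
  simp [this]

/-- the binary word of a subset of `Fin n` -/
def mask {n : ℕ} (s : Finset (Fin n)) : ℕ := ∑ i ∈ s, 2 ^ (i : ℕ)

/-- the subset of `Fin n` given by a binary word -/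
def ofMask (n m : ℕ) : Finset (Fin n) := Finset.univ.filter fun i => m.testBit i = true

theorem mem_ofMask {n m : ℕ} {i : Fin n} : i ∈ ofMask n m ↔ m.testBit i = true := by
  simp [ofMask]

theorem testBit_mask {n : ℕ} (s : Finset (Fin n)) (i : ℕ) :
    (mask s).testBit i = true ↔ ∃ h : i < n, (⟨i, h⟩ : Fin n) ∈ s := by
  have h1 : mask s = ∑ i ∈ s.map Fin.valEmbedding, 2 ^ i := by
    rw [Finset.sum_map]; rfl
  rw [h1, ← Nat.mem_bitIndices, ← List.mem_toFinset, Finset.toFinset_bitIndices_sum_two_pow]
  simp only [Finset.mem_map, Fin.valEmbedding_apply]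
  constructor
  · rintro ⟨a, ha, rfl⟩
    exact ⟨a.2, ha⟩
  · rintro ⟨h, hs⟩
    exact ⟨_, hs, rfl⟩

theorem ofMask_mask {n : ℕ} (s : Finset (Fin n)) : ofMask n (mask s) = s := by
  ext i
  rw [mem_ofMask, testBit_mask]
  simp

theorem mask_lt {n : ℕ} (s : Finset (Fin n)) : mask s < 2 ^ n := by
  apply Nat.lt_pow_two_of_testBit
  intro i hi
  by_contra h
  rw [Bool.not_eq_false, testBit_mask] at h
  obtain ⟨h, -⟩ := h
  omega

theorem mask_ofMask {n m : ℕ} (hm : m < 2 ^ n) : mask (ofMask n m) = m := by
  apply Nat.eq_of_testBit_eq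
  intro i
  rw [Bool.eq_iff_iff, testBit_mask]
  constructor
  · rintro ⟨h, hi⟩
    simpa [mem_ofMask] using hi
  · intro hi
    have h : i < n := by
      by_contra hn
      rw [Nat.testBit_lt_two_pow (lt_of_lt_of_le hm (Nat.pow_le_pow_right (by norm_num) (not_lt.1 hn)))] at hi
      exact Bool.false_ne_true hi
    exact ⟨h, by rw [mem_ofMask]; exact hi⟩

theorem mask_injective {n : ℕ} {s t : Finset (Fin n)} (h : mask s = mask t) : s = t := by
  rw [← ofMask_mask s, ← ofMask_mask t, h]

theorem ofMask_and (n a b : ℕ) : ofMask n (a &&& b) = ofMask n a ∩ ofMask n b := by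
  ext i
  simp [mem_ofMask, Nat.testBit_and]

theorem mask_inter {n : ℕ} (s t : Finset (Fin n)) : mask (s ∩ t) = mask s &&& mask t := by
  rw [← mask_ofMask (lt_of_le_of_lt Nat.and_le_left (mask_lt s) : mask s &&& mask t < 2 ^ n), ofMask_and,
    ofMask_mask, ofMask_mask]

theorem card_ofMask (n m : ℕ) : (ofMask n m).card = popc n m := by
  rw [popc_eq_card, ofMask]
  have : ((Finset.univ.filter fun i : Fin n => m.testBit i = true).map Fin.valEmbedding) =
      (Finset.range n).filter fun i => m.testBit i = true := by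
    ext i
    simp only [Finset.mem_map, Finset.mem_filter, Finset.mem_univ, true_and, Fin.valEmbedding_apply,
      Finset.mem_range]
    constructor
    · rintro ⟨a, ha, rfl⟩
      exact ⟨a.2, ha⟩
    · rintro ⟨h1, h2⟩
      exact ⟨⟨i, h1⟩, h2, rfl⟩
  rw [← this, Finset.card_map]

theorem popc_mask {n : ℕ} (s : Finset (Fin n)) : popc n (mask s) = s.card := by
  rw [← card_ofMask, ofMask_mask]

theorem popc_mask_and {n : ℕ} (s t : Finset (Fin n)) :
    popc n (mask s &&& mask t) = (s ∩ t).card := by
  rw [← mask_inter, popc_mask]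

theorem mask_and_eq_iff_subset {n : ℕ} {s t : Finset (Fin n)} :
    mask s &&& mask t = mask s ↔ s ⊆ t := by
  rw [← mask_inter]
  constructor
  · intro h
    have := mask_injective h
    exact Finset.inter_eq_left.1 this
  · intro h
    rw [Finset.inter_eq_left.2 h]

/-! ### Exhaustive search -/

/-- Search through all words `c` with `c >>> j = h`: a branch is dropped when `bad j h`, and the words
that are reached have to be in the list `L`. -/
def search (bad : ℕ → ℕ → Bool) (L : List ℕ) : ℕ → ℕ → Bool
  | 0, h => bad 0 h || L.contains h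
  | j + 1, h => bad (j + 1) h || (search bad L j (2 * h) && search bad L j (2 * h + 1))

theorem search_sound {S : ℕ → Prop} {bad : ℕ → ℕ → Bool} {L : List ℕ}
    (hbad : ∀ c, S c → ∀ j, bad j (c >>> j) = false) :
    ∀ j h, search bad L j h = true → ∀ c, S c → c >>> j = h → c ∈ L := by
  intro j
  induction j with
  | zero =>
    intro h hs c hc hch
    have h1 := hbad c hc 0
    rw [hch] at h1
    rw [search, h1, Bool.false_or, List.contains_iff_mem] at hs
    rw [Nat.shiftRight_zero] at hch
    rw [hch]; exact hs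
  | succ j ih =>
    intro h hs c hc hch
    have h1 := hbad c hc (j + 1)
    rw [hch] at h1
    rw [search, h1, Bool.false_or, Bool.and_eq_true] at hs
    have h2 : c >>> (j + 1) = (c >>> j) / 2 := Nat.shiftRight_succ c j
    rcases Nat.mod_two_eq_zero_or_one (c >>> j) with h3 | h3
    · exact ih _ hs.1 c hc (by omega)
    · exact ih _ hs.2 c hc (by omega)

/-- As `search`, for words with `r` further ones. -/
def searchR (bad : ℕ → ℕ → Bool) (L : List ℕ) : ℕ → ℕ → ℕ → Bool
  | 0, h, _ => bad 0 h || L.contains h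
  | j + 1, h, r => bad (j + 1) h || ((Nat.blt j r || searchR bad L j (2 * h) r) &&
      (Nat.beq r 0 || searchR bad L j (2 * h + 1) (r - 1)))

theorem searchR_sound {S : ℕ → Prop} {bad : ℕ → ℕ → Bool} {L : List ℕ}
    (hbad : ∀ c, S c → ∀ j, bad j (c >>> j) = false) :
    ∀ j h r, searchR bad L j h r = true → ∀ c, S c → popc j c = r → c >>> j = h → c ∈ L := by
  intro j
  induction j with
  | zero =>
    intro h r hs c hc _ hch
    have h1 := hbad c hc 0
    rw [hch] at h1
    rw [searchR, h1, Bool.false_or, List.contains_iff_mem] at hs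
    rw [Nat.shiftRight_zero] at hch
    rw [hch]; exact hs
  | succ j ih =>
    intro h r hs c hc hr hch
    have h1 := hbad c hc (j + 1)
    rw [hch] at h1
    rw [searchR, h1, Bool.false_or, Bool.and_eq_true, Bool.or_eq_true, Bool.or_eq_true] at hs
    have h2 : c >>> (j + 1) = (c >>> j) / 2 := Nat.shiftRight_succ c j
    have h4 : popc (j + 1) c = popc j c + popc 1 (c >>> j) := popc_add j 1 c
    have h5 : popc 1 (c >>> j) = (c >>> j) % 2 := by
      rw [show (1 : ℕ) = 0 + 1 from rfl, popc_succ, popc_zero, add_zero]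
    rcases Nat.mod_two_eq_zero_or_one (c >>> j) with h3 | h3
    · refine ih _ r (hs.1.resolve_left ?_) c hc (by omega) (by omega)
      have : popc j c ≤ j := by
        rw [popc_eq_card]
        exact (Finset.card_filter_le _ _).trans (by rw [Finset.card_range])
      rw [Bool.not_eq_true, ← Bool.not_eq_true, Nat.blt_eq]
      omega
    · refine ih _ (r - 1) (hs.2.resolve_left ?_) c hc (by omega) (by omega)
      intro h6
      have := Nat.eq_of_beq_eq_true h6
      omega

/-- removing the lowest one -/
theorem popc_drop : ∀ f x : ℕ, x ≠ 0 → x < 2 ^ f → popc f x = popc f (x &&& (x - 1)) + 1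
  | 0, x, hx, hx2 => by simp at hx2; exact absurd hx2 hx
  | f + 1, x, hx, hx2 => by
    rcases Nat.mod_two_eq_zero_or_one x with h | h
    · obtain ⟨y, rfl⟩ : ∃ y, x = 2 * y := ⟨x / 2, by omega⟩
      have hy : y ≠ 0 := by omega
      have e1 : (2 * y) &&& (2 * y - 1) = 2 * (y &&& (y - 1)) := by
        apply Nat.eq_of_testBit_eq
        intro i
        rw [Nat.testBit_and]
        cases i with
        | zero => simp [Nat.testBit_zero]
        | succ i =>
          rw [Nat.testBit_succ, Nat.testBit_succ, Nat.testBit_succ, Nat.mul_div_cancel_left _ (by norm_num),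
            Nat.mul_div_cancel_left _ (by norm_num), show (2 * y - 1) / 2 = y - 1 by omega, Nat.testBit_and]
      rw [e1, popc_succ, popc_succ, Nat.mul_div_cancel_left _ (by norm_num),
        Nat.mul_div_cancel_left _ (by norm_num), popc_drop f y hy (by rw [pow_succ] at hx2; omega)]
      omega
    · obtain ⟨y, rfl⟩ : ∃ y, x = 2 * y + 1 := ⟨x / 2, by omega⟩
      have e1 : (2 * y + 1) &&& (2 * y + 1 - 1) = 2 * y := by
        apply Nat.eq_of_testBit_eq
        intro i
        rw [Nat.testBit_and]
        cases i with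
        | zero => simp [Nat.testBit_zero]
        | succ i =>
          rw [Nat.testBit_succ, Nat.testBit_succ, Nat.testBit_succ, show (2 * y + 1) / 2 = y by omega,
            show (2 * y + 1 - 1) / 2 = y by omega, show 2 * y / 2 = y by omega, Bool.and_self]
      rw [e1, popc_succ, popc_succ, show (2 * y + 1) / 2 = y by omega,
        show 2 * y / 2 = y by omega]
      omega

theorem popc_pos {f x : ℕ} (hx : x ≠ 0) (hx2 : x < 2 ^ f) : 0 < popc f x := by
  rw [popc_drop f x hx hx2]; omega

theorem beq_false {a b : ℕ} (h : a ≠ b) : Nat.beq a b = false := by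
  rw [← Bool.not_eq_true]
  exact fun h1 => h (Nat.eq_of_beq_eq_true h1)

/-- A word `x` with more than two ones, or with exactly one when `b` holds. -/
def odd2 (x : ℕ) (b : Bool) : Bool :=
  bif Nat.beq x 0 then false
  else bif Nat.beq (x &&& (x - 1)) 0 then b
  else !(Nat.beq ((x &&& (x - 1)) &&& ((x &&& (x - 1)) - 1)) 0)

theorem odd2_eq_false {f x : ℕ} {b : Bool} (hx : x < 2 ^ f) (h2 : popc f x ≤ 2)
    (h1 : b = true → popc f x ≠ 1) : odd2 x b = false := by
  unfold odd2
  by_cases h0 : x = 0
  · rw [h0]; rfl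
  rw [beq_false h0, cond_false]
  have hy : x &&& (x - 1) < 2 ^ f := lt_of_le_of_lt Nat.and_le_left hx
  have e1 := popc_drop f x h0 hx
  by_cases hy0 : x &&& (x - 1) = 0
  · rw [hy0, show Nat.beq 0 0 = true from rfl, cond_true]
    rw [hy0, popc_of_zero] at e1
    cases b with
    | false => rfl
    | true => exact absurd e1 (h1 rfl)
  · rw [beq_false hy0, cond_false]
    have e2 := popc_drop f _ hy0 hy
    have hz : (x &&& (x - 1)) &&& ((x &&& (x - 1)) - 1) < 2 ^ f := lt_of_le_of_lt Nat.and_le_left hy
    by_cases hz0 : (x &&& (x - 1)) &&& ((x &&& (x - 1)) - 1) = 0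
    · rw [hz0]; rfl
    · have := popc_pos hz0 hz
      omega

theorem popc_le_of_odd2 {f x : ℕ} (hx : x < 2 ^ f) (h : odd2 x false = false) : popc f x ≤ 2 := by
  unfold odd2 at h
  by_cases h0 : x = 0
  · rw [h0, popc_of_zero]; omega
  rw [beq_false h0, cond_false] at h
  have hy : x &&& (x - 1) < 2 ^ f := lt_of_le_of_lt Nat.and_le_left hx
  have e1 := popc_drop f x h0 hx
  by_cases hy0 : x &&& (x - 1) = 0
  · rw [e1, hy0, popc_of_zero]; omega
  · rw [beq_false hy0, cond_false, Bool.not_eq_false'] at h
    have e2 := popc_drop f _ hy0 hy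
    rw [Nat.eq_of_beq_eq_true h, popc_of_zero] at e2
    omega

/-! ### Steiner systems -/

theorem eq_of_card_inter {α : Type*} [DecidableEq α] {t k : ℕ} {B : Set (Finset α)}
    (hB : Cfsg.IsSteinerSystem t k B) {b c : Finset α} (hb : b ∈ B) (hc : c ∈ B)
    (h : t ≤ (b ∩ c).card) : b = c := by
  obtain ⟨s, hs, hst⟩ := Finset.exists_subset_card_eq h
  obtain ⟨d, -, hd⟩ := hB.2 s hst
  rw [hd b ⟨hb, hs.trans Finset.inter_subset_left⟩, hd c ⟨hc, hs.trans Finset.inter_subset_right⟩]

/-- pulling back a Steiner system along a bijection -/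
theorem steiner_pull {α β : Type*} {t k : ℕ} {B : Set (Finset α)}
    (hB : Cfsg.IsSteinerSystem t k B) (e : β ≃ α) :
    Cfsg.IsSteinerSystem t k {s : Finset β | s.map e.toEmbedding ∈ B} := by
  refine ⟨fun b hb => by rw [← Finset.card_map e.toEmbedding]; exact hB.1 _ hb, fun s hs => ?_⟩
  obtain ⟨b, ⟨hb, hsb⟩, hu⟩ := hB.2 (s.map e.toEmbedding) (by rw [Finset.card_map, hs])
  have key : ∀ c : Finset α, (c.map e.symm.toEmbedding).map e.toEmbedding = c := by
    intro c
    ext x
    simp
  refine ⟨b.map e.symm.toEmbedding, ⟨?_, ?_⟩, ?_⟩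
  · show (b.map e.symm.toEmbedding).map e.toEmbedding ∈ B
    rwa [key]
  · rw [← Finset.map_subset_map (f := e.toEmbedding), key]
    exact hsb
  · rintro c ⟨hc, hsc⟩
    apply Finset.map_injective e.toEmbedding
    rw [key]
    exact hu _ ⟨hc, Finset.map_subset_map.2 hsc⟩

/-- Two families of subsets that look the same in two labellings are isomorphic. -/
theorem setSystemIso_of_label {ι α β : Type*} [DecidableEq β] {B : Set (Finset α)}
    {B' : Set (Finset β)} (e : ι ≃ α) (e' : ι ≃ β)
    (h : ∀ s : Finset ι, s.map e.toEmbedding ∈ B ↔ s.map e'.toEmbedding ∈ B') :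
    Cfsg.SetSystemIso B B' := by
  refine ⟨e.symm.trans e', ?_⟩
  have key : ∀ c : Finset α, c.image (e.symm.trans e') =
      (c.map e.symm.toEmbedding).map e'.toEmbedding := by
    intro c
    rw [Finset.map_map, Finset.map_eq_image]
    rfl
  have key2 : ∀ c : Finset α, (c.map e.symm.toEmbedding).map e.toEmbedding = c := by
    intro c
    ext x
    simp
  ext c
  simp only [Set.mem_image]
  constructor
  · rintro ⟨b, hb, rfl⟩
    rw [key, ← h, key2]
    exact hb
  · intro hc
    refine ⟨(c.map e'.symm.toEmbedding).map e.toEmbedding, ?_, ?_⟩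
    · rw [h]
      have : (c.map e'.symm.toEmbedding).map e'.toEmbedding = c := by
        ext x
        simp
      rwa [this]
    · rw [key]
      ext x
      simp

/-- A Steiner system on `Fin n` whose blocks all have their words in a list `L` whose members meet in
fewer than `t` points is given by `L`. -/
theorem mem_iff_of_subset {n t k : ℕ} {S : Set (Finset (Fin n))} (hS : Cfsg.IsSteinerSystem t k S)
    {L : List ℕ} (hL : ∀ s ∈ S, mask s ∈ L)
    (hL1 : ∀ a ∈ L, a < 2 ^ n ∧ t ≤ popc n a)
    (hL2 : ∀ a ∈ L, ∀ b ∈ L, t ≤ popc n (a &&& b) → a = b) (s : Finset (Fin n)) :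
    s ∈ S ↔ mask s ∈ L := by
  refine ⟨hL s, fun hs => ?_⟩
  obtain ⟨T, hT, hTt⟩ := Finset.exists_subset_card_eq (by
    rw [← popc_mask]; exact (hL1 _ hs).2 : t ≤ s.card)
  obtain ⟨b, ⟨hb, hTb⟩, -⟩ := hS.2 T hTt
  have h1 : mask s = mask b := by
    apply hL2 _ hs _ (hL b hb)
    rw [popc_mask_and, ← hTt]
    exact Finset.card_le_card (Finset.subset_inter hT hTb)
  rw [mask_injective h1]
  exact hb

end Cfsg.Agent.SporadicA.SteinerMask
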