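import Mathlib
import Cfsg.Agent.SporadicA.SteinerMask
set_option linter.all false

/-!
# Labelling the points of a Steiner system S(3, 6, 22)

A block `b₀` (six points in any order), a point `q` outside, and the other fifteen points, which are in
bijection with the fifteen partitions of `b₀` into three pairs.  The sixteen blocks `b₀` and those through
`q` and a pair of points of `b₀` are then known, and they determine the system.
-/

set_option autoImplicit false
set_option linter.unusedSectionVars false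

namespace Cfsg.Agent.SporadicA.Steiner22

open Finset Cfsg.Agent.SporadicA.SteinerMask

/-- the fixed-point-free involutions of `Fin 6` -/
def M : Fin 15 → Fin 6 → Fin 6 :=
  ![![1, 0, 3, 2, 5, 4], ![1, 0, 4, 5, 2, 3], ![1, 0, 5, 4, 3, 2], ![2, 3, 0, 1, 5, 4],
    ![2, 4, 0, 5, 1, 3], ![2, 5, 0, 4, 3, 1], ![3, 2, 1, 0, 5, 4], ![3, 4, 5, 0, 1, 2],
    ![3, 5, 4, 0, 2, 1], ![4, 2, 1, 5, 0, 3], ![4, 3, 5, 1, 0, 2], ![4, 5, 3, 2, 0, 1],
    ![5, 2, 1, 4, 3, 0], ![5, 3, 4, 1, 2, 0], ![5, 4, 3, 2, 1, 0]]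

theorem M_invol : ∀ k i, M k i ≠ i ∧ M k (M k i) = i := by decide

theorem M_inj : ∀ k l, (∀ i, M k i = M l i) → k = l := by decide

/-- order in which the points are used -/
def orig : Fin 22 → Fin 22 :=
  ![10, 14, 17, 7, 11, 18, 8, 15, 16, 13, 9, 12, 21, 20, 6, 19, 3, 4, 5, 1, 2, 0]

theorem orig_inj : Function.Injective orig := by decide

/-- the words of the fifteen blocks through `q` and two points of `b₀` -/
def duadMask : Fin 6 → Fin 6 → ℕ :=
  ![![0, 2638920, 3164177, 2179714, 2244900, 2420736],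
    ![2638920, 0, 1622784, 614405, 675858, 805024],
    ![3164177, 1622784, 0, 1134632, 1204416, 1328134],
    ![2179714, 614405, 1134632, 0, 248832, 344400],
    ![2244900, 675858, 1204416, 248832, 0, 410121],
    ![2420736, 805024, 1328134, 344400, 410121, 0]]

/-- the word of `b₀` -/
def hexMask : ℕ := 4128768

variable {α : Type*}

/-- labelling of the points in terms of the block, the point `q` and the points of the partitions -/
def lab (h : Fin 6 → α) (q : α) (P : Fin 15 → α) (y : Fin 22) : α :=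
  if h6 : (y : ℕ) < 6 then h ⟨y, h6⟩ else if h7 : (y : ℕ) < 7 then q else P ⟨y - 7, by omega⟩

theorem lab_inj {h : Fin 6 → α} {q : α} {P : Fin 15 → α} (hh : Function.Injective h)
    (hP : Function.Injective P) (hq : ∀ i, h i ≠ q) (hPq : ∀ k, P k ≠ q) (hPh : ∀ k i, P k ≠ h i) :
    Function.Injective (lab h q P) := by
  intro a b hab
  unfold lab at hab
  split_ifs at hab with h1 h2 h3 h4 h5 h6 h7
  · have := hh hab
    simp only [Fin.mk.injEq] at this
    exact Fin.ext this
  · exact absurd hab (hq _)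
  · exact absurd hab.symm (hPh _ _)
  · exact absurd hab.symm (hq _)
  · exact Fin.ext (by omega)
  · exact absurd hab.symm (hPq _)
  · exact absurd hab (hPh _ _)
  · exact absurd hab (hPq _)
  · have := hP hab
    simp only [Fin.mk.injEq] at this
    exact Fin.ext (by omega)

theorem duadMask_spec : ∀ i j : Fin 6, i ≠ j → popc 22 (duadMask i j) = 6 ∧
    ∀ x : Fin 22, (duadMask i j).testBit x = true →
      (∀ h6 : ((orig x : Fin 22) : ℕ) < 6, (⟨orig x, h6⟩ : Fin 6) = i ∨ (⟨orig x, h6⟩ : Fin 6) = j) ∧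
      (∀ h7 : ¬ ((orig x : Fin 22) : ℕ) < 7, M ⟨orig x - 7, by omega⟩ i = j) := by
  decide +kernel

theorem hexMask_spec : popc 22 hexMask = 6 ∧ ∀ x : Fin 22, hexMask.testBit x = true →
    ((orig x : Fin 22) : ℕ) < 6 := by
  decide +kernel

variable [Fintype α] [DecidableEq α]

/-- The data: a system, a block with its points named by `h`, and a point `q` outside. -/
structure Frame (B : Set (Finset α)) (h : Fin 6 → α) (q : α) : Prop where
  st : Cfsg.IsSteinerSystem 3 6 B
  inter : ∀ b ∈ B, ∀ c ∈ B, b ≠ c → (b ∩ c).card = 0 ∨ (b ∩ c).card = 2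
  inj : Function.Injective h
  hb : Finset.univ.image h ∈ B
  hq : ∀ i, h i ≠ q

variable {B : Set (Finset α)} {h : Fin 6 → α} {q : α}

theorem Frame.eq (F : Frame B h q) {b c : Finset α} (hb : b ∈ B) (hc : c ∈ B) {x y z : α}
    (hxy : x ≠ y) (hxz : x ≠ z) (hyz : y ≠ z) (h1 : x ∈ b) (h2 : y ∈ b) (h3 : z ∈ b)
    (h4 : x ∈ c) (h5 : y ∈ c) (h6 : z ∈ c) : b = c := by
  apply eq_of_card_inter F.st hb hc
  have : ({x, y, z} : Finset α).card = 3 := by
    rw [Finset.card_eq_three]
    exact ⟨x, y, z, hxy, hxz, hyz, rfl⟩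
  rw [← this]
  apply Finset.card_le_card
  intro w hw
  simp only [Finset.mem_insert, Finset.mem_singleton] at hw
  rw [Finset.mem_inter]
  rcases hw with rfl | rfl | rfl
  · exact ⟨h1, h4⟩
  · exact ⟨h2, h5⟩
  · exact ⟨h3, h6⟩

theorem Frame.exists_block (F : Frame B h q) {x y z : α}
    (hxy : x ≠ y) (hxz : x ≠ z) (hyz : y ≠ z) : ∃ b ∈ B, x ∈ b ∧ y ∈ b ∧ z ∈ b := by
  obtain ⟨b, ⟨hb, hs⟩, -⟩ := F.st.2 {x, y, z} (by
    rw [Finset.card_eq_three]
    exact ⟨x, y, z, hxy, hxz, hyz, rfl⟩)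
  exact ⟨b, hb, hs (by simp), hs (by simp), hs (by simp)⟩

theorem Frame.mem_b0 (_F : Frame B h q) (i : Fin 6) : h i ∈ Finset.univ.image h :=
  Finset.mem_image_of_mem _ (Finset.mem_univ _)

theorem Frame.q_notMem (F : Frame B h q) : q ∉ Finset.univ.image h := by
  intro hq
  obtain ⟨i, -, hi⟩ := Finset.mem_image.1 hq
  exact F.hq i hi

/-- there are blocks through `q` and any two points of `b₀` -/
theorem Frame.exists_D (F : Frame B h q) : ∃ D : Fin 6 → Fin 6 → Finset α,
    ∀ i j, i ≠ j → D i j ∈ B ∧ h i ∈ D i j ∧ h j ∈ D i j ∧ q ∈ D i j := by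
  have : ∀ i j, ∃ D : Finset α, i ≠ j → D ∈ B ∧ h i ∈ D ∧ h j ∈ D ∧ q ∈ D := by
    intro i j
    by_cases hij : i = j
    · exact ⟨∅, fun hne => absurd hij hne⟩
    · obtain ⟨b, hb, h1, h2, h3⟩ := F.exists_block (fun hh => hij (F.inj hh)) (F.hq i) (F.hq j)
      exact ⟨b, fun _ => ⟨hb, h1, h2, h3⟩⟩
  choose D hD using this
  exact ⟨D, hD⟩

variable {D : Fin 6 → Fin 6 → Finset α}

theorem Frame.mem_D (F : Frame B h q)
    (hD : ∀ i j, i ≠ j → D i j ∈ B ∧ h i ∈ D i j ∧ h j ∈ D i j ∧ q ∈ D i j)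
    {i j t : Fin 6} (hij : i ≠ j) (ht : h t ∈ D i j) : t = i ∨ t = j := by
  by_contra hcon
  rw [not_or] at hcon
  obtain ⟨h1, h2, h3, h4⟩ := hD i j hij
  have := F.eq h1 F.hb (x := h i) (y := h j) (z := h t) (fun hh => hij (F.inj hh))
    (fun hh => hcon.1 (F.inj hh).symm) (fun hh => hcon.2 (F.inj hh).symm) h2 h3 ht
    (F.mem_b0 i) (F.mem_b0 j) (F.mem_b0 t)
  rw [this] at h4
  exact F.q_notMem h4

theorem Frame.D_symm (F : Frame B h q)
    (hD : ∀ i j, i ≠ j → D i j ∈ B ∧ h i ∈ D i j ∧ h j ∈ D i j ∧ q ∈ D i j)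
    {i j : Fin 6} (hij : i ≠ j) : D i j = D j i := by
  obtain ⟨h1, h2, h3, h4⟩ := hD i j hij
  obtain ⟨h1', h2', h3', h4'⟩ := hD j i hij.symm
  exact F.eq h1 h1' (fun hh => hij (F.inj hh)) (F.hq i) (F.hq j) h2 h3 h4 h3' h2' h4'

/-- the block through `q`, `h i` and an outer point `x` meets `b₀` in one more point -/
theorem Frame.exists_partner (F : Frame B h q)
    (hD : ∀ i j, i ≠ j → D i j ∈ B ∧ h i ∈ D i j ∧ h j ∈ D i j ∧ q ∈ D i j)
    {x : α} (hx : ∀ i, h i ≠ x) (hxq : x ≠ q) (i : Fin 6) : ∃ t, i ≠ t ∧ x ∈ D i t := by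
  obtain ⟨c, hc, h1, h2, h3⟩ := F.exists_block (F.hq i) (hx i) hxq.symm
  have hne : c ≠ Finset.univ.image h := fun hh => F.q_notMem (hh ▸ h2)
  have hmem : h i ∈ c ∩ Finset.univ.image h := Finset.mem_inter.2 ⟨h1, F.mem_b0 i⟩
  have h2' : (c ∩ Finset.univ.image h).card = 2 := by
    rcases F.inter c hc _ F.hb hne with h0 | h0
    · rw [Finset.card_eq_zero] at h0
      rw [h0] at hmem
      exact absurd hmem (Finset.notMem_empty _)
    · exact h0
  obtain ⟨y, hy, hyi⟩ : ∃ y ∈ c ∩ Finset.univ.image h, y ≠ h i :=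
    Finset.exists_mem_ne (by omega) _
  obtain ⟨hy1, hy2⟩ := Finset.mem_inter.1 hy
  obtain ⟨t, -, rfl⟩ := Finset.mem_image.1 hy2
  have hit : i ≠ t := fun hh => hyi (by rw [hh])
  refine ⟨t, hit, ?_⟩
  obtain ⟨d1, d2, d3, d4⟩ := hD i t hit
  rw [F.eq d1 hc (fun hh => hit (F.inj hh)) (F.hq i) (F.hq t) d2 d3 d4 h1 hy1 h2]
  exact h3

theorem Frame.partner_unique (F : Frame B h q)
    (hD : ∀ i j, i ≠ j → D i j ∈ B ∧ h i ∈ D i j ∧ h j ∈ D i j ∧ q ∈ D i j)
    {x : α} (hx : ∀ i, h i ≠ x) (hxq : x ≠ q) {i t u : Fin 6} (hit : i ≠ t) (hiu : i ≠ u)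
    (h1 : x ∈ D i t) (h2 : x ∈ D i u) : t = u := by
  obtain ⟨d1, d2, d3, d4⟩ := hD i t hit
  obtain ⟨e1, e2, e3, e4⟩ := hD i u hiu
  have := F.eq d1 e1 (F.hq i) (hx i) hxq.symm d2 d4 h1 e2 e4 h2
  rw [← this] at e3
  rcases F.mem_D hD hit e3 with h | h
  · exact absurd h.symm hiu
  · exact h.symm

/-- every partition of `b₀` into pairs belongs to a point outside -/
theorem Frame.exists_point (F : Frame B h q)
    (hD : ∀ i j, i ≠ j → D i j ∈ B ∧ h i ∈ D i j ∧ h j ∈ D i j ∧ q ∈ D i j)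
    (s : Fin 6 → Fin 6) (hs : ∀ i, s i ≠ i ∧ s (s i) = i) :
    ∃ x, (∀ i, h i ≠ x) ∧ x ≠ q ∧ ∀ i, x ∈ D i (s i) := by
  obtain ⟨a, ha⟩ : ∃ a : Fin 6, a ∉ ({0, s 0} : Finset (Fin 6)) := by
    by_contra hcon
    push Not at hcon
    have : (Finset.univ : Finset (Fin 6)) ⊆ {0, s 0} := fun a _ => hcon a
    have h1 := Finset.card_le_card this
    have h2 : ({0, s 0} : Finset (Fin 6)).card ≤ 2 := Finset.card_le_two
    rw [Finset.card_univ, Fintype.card_fin] at h1
    omega
  simp only [Finset.mem_insert, Finset.mem_singleton, not_or] at ha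
  obtain ⟨ha0, haj⟩ := ha
  have hr0 : s a ≠ 0 := by
    intro hh
    have := (hs a).2
    rw [hh] at this
    exact haj this.symm
  have hrj : s a ≠ s 0 := by
    intro hh
    have := (hs a).2
    rw [hh, (hs 0).2] at this
    exact ha0 this.symm
  have n0 : (0 : Fin 6) ≠ s 0 := (hs 0).1.symm
  have na : a ≠ s a := (hs a).1.symm
  obtain ⟨d1, d2, d3, d4⟩ := hD 0 (s 0) n0
  obtain ⟨e1, e2, e3, e4⟩ := hD a (s a) na
  have hne : D 0 (s 0) ≠ D a (s a) := by
    intro hh
    rw [hh] at d2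
    rcases F.mem_D hD na d2 with h | h
    · exact ha0 h.symm
    · exact hr0 h.symm
  have hcard : (D 0 (s 0) ∩ D a (s a)).card = 2 := by
    rcases F.inter _ d1 _ e1 hne with h0 | h0
    · rw [Finset.card_eq_zero] at h0
      have : q ∈ D 0 (s 0) ∩ D a (s a) := Finset.mem_inter.2 ⟨d4, e4⟩
      rw [h0] at this
      exact absurd this (Finset.notMem_empty _)
    · exact h0
  obtain ⟨x, hx, hxq⟩ : ∃ x ∈ D 0 (s 0) ∩ D a (s a), x ≠ q :=
    Finset.exists_mem_ne (by omega) _
  obtain ⟨hx1, hx2⟩ := Finset.mem_inter.1 hx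
  have hxh : ∀ i, h i ≠ x := by
    rintro i rfl
    rcases F.mem_D hD n0 hx1 with h1 | h1 <;> rcases F.mem_D hD na hx2 with h2 | h2
    · exact ha0 (h2.symm.trans h1)
    · exact hr0 (h2.symm.trans h1)
    · exact haj (h2.symm.trans h1)
    · exact hrj (h2.symm.trans h1)
  refine ⟨x, hxh, hxq, ?_⟩
  have hx1' : x ∈ D (s 0) 0 := by rw [← F.D_symm hD n0]; exact hx1
  have hx2' : x ∈ D (s a) a := by rw [← F.D_symm hD na]; exact hx2
  intro i
  by_cases i0 : i = 0
  · rw [i0]; exact hx1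
  by_cases ij : i = s 0
  · rw [ij, (hs 0).2]; exact hx1'
  by_cases ia : i = a
  · rw [ia]; exact hx2
  by_cases ir : i = s a
  · rw [ir, (hs a).2]; exact hx2'
  obtain ⟨t, hit, hxt⟩ := F.exists_partner hD hxh hxq i
  have hxt' : x ∈ D t i := by rw [← F.D_symm hD hit]; exact hxt
  have t0 : t ≠ 0 := by
    rintro rfl
    exact ij (F.partner_unique hD hxh hxq hit.symm n0 hxt' hx1)
  have tj : t ≠ s 0 := by
    rintro rfl
    exact i0 (F.partner_unique hD hxh hxq hit.symm n0.symm hxt' hx1')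
  have ta : t ≠ a := by
    rintro rfl
    exact ir (F.partner_unique hD hxh hxq hit.symm na hxt' hx2)
  have tr : t ≠ s a := by
    rintro rfl
    exact ia (F.partner_unique hD hxh hxq hit.symm na.symm hxt' hx2')
  have si0 : s i ≠ 0 := fun hh => ij (by rw [← hh, (hs i).2])
  have sij : s i ≠ s 0 := fun hh => i0 (by rw [← (hs i).2, hh, (hs 0).2])
  have sia : s i ≠ a := fun hh => ir (by rw [← hh, (hs i).2])
  have sir : s i ≠ s a := fun hh => ia (by rw [← (hs i).2, hh, (hs a).2])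
  have sii : s i ≠ i := (hs i).1
  have : t = s i := by
    by_contra hts
    have hc : ({0, s 0, a, s a, i, t, s i} : Finset (Fin 6)).card = 7 := by
      rw [Finset.card_insert_of_notMem, Finset.card_insert_of_notMem, Finset.card_insert_of_notMem,
        Finset.card_insert_of_notMem, Finset.card_insert_of_notMem, Finset.card_insert_of_notMem,
        Finset.card_singleton]
      all_goals simp only [Finset.mem_insert, Finset.mem_singleton, not_or]
      · exact hts
      · exact ⟨hit, sii.symm⟩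
      · exact ⟨Ne.symm ir, tr.symm, sir.symm⟩
      · exact ⟨na, Ne.symm ia, ta.symm, sia.symm⟩
      · exact ⟨Ne.symm haj, hrj.symm, Ne.symm ij, tj.symm, sij.symm⟩
      · exact ⟨n0, Ne.symm ha0, hr0.symm, Ne.symm i0, t0.symm, si0.symm⟩
    have := Finset.card_le_univ ({0, s 0, a, s a, i, t, s i} : Finset (Fin 6))
    rw [hc, Fintype.card_fin] at this
    omega
  rw [← this]
  exact hxt

/-- The labelling of the points of a Steiner system S(3, 6, 22). -/
theorem exists_label (hα : Fintype.card α = 22) (F : Frame B h q) :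
    ∃ e : Fin 22 ≃ α, (ofMask 22 hexMask).map e.toEmbedding ∈ B ∧
      ∀ i j, i ≠ j → (ofMask 22 (duadMask i j)).map e.toEmbedding ∈ B := by
  obtain ⟨D, hD⟩ := F.exists_D
  have hP := fun k : Fin 15 => F.exists_point hD (M k) (M_invol k)
  choose P hP1 hP2 hP3 using hP
  have hPinj : Function.Injective P := by
    intro k l hkl
    apply M_inj
    intro i
    have h1 := hP3 l i
    rw [← hkl] at h1
    exact F.partner_unique hD (hP1 k) (hP2 k) (M_invol k i).1.symm (M_invol l i).1.symm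
      (hP3 k i) h1
  have hinj : Function.Injective (fun x => lab h q P (orig x)) :=
    (lab_inj F.inj hPinj F.hq hP2 (fun k i => (hP1 k i).symm)).comp orig_inj
  have hbij : Function.Bijective (fun x => lab h q P (orig x)) := by
    rw [Fintype.bijective_iff_injective_and_card]
    exact ⟨hinj, by rw [Fintype.card_fin, hα]⟩
  refine ⟨Equiv.ofBijective _ hbij, ?_, ?_⟩
  · have : (ofMask 22 hexMask).map (Equiv.ofBijective _ hbij).toEmbedding = Finset.univ.image h := by
      apply Finset.eq_of_subset_of_card_le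
      · intro y hy
        obtain ⟨x, hx, rfl⟩ := Finset.mem_map.1 hy
        rw [mem_ofMask] at hx
        have h6 := hexMask_spec.2 x hx
        show lab h q P (orig x) ∈ _
        rw [lab, dif_pos h6]
        exact F.mem_b0 _
      · rw [Finset.card_map, card_ofMask, hexMask_spec.1, Finset.card_image_of_injective _ F.inj,
          Finset.card_univ, Fintype.card_fin]
    rw [this]
    exact F.hb
  · intro i j hij
    obtain ⟨d1, d2, d3, d4⟩ := hD i j hij
    obtain ⟨m1, m2⟩ := duadMask_spec i j hij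
    have : (ofMask 22 (duadMask i j)).map (Equiv.ofBijective _ hbij).toEmbedding = D i j := by
      apply Finset.eq_of_subset_of_card_le
      · intro y hy
        obtain ⟨x, hx, rfl⟩ := Finset.mem_map.1 hy
        rw [mem_ofMask] at hx
        obtain ⟨h6, h7⟩ := m2 x hx
        show lab h q P (orig x) ∈ _
        unfold lab
        split_ifs with c1 c2
        · rcases h6 c1 with hh | hh
          · rw [hh]; exact d2
          · rw [hh]; exact d3
        · exact d4
        · have := hP3 ⟨(orig x : ℕ) - 7, by omega⟩ i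
          rw [h7 c2] at this
          exact this
      · rw [Finset.card_map, card_ofMask, m1, F.st.1 _ d1]
    rw [this]
    exact d1

end Cfsg.Agent.SporadicA.Steiner22
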