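import Mathlib
import Cfsg.Prelude.Def_Sporadic_a
set_option linter.all false

-- part: SporadicA/MaskSearch
section
/-!
A small kernel-friendly exhaustive search over bit masks: all masks `M < 2 ^ N` of a given weight
satisfying given parity constraints satisfy a Boolean goal.
-/

set_option autoImplicit false

namespace Cfsg.Agent.SporadicA.MaskSearch

open Finset

/-- Parity of the number of ones of `m` at the positions in the list. -/
def px (m : ℕ) : List ℕ → Bool :=
  List.rec false (fun k _ ih => xor (Nat.testBit m k) ih)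

theorem px_nil (m : ℕ) : px m [] = false := rfl
theorem px_cons (m k : ℕ) (K : List ℕ) : px m (k :: K) = xor (Nat.testBit m k) (px m K) := rfl

theorem px_congr (m m' : ℕ) (K : List ℕ) (h : ∀ k ∈ K, m.testBit k = m'.testBit k) :
    px m K = px m' K := by
  induction K with
  | nil => rfl
  | cons k K ih =>
    rw [px_cons, px_cons, h k (by simp), ih (fun j hj => h j (by simp [hj]))]

/-- `px` only depends on the bits below `n` if all positions are below `n`. -/
theorem px_mod (m n : ℕ) (K : List ℕ) (h : ∀ k ∈ K, k < n) : px (m % 2 ^ n) K = px m K := by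
  apply px_congr
  intro k hk
  rw [Nat.testBit_mod_two_pow]
  simp [h k hk]

/-- Check all the parity constraints of a list. -/
def ok (m : ℕ) : List (Bool × List ℕ) → Bool :=
  List.rec true (fun c _ ih => (px m c.2 == c.1) && ih)

theorem ok_iff (m : ℕ) (cs : List (Bool × List ℕ)) :
    ok m cs = true ↔ ∀ c ∈ cs, px m c.2 = c.1 := by
  induction cs with
  | nil => simp [ok]
  | cons c cs ih =>
    have : ok m (c :: cs) = ((px m c.2 == c.1) && ok m cs) := rfl
    rw [this, Bool.and_eq_true, ih]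
    simp

/-- Evaluation forcing combinator (makes the kernel compute the number first). -/
def force {β : Type} (n : ℕ) (f : ℕ → β) : β := Nat.rec (f 0) (fun k _ => f (k + 1)) n

theorem force_eq {β : Type} (n : ℕ) (f : ℕ → β) : force n f = f n := by
  cases n <;> rfl

/-- The search. `p = 2 ^ n` where `n` is the current position, `m` the current partial mask,
`w` the number of ones still to be placed. -/
def srch (goal : ℕ → Bool) : List (List (Bool × List ℕ)) → ℕ → ℕ → ℕ → Bool :=
  List.rec (fun _ m w => !(Nat.beq w 0) || goal m)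
    (fun cs _ ih p m w =>
      (!(ok m cs) || force (2 * p) (fun p' => ih p' m w)) &&
      (Nat.beq w 0 || force (m + p) (fun m' => !(ok m' cs) ||
        force (2 * p) (fun p' => force (w - 1) (fun w' => ih p' m' w')))))

theorem srch_nil (goal : ℕ → Bool) (p m w : ℕ) :
    srch goal [] p m w = (!(Nat.beq w 0) || goal m) := rfl

theorem srch_cons (goal : ℕ → Bool) (cs : List (Bool × List ℕ))
    (L : List (List (Bool × List ℕ))) (p m w : ℕ) :
    srch goal (cs :: L) p m w =
      ((!(ok m cs) || srch goal L (2 * p) m w) &&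
      (Nat.beq w 0 || (!(ok (m + p) cs) || srch goal L (2 * p) (m + p) (w - 1)))) := by
  have : srch goal (cs :: L) p m w =
      ((!(ok m cs) || force (2 * p) (fun p' => srch goal L p' m w)) &&
      (Nat.beq w 0 || force (m + p) (fun m' => !(ok m' cs) ||
        force (2 * p) (fun p' => force (w - 1) (fun w' => srch goal L p' m' w'))))) := rfl
  rw [this]
  simp only [force_eq]

/-- The constraints hold level by level. -/
def Holds (M : ℕ) : List (List (Bool × List ℕ)) → ℕ → Prop
  | [], _ => True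
  | cs :: L, n => (∀ c ∈ cs, px (M % 2 ^ (n + 1)) c.2 = c.1) ∧ Holds M L (n + 1)

theorem mod_two_pow_succ' (M n : ℕ) :
    M % 2 ^ (n + 1) = M % 2 ^ n + (M.testBit n).toNat * 2 ^ n := by
  rw [Nat.mod_pow_succ, Nat.toNat_testBit, Nat.mul_comm]

theorem srch_sound_aux (goal : ℕ → Bool) (M : ℕ) :
    ∀ (L : List (List (Bool × List ℕ))) (n w : ℕ),
      srch goal L (2 ^ n) (M % 2 ^ n) w = true → M < 2 ^ (n + L.length) →
      (∑ i ∈ range L.length, (M.testBit (n + i)).toNat) = w → Holds M L n → goal M = true := by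
  intro L
  induction L with
  | nil =>
    intro n w h hM hw _
    simp only [List.length_nil, range_zero, sum_empty] at hw
    subst hw
    rw [srch_nil] at h
    simp only [List.length_nil, Nat.add_zero] at hM
    rw [Nat.mod_eq_of_lt hM] at h
    simpa using h
  | cons cs L ih =>
    intro n w h hM hw hH
    obtain ⟨h1, h2⟩ := hH
    rw [srch_cons, Bool.and_eq_true] at h
    obtain ⟨ha, hb⟩ := h
    rw [List.length_cons, sum_range_succ'] at hw
    have hM' : M < 2 ^ (n + 1 + L.length) := by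
      rw [List.length_cons] at hM
      rwa [show n + 1 + L.length = n + (L.length + 1) by ring]
    have hs : ∀ i, M.testBit (n + (i + 1)) = M.testBit (n + 1 + i) := by
      intro i; congr 1; ring
    simp only [hs, Nat.add_zero] at hw
    have hp : 2 * 2 ^ n = 2 ^ (n + 1) := by rw [pow_succ]; ring
    cases hbit : M.testBit n with
    | false =>
      have hm : M % 2 ^ (n + 1) = M % 2 ^ n := by
        rw [mod_two_pow_succ', hbit]; simp
      rw [hbit] at hw
      simp only [Bool.toNat_false, Nat.add_zero] at hw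
      rw [hm] at h1
      have hok : ok (M % 2 ^ n) cs = true := (ok_iff _ _).2 h1
      rw [hok, hp, ← hm] at ha
      simp only [Bool.not_true, Bool.false_or] at ha
      exact ih (n + 1) w ha hM' hw h2
    | true =>
      have hm : M % 2 ^ (n + 1) = M % 2 ^ n + 2 ^ n := by
        rw [mod_two_pow_succ', hbit]; simp
      rw [hbit] at hw
      simp only [Bool.toNat_true] at hw
      rw [hm] at h1
      have hok : ok (M % 2 ^ n + 2 ^ n) cs = true := (ok_iff _ _).2 h1
      rw [hok, hp, ← hm] at hb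
      have hw0 : Nat.beq w 0 = false := by
        rw [← Bool.not_eq_true, Nat.beq_eq]
        omega
      rw [hw0] at hb
      simp only [Bool.not_true, Bool.false_or] at hb
      exact ih (n + 1) (w - 1) hb hM' (by omega) h2

/-- The constraints of a list sorted by their largest position. -/
def levels (cs : List (Bool × List ℕ)) (N : ℕ) : List (List (Bool × List ℕ)) :=
  (List.range N).map fun n =>
    cs.filter fun c => (c.2.contains n) && (c.2.all fun k => Nat.ble k n)

theorem holds_of_forall (M : ℕ) (cs : List (Bool × List ℕ)) (h : ∀ c ∈ cs, px M c.2 = c.1) :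
    ∀ (L : List (List (Bool × List ℕ))) (n : ℕ),
      (∀ i, ∀ hi : i < L.length, ∀ c ∈ L[i], c ∈ cs ∧ ∀ k ∈ c.2, k ≤ n + i) → Holds M L n := by
  intro L
  induction L with
  | nil => intro n _; trivial
  | cons l L ih =>
    intro n hL
    refine ⟨?_, ih (n + 1) ?_⟩
    · intro c hc
      have := hL 0 (by simp) c (by simpa using hc)
      rw [px_mod _ _ _ (fun k hk => Nat.lt_succ_of_le (by simpa using this.2 k hk))]
      exact h c this.1
    · intro i hi c hc
      have := hL (i + 1) (by simpa using hi) c (by simpa using hc)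
      refine ⟨this.1, fun k hk => ?_⟩
      have := this.2 k hk
      omega

theorem holds_levels (M : ℕ) (cs : List (Bool × List ℕ)) (N : ℕ)
    (h : ∀ c ∈ cs, px M c.2 = c.1) : Holds M (levels cs N) 0 := by
  apply holds_of_forall M cs h
  intro i hi c hc
  simp only [levels, List.getElem_map, List.getElem_range, List.mem_filter, Bool.and_eq_true,
    List.all_eq_true, Nat.ble_eq] at hc
  exact ⟨hc.1, fun k hk => by simpa using hc.2.2 k hk⟩

/-- Soundness of the search. -/
theorem srch_sound (goal : ℕ → Bool) (cs : List (Bool × List ℕ)) (N w : ℕ)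
    (L : List (List (Bool × List ℕ))) (hL : levels cs N = L)
    (hs : srch goal L 1 0 w = true) (M : ℕ) (hM : M < 2 ^ N)
    (hw : (∑ i ∈ range N, (M.testBit i).toNat) = w)
    (h : ∀ c ∈ cs, px M c.2 = c.1) : goal M = true := by
  have hlen : L.length = N := by rw [← hL]; simp [levels]
  refine srch_sound_aux goal M L 0 w (by simpa [Nat.mod_one] using hs) (by simpa [hlen] using hM) ?_
    (hL ▸ holds_levels M cs N h)
  rw [hlen]
  simpa using hw

end Cfsg.Agent.SporadicA.MaskSearch
end

-- part: SporadicA/SteinerOn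
section
/-!
Steiner systems on a finite ground set `V`, their derived designs, the number of blocks, and the
bit mask of a set of points relative to a labelling `e : Fin n → α`.
-/

set_option autoImplicit false

namespace Cfsg.Agent.SporadicA.SteinerOn

open Finset Cfsg.Agent.SporadicA.MaskSearch

variable {α : Type*} [DecidableEq α]

/-- `B` is a Steiner system `S(t, k, |V|)` on the ground set `V`. -/
structure IsSteinerOn (V : Finset α) (t k : ℕ) (B : Set (Finset α)) : Prop where
  sub : ∀ b ∈ B, b ⊆ V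
  card : ∀ b ∈ B, b.card = k
  ex : ∀ s : Finset α, s ⊆ V → s.card = t → ∃ b ∈ B, s ⊆ b
  uniq : ∀ b ∈ B, ∀ c ∈ B, t ≤ (b ∩ c).card → b = c

theorem isSteinerOn_univ [Fintype α] {t k : ℕ} {B : Set (Finset α)}
    (h : Cfsg.IsSteinerSystem t k B) : IsSteinerOn univ t k B where
  sub := fun b _ => subset_univ b
  card := h.1
  ex := fun s _ hs => by
    obtain ⟨b, hb, _⟩ := h.2 s hs
    exact ⟨b, hb.1, hb.2⟩
  uniq := fun b hb c hc hbc => by
    obtain ⟨s, hs, hcard⟩ := exists_subset_card_eq hbc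
    exact (h.2 s hcard).unique ⟨hb, hs.trans inter_subset_left⟩ ⟨hc, hs.trans inter_subset_right⟩

theorem IsSteinerOn.isSteinerSystem [Fintype α] {t k : ℕ} {B : Set (Finset α)}
    (h : IsSteinerOn univ t k B) : Cfsg.IsSteinerSystem t k B := by
  refine ⟨h.card, fun s hs => ?_⟩
  obtain ⟨b, hb, hsb⟩ := h.ex s (subset_univ s) hs
  refine ⟨b, ⟨hb, hsb⟩, fun c hc => ?_⟩
  apply h.uniq c hc.1 b hb
  rw [← hs]
  exact card_le_card (subset_inter hc.2 hsb)

/-- The derived design at a point `x`. -/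
def derived (B : Set (Finset α)) (x : α) : Set (Finset α) := {c | x ∉ c ∧ insert x c ∈ B}

theorem mem_derived {B : Set (Finset α)} {x : α} {c : Finset α} :
    c ∈ derived B x ↔ x ∉ c ∧ insert x c ∈ B := Iff.rfl

theorem IsSteinerOn.derived {V : Finset α} {t k : ℕ} {B : Set (Finset α)}
    (h : IsSteinerOn V (t + 1) (k + 1) B) {x : α} (hx : x ∈ V) :
    IsSteinerOn (V.erase x) t k (derived B x) where
  sub := by
    rintro b ⟨hxb, hb⟩ y hy
    rw [mem_erase]
    exact ⟨fun he => hxb (he ▸ hy), h.sub _ hb (mem_insert_of_mem hy)⟩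
  card := by
    rintro b ⟨hxb, hb⟩
    have := h.card _ hb
    rw [card_insert_of_notMem hxb] at this
    omega
  ex := by
    intro s hs hcard
    have hxs : x ∉ s := fun hxs => by simpa using hs hxs
    obtain ⟨b, hb, hsb⟩ := h.ex (insert x s)
      (insert_subset hx (hs.trans (erase_subset x V))) (by rw [card_insert_of_notMem hxs, hcard])
    refine ⟨b.erase x, ⟨notMem_erase x b, ?_⟩, ?_⟩
    · rwa [insert_erase (hsb (mem_insert_self x s))]
    · intro y hy
      rw [mem_erase]
      exact ⟨fun he => hxs (he ▸ hy), hsb (mem_insert_of_mem hy)⟩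
  uniq := by
    rintro b ⟨hxb, hb⟩ c ⟨hxc, hc⟩ hbc
    have h1 : insert x b = insert x c := by
      apply h.uniq _ hb _ hc
      rw [← insert_inter_distrib, card_insert_of_notMem (fun hh => hxb (mem_inter.1 hh).1)]
      omega
    have h2 := congrArg (fun s => s.erase x) h1
    simpa [erase_insert hxb, erase_insert hxc] using h2

open Classical in
theorem IsSteinerOn.card_blocks {V : Finset α} {t k : ℕ} {B : Set (Finset α)}
    (h : IsSteinerOn V t k B) :
    (V.powerset.filter (fun b => b ∈ B)).card * k.choose t = V.card.choose t := by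
  have h1 : V.powersetCard t =
      (V.powerset.filter (fun b => b ∈ B)).biUnion (fun b => b.powersetCard t) := by
    ext s
    simp only [mem_powersetCard, mem_biUnion, mem_filter, mem_powerset]
    constructor
    · rintro ⟨hs, hcard⟩
      obtain ⟨b, hb, hsb⟩ := h.ex s hs hcard
      exact ⟨b, ⟨h.sub b hb, hb⟩, hsb, hcard⟩
    · rintro ⟨b, ⟨hbV, _⟩, hsb, hcard⟩
      exact ⟨hsb.trans hbV, hcard⟩
  rw [← card_powersetCard t V, h1, card_biUnion]
  · rw [sum_congr rfl (g := fun _ => k.choose t), sum_const, smul_eq_mul]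
    intro b hb
    rw [card_powersetCard, h.card b (mem_filter.1 hb).2]
  · intro b hb c hc hbc
    rw [Function.onFun, disjoint_left]
    intro s hs hs'
    rw [mem_powersetCard] at hs hs'
    apply hbc
    apply h.uniq b (mem_filter.1 hb).2 c (mem_filter.1 hc).2
    rw [← hs.2]
    exact card_le_card (subset_inter hs.1 hs'.1)

theorem IsSteinerOn.inter_lt {V : Finset α} {t k : ℕ} {B : Set (Finset α)}
    (h : IsSteinerOn V t k B) {b c : Finset α} (hb : b ∈ B) (hc : c ∈ B) (hbc : b ≠ c) :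
    (b ∩ c).card < t := by
  by_contra hn
  exact hbc (h.uniq b hb c hc (not_lt.1 hn))

/-! ### Masks -/

/-- The mask of a set of points relative to a labelling. -/
def code {n : ℕ} (e : Fin n → α) (b : Finset α) : ℕ := Nat.ofBits fun i => decide (e i ∈ b)

theorem code_lt {n : ℕ} (e : Fin n → α) (b : Finset α) : code e b < 2 ^ n :=
  Nat.ofBits_lt_two_pow _

theorem testBit_code {n : ℕ} (e : Fin n → α) (b : Finset α) (i : Fin n) :
    (code e b).testBit i = decide (e i ∈ b) := by
  rw [code, Nat.testBit_ofBits_lt _ _ i.2]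

theorem testBit_code_ge {n : ℕ} (e : Fin n → α) (b : Finset α) (i : ℕ) (hi : n ≤ i) :
    (code e b).testBit i = false := by
  rw [code, Nat.testBit_ofBits_ge _ _ hi]

theorem code_congr {n : ℕ} {e e' : Fin n → α} {b b' : Finset α}
    (h : ∀ i, e i ∈ b ↔ e' i ∈ b') : code e b = code e' b' := by
  unfold code
  congr 1
  funext i
  simp [h i]

theorem code_inj {n : ℕ} {e : Fin n → α} {b c : Finset α} (hb : ∀ x ∈ b, ∃ i, e i = x)
    (hc : ∀ x ∈ c, ∃ i, e i = x) (h : code e b = code e c) : b = c := by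
  have key : ∀ i, e i ∈ b ↔ e i ∈ c := by
    intro i
    have h1 := testBit_code e b i
    have h2 := testBit_code e c i
    rw [h, h2] at h1
    simpa using h1.symm
  ext x
  constructor
  · intro hx
    obtain ⟨i, rfl⟩ := hb x hx
    exact (key i).1 hx
  · intro hx
    obtain ⟨i, rfl⟩ := hc x hx
    exact (key i).2 hx

theorem sum_code {n : ℕ} {e : Fin n → α} (he : Function.Injective e) {b : Finset α}
    (hb : ∀ x ∈ b, ∃ i, e i = x) : (∑ i ∈ range n, ((code e b).testBit i).toNat) = b.card := by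
  rw [Finset.sum_range]
  simp only [testBit_code]
  have h1 : ∀ i : Fin n, (decide (e i ∈ b)).toNat = if e i ∈ b then 1 else 0 := by
    intro i
    by_cases h : e i ∈ b <;> simp [h]
  simp only [h1]
  rw [← card_filter]
  have h2 : b = (univ.filter (fun i => e i ∈ b)).image e := by
    ext x
    simp only [mem_image, mem_filter, mem_univ, true_and]
    constructor
    · intro hx
      obtain ⟨i, rfl⟩ := hb x hx
      exact ⟨i, hx, rfl⟩
    · rintro ⟨i, hi, rfl⟩
      exact hi
  conv_rhs => rw [h2]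
  rw [card_image_of_injective _ he]

theorem px_code {n : ℕ} {e : Fin n → α} (he : Function.Injective e) (b : Finset α)
    (K : List (Fin n)) (hK : K.Nodup) :
    px (code e b) (K.map Fin.val) = decide (Odd (((K.map e).toFinset ∩ b).card)) := by
  induction K with
  | nil => simp [px_nil]
  | cons k K ih =>
    rw [List.nodup_cons] at hK
    rw [List.map_cons, px_cons, testBit_code, ih hK.2, List.map_cons, List.toFinset_cons]
    have hk : e k ∉ (K.map e).toFinset := by
      rw [List.mem_toFinset, List.mem_map]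
      rintro ⟨j, hj, hjk⟩
      exact hK.1 (he hjk ▸ hj)
    by_cases h : e k ∈ b
    · rw [insert_inter_of_mem h, card_insert_of_notMem (fun hh => hk (mem_inter.1 hh).1)]
      simp only [h, decide_true, Bool.true_xor]
      rw [← decide_not]
      exact decide_eq_decide.2 Nat.odd_add_one.symm
    · rw [insert_inter_of_notMem h]
      simp [h]

/-- The set of points with labels in a list. -/
theorem mem_map_toFinset {n : ℕ} (e : Fin n → α) (K : List (Fin n)) (x : α) :
    x ∈ (K.map e).toFinset ↔ ∃ k ∈ K, e k = x := by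
  rw [List.mem_toFinset, List.mem_map]

theorem card_map_toFinset {n : ℕ} {e : Fin n → α} (he : Function.Injective e) (K : List (Fin n))
    (hK : K.Nodup) : (K.map e).toFinset.card = K.length := by
  rw [List.toFinset_card_of_nodup (hK.map he), List.length_map]

end Cfsg.Agent.SporadicA.SteinerOn
end

-- part: SporadicA/S36
section
/-!
Strong uniqueness of the Steiner system `S(3, 6, 22)`.

A *frame* is an ordering `a : Fin 6 → α` of a hexad together with a point `o` outside of it.
The remaining 15 points are labelled canonically by the 15 perfect matchings of `Fin 6`.  Relative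
to this labelling `e : Fin 22 → α` the hexads are exactly the sets whose mask lies in the fixed list
`hexads22`.
-/

set_option autoImplicit false

namespace Cfsg.Agent.SporadicA.S36

open Finset Function Cfsg.Agent.SporadicA.MaskSearch Cfsg.Agent.SporadicA.SteinerOn

variable {α : Type*} [DecidableEq α] {V : Finset α} {B : Set (Finset α)}

theorem ex3 (h : IsSteinerOn V 3 6 B) {x y z : α} (hx : x ∈ V) (hy : y ∈ V) (hz : z ∈ V)
    (hxy : x ≠ y) (hxz : x ≠ z) (hyz : y ≠ z) : ∃ b ∈ B, x ∈ b ∧ y ∈ b ∧ z ∈ b := by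
  obtain ⟨b, hb, hs⟩ := h.ex {x, y, z} (by
    intro u hu
    simp only [mem_insert, mem_singleton] at hu
    rcases hu with rfl | rfl | rfl <;> assumption)
    (card_eq_three.2 ⟨x, y, z, hxy, hxz, hyz, rfl⟩)
  exact ⟨b, hb, hs (by simp), hs (by simp), hs (by simp)⟩

theorem uniq3 (h : IsSteinerOn V 3 6 B) {b c : Finset α} (hb : b ∈ B) (hc : c ∈ B) {x y z : α}
    (hxy : x ≠ y) (hxz : x ≠ z) (hyz : y ≠ z) (b1 : x ∈ b) (b2 : y ∈ b) (b3 : z ∈ b)
    (c1 : x ∈ c) (c2 : y ∈ c) (c3 : z ∈ c) : b = c := by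
  apply h.uniq b hb c hc
  rw [← card_eq_three.2 ⟨x, y, z, hxy, hxz, hyz, rfl⟩]
  apply card_le_card
  intro u hu
  simp only [mem_insert, mem_singleton] at hu
  rw [mem_inter]
  rcases hu with rfl | rfl | rfl <;> constructor <;> assumption

theorem inter_ne_one (hV : V.card = 22) (h : IsSteinerOn V 3 6 B) {b c : Finset α}
    (hb : b ∈ B) (hc : c ∈ B) : (b ∩ c).card ≠ 1 := by
  intro h1
  obtain ⟨p, hp⟩ := card_eq_one.1 h1
  have hpbc : p ∈ b ∩ c := by rw [hp]; simp
  obtain ⟨hpb, hpc⟩ := mem_inter.1 hpbc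
  obtain ⟨x, hxc, hxp⟩ : ∃ x ∈ c, x ≠ p := by
    have : 1 < c.card := by rw [h.card c hc]; norm_num
    exact exists_mem_ne this p
  have hxb : x ∉ b := by
    intro hxb
    have : x ∈ b ∩ c := mem_inter.2 ⟨hxb, hxc⟩
    rw [hp, mem_singleton] at this
    exact hxp this
  have hV' := h.sub
  have hf : ∀ q ∈ b.erase p, ∃ d ∈ B, p ∈ d ∧ q ∈ d ∧ x ∈ d := by
    intro q hq
    rw [mem_erase] at hq
    exact ex3 h (h.sub b hb hpb) (h.sub b hb hq.2) (h.sub c hc hxc) hq.1.symm hxp.symm
      (fun hh => hxb (hh ▸ hq.2))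
  choose! f hfB hfp hfq hfx using hf
  have hinj : Set.InjOn f ↑(b.erase p) := by
    intro q hq q' hq' hqq
    by_contra hne
    have hq1 := mem_erase.1 hq
    have hq1' := mem_erase.1 hq'
    have : f q = b := uniq3 h (hfB q hq) hb hq1.1.symm hq1'.1.symm hne (hfp q hq) (hfq q hq)
      (by rw [hqq]; exact hfq q' hq') hpb hq1.2 hq1'.2
    exact hxb (this ▸ hfx q hq)
  have hcn : c ∉ (b.erase p).image f := by
    rw [mem_image]
    rintro ⟨q, hq, hqc⟩
    have hq1 := mem_erase.1 hq
    have : q ∈ b ∩ c := mem_inter.2 ⟨hq1.2, hqc ▸ hfq q hq⟩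
    rw [hp, mem_singleton] at this
    exact hq1.1 this
  have hT : (insert c ((b.erase p).image f)).card = 6 := by
    rw [card_insert_of_notMem hcn, card_image_of_injOn hinj, card_erase_of_mem hpb, h.card b hb]
  have hTB : ∀ d ∈ insert c ((b.erase p).image f), d ∈ B ∧ p ∈ d ∧ x ∈ d := by
    intro d hd
    rw [mem_insert, mem_image] at hd
    rcases hd with rfl | ⟨q, hq, rfl⟩
    · exact ⟨hc, hpc, hxc⟩
    · exact ⟨hfB q hq, hfp q hq, hfx q hq⟩
  have hcard : ((insert c ((b.erase p).image f)).biUnion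
      (fun d => d \ {p, x})).card = 24 := by
    rw [card_biUnion]
    · rw [sum_congr rfl (g := fun _ => 4), sum_const, hT]
      · rfl
      · intro d hd
        obtain ⟨hdB, hpd, hxd⟩ := hTB d hd
        rw [card_sdiff_of_subset, h.card d hdB, card_pair hxp.symm]
        intro u hu
        simp only [mem_insert, mem_singleton] at hu
        rcases hu with rfl | rfl <;> assumption
    · intro d hd d' hd' hne
      rw [Function.onFun, disjoint_left]
      intro u hu hu'
      obtain ⟨hdB, hpd, hxd⟩ := hTB d hd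
      obtain ⟨hdB', hpd', hxd'⟩ := hTB d' hd'
      simp only [mem_sdiff, mem_insert, mem_singleton, not_or] at hu hu'
      exact hne (uniq3 h hdB hdB' hxp.symm (Ne.symm hu.2.1) (Ne.symm hu.2.2) hpd hxd hu.1
        hpd' hxd' hu'.1)
  have hsub : (insert c ((b.erase p).image f)).biUnion (fun d => d \ {p, x}) ⊆ V \ {p, x} := by
    intro u hu
    rw [mem_biUnion] at hu
    obtain ⟨d, hd, hud⟩ := hu
    rw [mem_sdiff] at hud ⊢
    exact ⟨h.sub d (hTB d hd).1 hud.1, hud.2⟩
  have := card_le_card hsub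
  rw [hcard, card_sdiff_of_subset, hV, card_pair hxp.symm] at this
  · omega
  · intro u hu
    simp only [mem_insert, mem_singleton] at hu
    rcases hu with rfl | rfl
    · exact h.sub b hb hpb
    · exact h.sub c hc hxc

theorem inter_even (hV : V.card = 22) (h : IsSteinerOn V 3 6 B) {b c : Finset α}
    (hb : b ∈ B) (hc : c ∈ B) : Even (b ∩ c).card := by
  by_cases hbc : b = c
  · subst hbc
    rw [inter_self, h.card b hb]
    decide
  · have h1 := h.inter_lt hb hc hbc
    have h2 := inter_ne_one hV h hb hc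
    interval_cases (b ∩ c).card <;> first | decide | exact absurd rfl h2

/-! ### Frames -/

/-- An ordered hexad and a point outside. -/
structure Frame (V : Finset α) (B : Set (Finset α)) (a : Fin 6 → α) (o : α) : Prop where
  inj : Injective a
  mem : univ.image a ∈ B
  ho : o ∈ V
  hno : ∀ i, a i ≠ o

theorem Frame.aV (h : IsSteinerOn V 3 6 B) {a : Fin 6 → α} {o : α} (F : Frame V B a o)
    (i : Fin 6) : a i ∈ V :=
  h.sub _ F.mem (mem_image_of_mem a (mem_univ i))

/-- A block through `o` and `a i` meets the hexad in exactly one further point. -/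
theorem Frame.meet (hV : V.card = 22) (h : IsSteinerOn V 3 6 B) {a : Fin 6 → α} {o : α}
    (F : Frame V B a o) {b : Finset α} (hb : b ∈ B) (ho : o ∈ b) {i : Fin 6} (hi : a i ∈ b) :
    ∃ j, j ≠ i ∧ a j ∈ b ∧ ∀ k, a k ∈ b → k = i ∨ k = j := by
  have hne : b ≠ univ.image a := by
    intro he
    rw [he, mem_image] at ho
    obtain ⟨j, _, hj⟩ := ho
    exact F.hno j hj
  have hJ : (univ.filter (fun k => a k ∈ b)).card = (b ∩ univ.image a).card := by
    rw [← card_image_of_injective _ F.inj]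
    congr 1
    ext x
    simp only [mem_image, mem_filter, mem_univ, true_and, mem_inter]
    constructor
    · rintro ⟨k, hk, rfl⟩
      exact ⟨hk, k, rfl⟩
    · rintro ⟨hx, k, rfl⟩
      exact ⟨k, hx, rfl⟩
  have hlt := h.inter_lt hb F.mem hne
  have hev := inter_even hV h hb F.mem
  have hpos : 0 < (univ.filter (fun k => a k ∈ b)).card :=
    card_pos.2 ⟨i, by simp [hi]⟩
  have h2 : (univ.filter (fun k => a k ∈ b)).card = 2 := by
    rw [← hJ] at hlt hev
    obtain ⟨r, hr⟩ := hev
    omega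
  obtain ⟨u, v, huv, hset⟩ := card_eq_two.1 h2
  have hmem : ∀ k, a k ∈ b ↔ k = u ∨ k = v := by
    intro k
    have : k ∈ univ.filter (fun k => a k ∈ b) ↔ k ∈ ({u, v} : Finset (Fin 6)) := by rw [hset]
    simpa using this
  rcases (hmem i).1 hi with rfl | rfl
  · exact ⟨v, huv.symm, (hmem v).2 (Or.inr rfl), fun k hk => (hmem k).1 hk⟩
  · exact ⟨u, huv, (hmem u).2 (Or.inl rfl), fun k hk => ((hmem k).1 hk).symm⟩

/-- The point `x` carries the matching `s`. -/
def Lab (B : Set (Finset α)) (a : Fin 6 → α) (o x : α) (s : Fin 6 → Fin 6) : Prop :=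
  ∀ i, s i ≠ i ∧ ∃ b ∈ B, a i ∈ b ∧ a (s i) ∈ b ∧ o ∈ b ∧ x ∈ b

theorem Frame.exists_lab (hV : V.card = 22) (h : IsSteinerOn V 3 6 B) {a : Fin 6 → α} {o : α}
    (F : Frame V B a o) {x : α} (hx : x ∈ V) (hxo : x ≠ o) (hxa : ∀ i, a i ≠ x) :
    ∃ s, Lab B a o x s := by
  have : ∀ i, ∃ j, j ≠ i ∧ ∃ b ∈ B, a i ∈ b ∧ a j ∈ b ∧ o ∈ b ∧ x ∈ b := by
    intro i
    obtain ⟨b, hb, h1, h2, h3⟩ := ex3 h (F.aV h i) F.ho hx (F.hno i) (hxa i) hxo.symm
    obtain ⟨j, hji, hj, _⟩ := F.meet hV h hb h2 h1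
    exact ⟨j, hji, b, hb, h1, hj, h2, h3⟩
  choose s hs using this
  exact ⟨s, hs⟩

theorem Frame.lab_invol (hV : V.card = 22) (h : IsSteinerOn V 3 6 B) {a : Fin 6 → α} {o : α}
    (F : Frame V B a o) {x : α} (hxo : x ≠ o) (hxa : ∀ i, a i ≠ x)
    {s : Fin 6 → Fin 6} (hs : Lab B a o x s) (i : Fin 6) : s (s i) = i := by
  obtain ⟨h0, b, hb, h1, h2, h3, h4⟩ := hs i
  obtain ⟨h0', c, hc, h1', h2', h3', h4'⟩ := hs (s i)
  have hbc : b = c := uniq3 h hb hc (F.hno (s i)) (hxa (s i)) hxo.symm h2 h3 h4 h1' h3' h4'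
  subst hbc
  obtain ⟨j, hji, hj, hk⟩ := F.meet hV h hb h3 h1
  have e1 : s i = j := (hk _ h2).resolve_left h0
  rcases hk _ h2' with h5 | h5
  · exact h5
  · exact absurd (h5.trans e1.symm) h0'

theorem Frame.lab_inj (hV : V.card = 22) (h : IsSteinerOn V 3 6 B) {a : Fin 6 → α} {o : α}
    (F : Frame V B a o) {x y : α} (hxo : x ≠ o) (hyo : y ≠ o)
    {s : Fin 6 → Fin 6} (hs : Lab B a o x s) (hs' : Lab B a o y s) : x = y := by
  by_contra hxy
  have key : ∀ i, ∃ b ∈ B, a i ∈ b ∧ a (s i) ∈ b ∧ o ∈ b ∧ x ∈ b ∧ y ∈ b := by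
    intro i
    obtain ⟨h0, b, hb, h1, h2, h3, h4⟩ := hs i
    obtain ⟨_, c, hc, h1', h2', h3', h4'⟩ := hs' i
    have hbc : b = c := uniq3 h hb hc (fun hh => h0 (F.inj hh).symm) (F.hno i) (F.hno (s i))
      h1 h2 h3 h1' h2' h3'
    subst hbc
    exact ⟨b, hb, h1, h2, h3, h4, h4'⟩
  obtain ⟨b, hb, h1, h2, h3, h4, h5⟩ := key 0
  obtain ⟨k, hk0, hks⟩ : ∃ k : Fin 6, k ≠ 0 ∧ k ≠ s 0 := by
    generalize s 0 = t
    revert t
    decide
  obtain ⟨c, hc, h1', h2', h3', h4', h5'⟩ := key k
  have hbc : b = c := uniq3 h hb hc hxo.symm hyo.symm hxy h3 h4 h5 h3' h4' h5'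
  subst hbc
  obtain ⟨j, hji, hj, hkk⟩ := F.meet hV h hb h3 h1
  have e1 : s 0 = j := (hkk _ h2).resolve_left (hs 0).1
  rcases hkk _ h1' with h6 | h6
  · exact hk0 h6
  · exact hks (h6.trans e1.symm)

/-- The 15 perfect matchings of `Fin 6`. -/
def syn : Fin 15 → Fin 6 → Fin 6 :=
  ![![1, 0, 3, 2, 5, 4], ![1, 0, 4, 5, 2, 3], ![1, 0, 5, 4, 3, 2], ![2, 3, 0, 1, 5, 4], ![2, 4, 0,
    5, 1, 3], ![2, 5, 0, 4, 3, 1], ![3, 2, 1, 0, 5, 4], ![3, 4, 5, 0, 1, 2], ![3, 5, 4, 0, 2,
    1], ![4, 2, 1, 5, 0, 3], ![4, 3, 5, 1, 0, 2], ![4, 5, 3, 2, 0, 1], ![5, 2, 1, 4, 3, 0],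
    ![5, 3, 4, 1, 2, 0], ![5, 4, 3, 2, 1, 0]]

set_option synthInstance.maxSize 10000 in
theorem syn_surj_aux : ∀ f0 : Fin 6, f0 ≠ 0 → ∀ f1 : Fin 6, f1 ≠ 1 → (f0 = 1 ↔ f1 = 0) →
    ∀ f2 : Fin 6, f2 ≠ 2 → (f0 = 2 ↔ f2 = 0) → (f1 = 2 ↔ f2 = 1) →
    ∀ f3 : Fin 6, f3 ≠ 3 → (f0 = 3 ↔ f3 = 0) → (f1 = 3 ↔ f3 = 1) → (f2 = 3 ↔ f3 = 2) →
    ∀ f4 : Fin 6, f4 ≠ 4 → (f0 = 4 ↔ f4 = 0) → (f1 = 4 ↔ f4 = 1) → (f2 = 4 ↔ f4 = 2) →
      (f3 = 4 ↔ f4 = 3) →
    ∀ f5 : Fin 6, f5 ≠ 5 → (f0 = 5 ↔ f5 = 0) → (f1 = 5 ↔ f5 = 1) → (f2 = 5 ↔ f5 = 2) →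
      (f3 = 5 ↔ f5 = 3) → (f4 = 5 ↔ f5 = 4) →
      ∃ k : Fin 15, syn k = ![f0, f1, f2, f3, f4, f5] := by
  decide +kernel

theorem syn_surj (f : Fin 6 → Fin 6) (h1 : ∀ i, f i ≠ i) (h2 : ∀ i, f (f i) = i) :
    ∃ k, syn k = f := by
  have key : ∀ i j, f i = j ↔ f j = i := by
    intro i j
    constructor
    · rintro rfl; exact h2 i
    · rintro rfl; exact h2 j
  obtain ⟨k, hk⟩ := syn_surj_aux (f 0) (h1 0) (f 1) (h1 1) (key _ _) (f 2) (h1 2) (key _ _)
    (key _ _) (f 3) (h1 3) (key _ _) (key _ _) (key _ _) (f 4) (h1 4) (key _ _) (key _ _)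
    (key _ _) (key _ _) (f 5) (h1 5) (key _ _) (key _ _) (key _ _) (key _ _) (key _ _)
  refine ⟨k, hk.trans ?_⟩
  funext i
  fin_cases i <;> rfl

/-- `e` is the canonical labelling of the points by `Fin 22` attached to a frame: labels `0..5` for
the hexad, `6` for `o`, and `7 + k` for the point carrying the matching `syn k`. -/
structure Labelling (V : Finset α) (B : Set (Finset α)) (a : Fin 6 → α) (o : α)
    (e : Fin 22 → α) : Prop where
  inj : Injective e
  mem : ∀ i, e i ∈ V
  ha : ∀ i : Fin 6, e ⟨i.1, by omega⟩ = a i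
  ho : e 6 = o
  hs : ∀ k : Fin 15, Lab B a o (e ⟨7 + k.1, by omega⟩) (syn k)

theorem Labelling.surj (hV : V.card = 22) {a : Fin 6 → α} {o : α}
    {e : Fin 22 → α} (L : Labelling V B a o e) : ∀ x ∈ V, ∃ i, e i = x := by
  have h1 : univ.image e = V := by
    apply eq_of_subset_of_card_le
    · intro x hx
      rw [mem_image] at hx
      obtain ⟨i, _, rfl⟩ := hx
      exact L.mem i
    · rw [hV, card_image_of_injective _ L.inj, card_univ, Fintype.card_fin]
  intro x hx
  rw [← h1, mem_image] at hx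
  obtain ⟨i, _, hi⟩ := hx
  exact ⟨i, hi⟩

theorem Frame.exists_labelling (hV : V.card = 22) (h : IsSteinerOn V 3 6 B) {a : Fin 6 → α} {o : α}
    (F : Frame V B a o) : ∃ e, Labelling V B a o e := by
  let X : Finset α := (V \ univ.image a).erase o
  have hX : X.card = 15 := by
    rw [card_erase_of_mem, card_sdiff_of_subset (h.sub _ F.mem), hV, h.card _ F.mem]
    rw [mem_sdiff, mem_image]
    refine ⟨F.ho, ?_⟩
    rintro ⟨i, _, hi⟩
    exact F.hno i hi
  have hXm : ∀ x ∈ X, x ∈ V ∧ x ≠ o ∧ ∀ i, a i ≠ x := by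
    intro x hx
    rw [mem_erase, mem_sdiff, mem_image] at hx
    refine ⟨hx.2.1, hx.1, fun i hi => hx.2.2 ⟨i, mem_univ i, hi⟩⟩
  have hex : ∀ x : X, ∃ k : Fin 15, Lab B a o x.1 (syn k) := by
    rintro ⟨x, hx⟩
    obtain ⟨h1, h2, h3⟩ := hXm x hx
    obtain ⟨s, hs⟩ := F.exists_lab hV h h1 h2 h3
    obtain ⟨k, hk⟩ := syn_surj s (fun i => (hs i).1) (fun i => F.lab_invol hV h h2 h3 hs i)
    exact ⟨k, hk ▸ hs⟩
  choose g hg using hex
  have hginj : Injective g := by
    intro x y hxy
    apply Subtype.ext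
    apply F.lab_inj hV h (hXm x.1 x.2).2.1 (hXm y.1 y.2).2.1 (hg x)
    rw [hxy]
    exact hg y
  have hgbij : Bijective g := by
    rw [Fintype.bijective_iff_injective_and_card]
    exact ⟨hginj, by rw [Fintype.card_coe, hX, Fintype.card_fin]⟩
  let G := Equiv.ofBijective g hgbij
  let e : Fin 22 → α := fun i =>
    if h6 : i.1 < 6 then a ⟨i.1, h6⟩ else if h7 : i.1 = 6 then o
    else (G.symm ⟨i.1 - 7, by omega⟩).1
  have e1 : ∀ (i : ℕ) (h6 : i < 6) (h22 : i < 22), e ⟨i, h22⟩ = a ⟨i, h6⟩ := by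
    intro i h6 h22
    simp only [e, h6, dif_pos]
  have e2 : e 6 = o := by
    simp [e]
  have e3 : ∀ k : Fin 15, e ⟨7 + k.1, by omega⟩ = (G.symm k).1 := by
    intro k
    have h6 : ¬ (7 + k.1 < 6) := by omega
    have h7 : ¬ (7 + k.1 = 6) := by omega
    simp only [e, h6, h7, dif_neg, not_false_iff]
    congr 2
    apply Fin.ext
    simp
  have hcase : ∀ i : Fin 22, (∃ j : Fin 6, i = ⟨j.1, by omega⟩) ∨ i = 6 ∨
      (∃ k : Fin 15, i = ⟨7 + k.1, by omega⟩) := by
    intro i
    rcases lt_trichotomy i.1 6 with h6 | h6 | h6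
    · exact Or.inl ⟨⟨i.1, h6⟩, rfl⟩
    · exact Or.inr (Or.inl (Fin.ext h6))
    · refine Or.inr (Or.inr ⟨⟨i.1 - 7, by omega⟩, Fin.ext ?_⟩)
      simp only
      omega
  refine ⟨e, ?_, ?_, fun i => e1 i.1 i.2 _, e2, ?_⟩
  · intro i j hij
    rcases hcase i with ⟨i', rfl⟩ | rfl | ⟨i', rfl⟩ <;>
    rcases hcase j with ⟨j', rfl⟩ | rfl | ⟨j', rfl⟩
    · rw [e1 _ i'.2, e1 _ j'.2] at hij
      have := F.inj hij
      rw [Fin.ext_iff] at this
      exact Fin.ext this
    · rw [e1 _ i'.2, e2] at hij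
      exact absurd hij (F.hno _)
    · rw [e1 _ i'.2, e3] at hij
      exact absurd hij ((hXm _ (G.symm j').2).2.2 _)
    · rw [e1 _ j'.2, e2] at hij
      exact absurd hij.symm (F.hno _)
    · rfl
    · rw [e2, e3] at hij
      exact absurd hij.symm (hXm _ (G.symm j').2).2.1
    · rw [e1 _ j'.2, e3] at hij
      exact absurd hij.symm ((hXm _ (G.symm i').2).2.2 _)
    · rw [e2, e3] at hij
      exact absurd hij (hXm _ (G.symm i').2).2.1
    · rw [e3, e3] at hij
      have := G.symm.injective (Subtype.ext hij)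
      rw [this]
  · intro i
    rcases hcase i with ⟨i', rfl⟩ | rfl | ⟨i', rfl⟩
    · rw [e1 _ i'.2]; exact F.aV h _
    · rw [e2]; exact F.ho
    · rw [e3]; exact (hXm _ (G.symm i').2).1
  · intro k
    rw [e3]
    have := hg (G.symm k)
    have h2 : g (G.symm k) = k := G.apply_symm_apply k
    rw [h2] at this
    exact this

/-- Two labellings of the same frame are equal. -/
theorem Labelling.unique (hV : V.card = 22) (h : IsSteinerOn V 3 6 B) {a : Fin 6 → α} {o : α}
    (F : Frame V B a o) {e e' : Fin 22 → α} (L : Labelling V B a o e)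
    (L' : Labelling V B a o e') : e = e' := by
  funext i
  rcases lt_trichotomy i.1 6 with h6 | h6 | h6
  · have h1 := L.ha ⟨i.1, h6⟩
    have h2 := L'.ha ⟨i.1, h6⟩
    exact h1.trans h2.symm
  · have : i = 6 := Fin.ext h6
    rw [this, L.ho, L'.ho]
  · have hi : i = ⟨7 + (i.1 - 7), by omega⟩ := Fin.ext (by simp only; omega)
    have h1 := L.hs ⟨i.1 - 7, by omega⟩
    have h2 := L'.hs ⟨i.1 - 7, by omega⟩
    have hne : ∀ {e : Fin 22 → α}, Labelling V B a o e → ∀ k : Fin 15,
        e ⟨7 + k.1, by omega⟩ ≠ o := by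
      intro e L k hk
      rw [← L.ho] at hk
      have := L.inj hk
      rw [Fin.ext_iff] at this
      simp only at this
      have h6' : ((6 : Fin 22) : ℕ) = 6 := rfl
      omega
    have := F.lab_inj hV h (hne L _) (hne L' _) h1 h2
    rw [hi]
    exact this

/-! ### The known blocks -/

/-- The fifteen hexads through two points of the base hexad and the point `o`, as label lists. -/
def knownPairs : List (List (Fin 22)) :=
  [[0, 1, 6, 7, 8, 9],
   [0, 2, 6, 10, 11, 12],
   [0, 3, 6, 13, 14, 15],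
   [0, 4, 6, 16, 17, 18],
   [0, 5, 6, 19, 20, 21],
   [1, 2, 6, 13, 16, 19],
   [1, 3, 6, 10, 17, 20],
   [1, 4, 6, 11, 14, 21],
   [1, 5, 6, 12, 15, 18],
   [2, 3, 6, 7, 18, 21],
   [2, 4, 6, 8, 15, 20],
   [2, 5, 6, 9, 14, 17],
   [3, 4, 6, 9, 12, 19],
   [3, 5, 6, 8, 11, 16],
   [4, 5, 6, 7, 10, 13]]

/-- Labels of the base hexad. -/
def baseList : List (Fin 22) := [0, 1, 2, 3, 4, 5]

theorem knownPairs_spec : ∀ K ∈ knownPairs, K.Nodup ∧ K.length = 6 ∧
    ∃ i j : Fin 6, i ≠ j ∧ ∀ k ∈ K, (k.1 = i.1 ∨ k.1 = j.1 ∨ k = 6 ∨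
      ∃ l : Fin 15, k.1 = 7 + l.1 ∧ syn l i = j) := by
  decide +kernel

theorem Labelling.base_mem {a : Fin 6 → α} {o : α}
    (F : Frame V B a o) {e : Fin 22 → α} (L : Labelling V B a o e) :
    (baseList.map e).toFinset ∈ B := by
  have : (baseList.map e).toFinset = univ.image a := by
    ext x
    simp only [mem_map_toFinset, mem_image, mem_univ, true_and]
    constructor
    · rintro ⟨k, hk, rfl⟩
      have hk6 : k.1 < 6 := by
        revert k
        decide
      exact ⟨⟨k.1, hk6⟩, (L.ha ⟨k.1, hk6⟩).symm⟩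
    · rintro ⟨i, rfl⟩
      refine ⟨⟨i.1, by omega⟩, ?_, L.ha i⟩
      revert i
      decide
  rw [this]
  exact F.mem

theorem Labelling.known_mem (h : IsSteinerOn V 3 6 B) {a : Fin 6 → α} {o : α}
    (F : Frame V B a o) {e : Fin 22 → α} (L : Labelling V B a o e) (K : List (Fin 22))
    (hK : K ∈ knownPairs) : (K.map e).toFinset ∈ B := by
  obtain ⟨hnd, hlen, i, j, hij, hk⟩ := knownPairs_spec K hK
  obtain ⟨b, hb, h1, h2, h3⟩ := ex3 h (F.aV h i) (F.aV h j) F.ho
    (fun hh => hij (F.inj hh)) (F.hno i) (F.hno j)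
  have hsub : (K.map e).toFinset ⊆ b := by
    intro x hx
    rw [mem_map_toFinset] at hx
    obtain ⟨k, hkK, rfl⟩ := hx
    rcases hk k hkK with h5 | h5 | h5 | ⟨l, h5, h6⟩
    · have : k = ⟨i.1, by omega⟩ := Fin.ext h5
      rw [this, L.ha i]
      exact h1
    · have : k = ⟨j.1, by omega⟩ := Fin.ext h5
      rw [this, L.ha j]
      exact h2
    · rw [h5, L.ho]
      exact h3
    · have : k = ⟨7 + l.1, by omega⟩ := Fin.ext h5
      rw [this]
      obtain ⟨_, c, hc, c1, c2, c3, c4⟩ := L.hs l i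
      rw [h6] at c2
      have hbc : b = c := uniq3 h hb hc (fun hh => hij (F.inj hh)) (F.hno i) (F.hno j)
        h1 h2 h3 c1 c2 c3
      rw [hbc]
      exact c4
  have : (K.map e).toFinset = b := by
    apply eq_of_subset_of_card_le hsub
    rw [h.card b hb, card_map_toFinset L.inj K hnd, hlen]
  rw [this]
  exact hb

/-- The 77 masks of the hexads. -/
def hexads22 : List ℕ :=
  [63, 963, 7237, 9456, 9996, 14474, 50310, 56064, 57417, 67944, 68244, 70930, 78369, 147864,
   148068, 165153, 172562, 224256, 233484, 280737, 290836, 298008, 299106, 344586, 369024,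
   395526, 398976, 458833, 527906, 528804, 528984, 534801, 590985, 598086, 639024, 675843,
   690368, 804160, 819717, 925736, 1066513, 1073442, 1081684, 1082024, 1134784, 1148931,
   1180746, 1185840, 1187973, 1315081, 1321536, 1377316, 1591308, 1618944, 1770240, 1835154,
   2115666, 2118696, 2134161, 2140196, 2179333, 2197056, 2230793, 2240832, 2293922, 2359500,
   2360112, 2368515, 2646656, 2654474, 2753556, 2955264, 3149184, 3150342, 3219480, 3588096,
   3670113]

/-- Membership test in a list of numbers, convenient for the kernel. -/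
def memb (l : List ℕ) (m : ℕ) : Bool := List.rec false (fun x _ ih => Nat.beq m x || ih) l

theorem memb_iff (l : List ℕ) (m : ℕ) : memb l m = true ↔ m ∈ l := by
  induction l with
  | nil => simp [memb]
  | cons x l ih =>
    have : memb (x :: l) m = (Nat.beq m x || memb l m) := rfl
    rw [this, Bool.or_eq_true, ih, Nat.beq_eq, List.mem_cons]

/-- The sixteen parity constraints. -/
def cons36 (p : Bool) : List (Bool × List ℕ) :=
  (baseList :: knownPairs).map fun K => (p, K.map Fin.val)

theorem search36 : srch (memb hexads22) (levels (cons36 false) 22) 1 0 6 = true := by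
  decide +kernel

theorem Labelling.px_eq (hV : V.card = 22) (h : IsSteinerOn V 3 6 B) {a : Fin 6 → α} {o : α}
    (F : Frame V B a o) {e : Fin 22 → α} (L : Labelling V B a o e) {b : Finset α} (hb : b ∈ B) :
    ∀ c ∈ cons36 false, px (code e b) c.2 = c.1 := by
  intro c hc
  simp only [cons36, List.mem_map] at hc
  obtain ⟨K, hK, rfl⟩ := hc
  have hnd : K.Nodup := by
    rcases List.mem_cons.1 hK with rfl | hK
    · decide
    · exact (knownPairs_spec K hK).1
  have hKB : (K.map e).toFinset ∈ B := by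
    rcases List.mem_cons.1 hK with rfl | hK
    · exact L.base_mem F
    · exact L.known_mem h F K hK
  simp only
  rw [px_code L.inj b K hnd, decide_eq_false_iff_not, Nat.not_odd_iff_even]
  exact inter_even hV h hKB hb

theorem Labelling.code_mem (hV : V.card = 22) (h : IsSteinerOn V 3 6 B) {a : Fin 6 → α} {o : α}
    (F : Frame V B a o) {e : Fin 22 → α} (L : Labelling V B a o e) {b : Finset α} (hb : b ∈ B) :
    code e b ∈ hexads22 := by
  rw [← memb_iff]
  apply srch_sound (memb hexads22) (cons36 false) 22 6 _ rfl search36 _ (code_lt e b)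
  · rw [sum_code L.inj (fun x hx => L.surj hV x (h.sub b hb hx)), h.card b hb]
  · exact L.px_eq hV h F hb

/-- **Strong uniqueness of `S(3,6,22)`.** -/
theorem Labelling.mem_iff (hV : V.card = 22) (h : IsSteinerOn V 3 6 B) {a : Fin 6 → α} {o : α}
    (F : Frame V B a o) {e : Fin 22 → α} (L : Labelling V B a o e) {b : Finset α} (hbV : b ⊆ V) :
    b ∈ B ↔ code e b ∈ hexads22 := by
  classical
  refine ⟨fun hb => L.code_mem hV h F hb, fun hb => ?_⟩
  have hcard : (V.powerset.filter (fun b => b ∈ B)).card = 77 := by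
    have := h.card_blocks
    rw [hV] at this
    have h1 : Nat.choose 6 3 = 20 := by decide
    have h2 : Nat.choose 22 3 = 1540 := by decide
    rw [h1, h2] at this
    omega
  have himg : (V.powerset.filter (fun b => b ∈ B)).image (code e) = hexads22.toFinset := by
    apply eq_of_subset_of_card_le
    · intro m hm
      rw [mem_image] at hm
      obtain ⟨c, hc, rfl⟩ := hm
      rw [List.mem_toFinset]
      exact L.code_mem hV h F (mem_filter.1 hc).2
    · rw [card_image_of_injOn, hcard]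
      · exact (List.toFinset_card_le _).trans (by decide)
      · intro c hc d hd hcd
        have hc1 := mem_powerset.1 (mem_filter.1 hc).1
        have hd1 := mem_powerset.1 (mem_filter.1 hd).1
        exact code_inj (fun x hx => L.surj hV x (hc1 hx)) (fun x hx => L.surj hV x (hd1 hx)) hcd
  have : code e b ∈ (V.powerset.filter (fun b => b ∈ B)).image (code e) := by
    rw [himg, List.mem_toFinset]
    exact hb
  rw [mem_image] at this
  obtain ⟨c, hc, hcb⟩ := this
  have hc1 := mem_powerset.1 (mem_filter.1 hc).1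
  have : c = b := code_inj (fun x hx => L.surj hV x (hc1 hx)) (fun x hx => L.surj hV x (hbV hx)) hcb
  rw [← this]
  exact (mem_filter.1 hc).2

end Cfsg.Agent.SporadicA.S36
end

-- part: SporadicA/S36Aut
section
/-!
The automorphism group of a Steiner system `S(3, 6, 22)`: it is regular on frames, has order
887040 and is 3-transitive.
-/

set_option autoImplicit false

namespace Cfsg.Agent.SporadicA.S36Aut

open Finset Function Cfsg.Agent.SporadicA.SteinerOn Cfsg.Agent.SporadicA.S36
open scoped Pointwise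

variable {α : Type*} [Fintype α] [DecidableEq α] {B : Set (Finset α)}

omit [Fintype α] in
theorem mem_aut_iff (σ : Equiv.Perm α) :
    σ ∈ Cfsg.setSystemAut B ↔ ∀ b : Finset α, b.image σ ∈ B ↔ b ∈ B := by
  have hsm : ∀ b : Finset α, b.image σ = σ • b := fun b => rfl
  rw [MulAction.mem_stabilizer_iff]
  constructor
  · intro h b
    rw [hsm]
    conv_lhs => rw [← h]
    exact Set.smul_mem_smul_set_iff
  · intro h
    ext b
    rw [Set.mem_smul_set_iff_inv_smul_mem, ← h, hsm, smul_inv_smul]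

theorem Frame.smul {σ : Equiv.Perm α} (hσ : ∀ b : Finset α, b.image σ ∈ B ↔ b ∈ B)
    {a : Fin 6 → α} {o : α} (F : Frame univ B a o) : Frame univ B (σ ∘ a) (σ o) where
  inj := σ.injective.comp F.inj
  mem := by
    rw [← image_image, hσ]
    exact F.mem
  ho := mem_univ _
  hno := fun i hi => F.hno i (σ.injective hi)

theorem Labelling.smul {σ : Equiv.Perm α} (hσ : ∀ b : Finset α, b.image σ ∈ B ↔ b ∈ B)
    {a : Fin 6 → α} {o : α} {e : Fin 22 → α} (L : Labelling univ B a o e) :
    Labelling univ B (σ ∘ a) (σ o) (σ ∘ e) where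
  inj := σ.injective.comp L.inj
  mem := fun _ => mem_univ _
  ha := fun i => congrArg σ (L.ha i)
  ho := congrArg σ L.ho
  hs := by
    intro k i
    obtain ⟨h0, b, hb, h1, h2, h3, h4⟩ := L.hs k i
    exact ⟨h0, b.image σ, (hσ b).2 hb, mem_image_of_mem σ h1, mem_image_of_mem σ h2,
      mem_image_of_mem σ h3, mem_image_of_mem σ h4⟩

/-- The labelling as an equivalence. -/
noncomputable def labEquiv (hα : Fintype.card α = 22) {a : Fin 6 → α} {o : α} {e : Fin 22 → α}
    (L : Labelling univ B a o e) : Fin 22 ≃ α :=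
  Equiv.ofBijective e ⟨L.inj, fun x => L.surj (by rw [card_univ, hα]) x (mem_univ x)⟩

theorem labEquiv_apply (hα : Fintype.card α = 22) {a : Fin 6 → α} {o : α} {e : Fin 22 → α}
    (L : Labelling univ B a o e) (i : Fin 22) : labEquiv hα L i = e i := rfl

omit [Fintype α] in
theorem code_congr' {β : Type*} [DecidableEq β] {n : ℕ} {e : Fin n → α} {e' : Fin n → β}
    {b : Finset α} {b' : Finset β} (h : ∀ i, e i ∈ b ↔ e' i ∈ b') : code e b = code e' b' := by
  unfold code
  congr 1
  funext i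
  simp [h i]

/-- Two labelled systems are isomorphic by the bijection matching the labels. -/
theorem exists_iso {β : Type*} [Fintype β] [DecidableEq β] {B' : Set (Finset β)}
    (hα : Fintype.card α = 22) (hβ : Fintype.card β = 22)
    (hB : Cfsg.IsSteinerSystem 3 6 B) (hB' : Cfsg.IsSteinerSystem 3 6 B')
    {a : Fin 6 → α} {o : α} (F : Frame univ B a o) {e : Fin 22 → α} (L : Labelling univ B a o e)
    {a' : Fin 6 → β} {o' : β} (F' : Frame univ B' a' o') {e' : Fin 22 → β}
    (L' : Labelling univ B' a' o' e') :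
    ∃ σ : α ≃ β, (∀ b : Finset α, b.image σ ∈ B' ↔ b ∈ B) ∧ ∀ i, σ (e i) = e' i := by
  let σ : α ≃ β := (labEquiv hα L).symm.trans (labEquiv hβ L')
  have hσ : ∀ i, σ (e i) = e' i := by
    intro i
    rw [← labEquiv_apply hα L i, Equiv.trans_apply, Equiv.symm_apply_apply, labEquiv_apply]
  refine ⟨σ, fun b => ?_, hσ⟩
  have h1 := L.mem_iff (by rw [card_univ, hα]) (isSteinerOn_univ hB) F (subset_univ b)
  have h2 := L'.mem_iff (by rw [card_univ, hβ]) (isSteinerOn_univ hB') F'
    (subset_univ (b.image σ))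
  rw [h1, h2]
  have : code e' (b.image σ) = code e b := by
    apply code_congr'
    intro i
    rw [← hσ i]
    exact σ.injective.mem_finset_image
  rw [this]

theorem exists_frame_extend (hα : Fintype.card α = 22) (hB : Cfsg.IsSteinerSystem 3 6 B)
    {x y z : α} (hxy : x ≠ y) (hxz : x ≠ z) (hyz : y ≠ z) :
    ∃ (a : Fin 6 → α) (o : α), Frame univ B a o ∧ a 0 = x ∧ a 1 = y ∧ a 2 = z := by
  have h := isSteinerOn_univ hB
  obtain ⟨b, hb, hx, hy, hz⟩ := ex3 h (mem_univ x) (mem_univ y) (mem_univ z) hxy hxz hyz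
  have hb6 := hB.1 b hb
  have hsub : ({x, y, z} : Finset α) ⊆ b := by
    intro u hu
    simp only [mem_insert, mem_singleton] at hu
    rcases hu with rfl | rfl | rfl <;> assumption
  have hc3 : (b \ {x, y, z}).card = 3 := by
    rw [card_sdiff_of_subset hsub, hb6, card_eq_three.2 ⟨x, y, z, hxy, hxz, hyz, rfl⟩]
  obtain ⟨u, v, w, huv, huw, hvw, hset⟩ := card_eq_three.1 hc3
  have himg : univ.image ![x, y, z, u, v, w] = b := by
    have h1 : univ.image ![x, y, z, u, v, w] = {x, y, z} ∪ {u, v, w} := by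
      ext t
      simp only [mem_image, mem_univ, true_and, mem_union, mem_insert, mem_singleton]
      constructor
      · rintro ⟨i, rfl⟩
        fin_cases i <;> simp
      · rintro ((rfl | rfl | rfl) | (rfl | rfl | rfl))
        exacts [⟨0, rfl⟩, ⟨1, rfl⟩, ⟨2, rfl⟩, ⟨3, rfl⟩, ⟨4, rfl⟩, ⟨5, rfl⟩]
    rw [h1, ← hset, union_sdiff_of_subset hsub]
  obtain ⟨o, ho⟩ : ∃ o, o ∉ b := by
    by_contra hcon
    push Not at hcon
    have : b = univ := eq_univ_of_forall hcon
    rw [this, card_univ, hα] at hb6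
    omega
  refine ⟨![x, y, z, u, v, w], o, ⟨?_, ?_, mem_univ o, ?_⟩, rfl, rfl, rfl⟩
  · have h2 : (univ.image ![x, y, z, u, v, w]).card = (univ : Finset (Fin 6)).card := by
      rw [himg, hb6]; rfl
    exact (Set.injOn_univ.1 (by simpa using card_image_iff.1 h2))
  · rw [himg]; exact hb
  · intro i hi
    apply ho
    rw [← himg, ← hi]
    exact mem_image_of_mem _ (mem_univ i)

theorem isMultiplyPretransitive_three (hα : Fintype.card α = 22)
    (hB : Cfsg.IsSteinerSystem 3 6 B) :
    MulAction.IsMultiplyPretransitive (Cfsg.setSystemAut B) α 3 := by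
  have hV : (univ : Finset α).card = 22 := by rw [card_univ, hα]
  have h := isSteinerOn_univ hB
  refine ⟨fun x y => ?_⟩
  have key : ∀ x : Fin 3 ↪ α, ∃ (a : Fin 6 → α) (o : α), Frame univ B a o ∧ a 0 = x 0 ∧
      a 1 = x 1 ∧ a 2 = x 2 := fun x =>
    exists_frame_extend hα hB (fun hh => by simpa using x.injective hh)
      (fun hh => by simpa using x.injective hh) (fun hh => by simpa using x.injective hh)
  obtain ⟨a, o, F, a0, a1, a2⟩ := key x
  obtain ⟨a', o', F', a0', a1', a2'⟩ := key y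
  obtain ⟨e, L⟩ := F.exists_labelling hV h
  obtain ⟨e', L'⟩ := F'.exists_labelling hV h
  obtain ⟨σ, hσ, hσe⟩ := exists_iso hα hα hB hB F L F' L'
  refine ⟨⟨σ, (mem_aut_iff σ).2 hσ⟩, ?_⟩
  have ha : ∀ i : Fin 6, σ (a i) = a' i := by
    intro i
    rw [← L.ha i, hσe, L'.ha i]
  ext i
  change σ (x i) = y i
  fin_cases i
  · exact a0 ▸ a0' ▸ ha 0
  · exact a1 ▸ a1' ▸ ha 1
  · exact a2 ▸ a2' ▸ ha 2

/-- The type of frames. -/
abbrev FrameT (B : Set (Finset α)) : Type _ :=
  {p : (Fin 6 → α) × α // Frame univ B p.1 p.2}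

theorem card_frameT (hα : Fintype.card α = 22) (hB : Cfsg.IsSteinerSystem 3 6 B) :
    Nat.card (FrameT B) = 887040 := by
  classical
  have h := isSteinerOn_univ hB
  let T := Σ b : {b : Finset α // b ∈ B}, (Fin 6 ↪ {x // x ∈ b.1}) × {o : α // o ∉ b.1}
  have himg : ∀ (b : {b : Finset α // b ∈ B}) (f : Fin 6 ↪ {x // x ∈ b.1}),
      univ.image (fun i => (f i).1) = b.1 := by
    intro b f
    apply eq_of_subset_of_card_le
    · intro x hx
      rw [mem_image] at hx
      obtain ⟨i, _, rfl⟩ := hx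
      exact (f i).2
    · rw [hB.1 _ b.2, card_image_of_injective]
      · rfl
      · intro i j hij
        exact f.injective (Subtype.ext hij)
  let φ : T → FrameT B := fun t => ⟨(fun i => (t.2.1 i).1, t.2.2.1),
    { inj := fun i j hij => t.2.1.injective (Subtype.ext hij)
      mem := by
        change univ.image (fun i => (t.2.1 i).1) ∈ B
        rw [himg]; exact t.1.2
      ho := mem_univ _
      hno := fun i hi => t.2.2.2 (by
        change (t.2.1 i).1 = t.2.2.1 at hi
        rw [← hi]; exact (t.2.1 i).2) }⟩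
  have hφ : Bijective φ := by
    constructor
    · rintro ⟨⟨b, hb⟩, f, o, ho⟩ ⟨⟨b', hb'⟩, f', o', ho'⟩ heq
      have h1 : (fun i => (f i).1, o) = (fun i => (f' i).1, o') := congrArg Subtype.val heq
      have h2 : (fun i => (f i).1) = (fun i => (f' i).1) := congrArg Prod.fst h1
      have h3 : o = o' := congrArg Prod.snd h1
      have h4 : b = b' := by
        have e1 := himg ⟨b, hb⟩ f
        have e2 := himg ⟨b', hb'⟩ f'
        have e1' : univ.image (fun i => (f i).1) = b := e1
        have e2' : univ.image (fun i => (f' i).1) = b' := e2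
        rw [← e1', ← e2', h2]
      subst h4
      subst h3
      have h5 : f = f' := by
        ext i
        exact congrFun h2 i
      subst h5
      rfl
    · rintro ⟨⟨a, o⟩, F⟩
      refine ⟨⟨⟨univ.image a, F.mem⟩, ⟨fun i => ⟨a i, mem_image_of_mem a (mem_univ i)⟩, ?_⟩,
        ⟨o, ?_⟩⟩, rfl⟩
      · intro i j hij
        exact F.inj (congrArg Subtype.val hij)
      · rw [mem_image]
        rintro ⟨i, _, hi⟩
        exact F.hno i hi
  rw [← Nat.card_congr (Equiv.ofBijective φ hφ)]
  have hfib : ∀ b : {b : Finset α // b ∈ B},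
      Nat.card ((Fin 6 ↪ {x // x ∈ b.1}) × {o : α // o ∉ b.1}) = 11520 := by
    intro b
    have hb6 := hB.1 _ b.2
    have h1 : Fintype.card {o : α // o ∉ b.1} = 16 := by
      rw [Fintype.card_subtype_compl, hα, Fintype.card_coe, hb6]
    rw [Nat.card_prod, Nat.card_eq_fintype_card, Nat.card_eq_fintype_card,
      Fintype.card_embedding_eq, Fintype.card_fin, Fintype.card_coe, hb6, h1]
    decide
  have hBcard : Fintype.card {b : Finset α // b ∈ B} = 77 := by
    have h1 := h.card_blocks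
    rw [card_univ, hα] at h1
    have h2 : Nat.choose 6 3 = 20 := by decide
    have h3 : Nat.choose 22 3 = 1540 := by decide
    rw [h2, h3] at h1
    rw [Fintype.card_subtype]
    have h4 : (univ : Finset α).powerset = univ := by ext s; simp
    rw [h4] at h1
    omega
  rw [Nat.card_sigma, sum_congr rfl (fun b _ => hfib b), sum_const, card_univ, hBcard]
  rfl

theorem card_aut (hα : Fintype.card α = 22) (hB : Cfsg.IsSteinerSystem 3 6 B) :
    Nat.card (Cfsg.setSystemAut B) = 887040 := by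
  have hV : (univ : Finset α).card = 22 := by rw [card_univ, hα]
  have h := isSteinerOn_univ hB
  rw [← card_frameT hα hB]
  have hne : Nonempty (FrameT B) := by
    have : 0 < Nat.card (FrameT B) := by rw [card_frameT hα hB]; norm_num
    exact (Nat.card_pos_iff.1 this).1
  obtain ⟨⟨⟨a, o⟩, F⟩⟩ := hne
  change Frame univ B a o at F
  obtain ⟨e, L⟩ := F.exists_labelling hV h
  apply Nat.card_congr
  refine Equiv.ofBijective (fun σ => ⟨((σ : Equiv.Perm α) ∘ a, (σ : Equiv.Perm α) o),
    Frame.smul ((mem_aut_iff _).1 σ.2) F⟩) ⟨?_, ?_⟩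
  · intro σ τ hστ
    have h1 : ((σ : Equiv.Perm α) ∘ a, (σ : Equiv.Perm α) o) =
      ((τ : Equiv.Perm α) ∘ a, (τ : Equiv.Perm α) o) := congrArg Subtype.val hστ
    have h2 : (σ : Equiv.Perm α) ∘ a = (τ : Equiv.Perm α) ∘ a := congrArg Prod.fst h1
    have h3 : (σ : Equiv.Perm α) o = (τ : Equiv.Perm α) o := congrArg Prod.snd h1
    have L1 := Labelling.smul ((mem_aut_iff _).1 σ.2) L
    have L2 := Labelling.smul ((mem_aut_iff _).1 τ.2) L
    rw [← h2, ← h3] at L2
    have h4 := L1.unique hV h (Frame.smul ((mem_aut_iff _).1 σ.2) F) L2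
    apply Subtype.ext
    ext x
    obtain ⟨i, rfl⟩ := L.surj hV x (mem_univ x)
    exact congrFun h4 i
  · rintro ⟨⟨a', o'⟩, F'⟩
    change Frame univ B a' o' at F'
    obtain ⟨e', L'⟩ := F'.exists_labelling hV h
    obtain ⟨σ, hσ, hσe⟩ := exists_iso hα hα hB hB F L F' L'
    refine ⟨⟨σ, (mem_aut_iff σ).2 hσ⟩, Subtype.ext (Prod.ext ?_ ?_)⟩
    · funext i
      change σ (a i) = a' i
      rw [← L.ha i, hσe, L'.ha i]
    · change σ o = o'
      rw [← L.ho, hσe, L'.ho]

end Cfsg.Agent.SporadicA.S36Aut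
end

-- part: SporadicA/S36Swap
section
/-!
The effect on the canonical labelling of `S(3, 6, 22)` of exchanging the last two points of the
base hexad of a frame: an explicit product of seven transpositions of the labels.  Hence the
automorphism group contains odd permutations; its even part has index 2.
-/

set_option autoImplicit false

namespace Cfsg.Agent.SporadicA.S36Swap

open Finset Function Cfsg.Agent.SporadicA.SteinerOn Cfsg.Agent.SporadicA.S36
  Cfsg.Agent.SporadicA.S36Aut
open scoped Pointwise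

variable {α : Type*} [DecidableEq α] {V : Finset α} {B : Set (Finset α)}

/-- The exchange of the last two indices of `Fin 6`. -/
def sw : Fin 6 → Fin 6 := ![0, 1, 2, 3, 5, 4]

/-- The induced map on the matchings. -/
def kap : Fin 15 → Fin 15 := ![0, 2, 1, 3, 5, 4, 6, 8, 7, 12, 13, 14, 9, 10, 11]

/-- The induced map on the labels. -/
def tauFun : Fin 22 → Fin 22 :=
  ![0, 1, 2, 3, 5, 4, 6, 7, 9, 8, 10, 12, 11, 13, 15, 14, 19, 20, 21, 16, 17, 18]

theorem sw_sw : ∀ i, sw (sw i) = i := by decide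

theorem sw_inj : Injective sw := fun i j h => by rw [← sw_sw i, h, sw_sw]

theorem tau_tau : ∀ i, tauFun (tauFun i) = i := by decide

/-- The induced permutation of the labels. -/
def tau : Equiv.Perm (Fin 22) := ⟨tauFun, tauFun, tau_tau, tau_tau⟩

theorem kap_spec : ∀ (k : Fin 15) (i : Fin 6), syn (kap k) (sw i) = sw (syn k i) := by
  decide +kernel

theorem tau_low : ∀ i : Fin 6, tauFun ⟨i.1, by omega⟩ = ⟨(sw i).1, by omega⟩ := by decide

theorem tau_high : ∀ k : Fin 15, tauFun ⟨7 + k.1, by omega⟩ = ⟨7 + (kap k).1, by omega⟩ := by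
  decide

theorem tau_eq : tau = Equiv.swap 4 5 * Equiv.swap 8 9 * Equiv.swap 11 12 * Equiv.swap 14 15 *
    Equiv.swap 16 19 * Equiv.swap 17 20 * Equiv.swap 18 21 := by
  decide +kernel

theorem sign_tau : Equiv.Perm.sign tau = -1 := by
  rw [tau_eq]
  simp only [Equiv.Perm.sign_mul]
  rw [Equiv.Perm.sign_swap (by decide), Equiv.Perm.sign_swap (by decide),
    Equiv.Perm.sign_swap (by decide), Equiv.Perm.sign_swap (by decide),
    Equiv.Perm.sign_swap (by decide), Equiv.Perm.sign_swap (by decide),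
    Equiv.Perm.sign_swap (by decide)]
  decide

theorem Frame.swap {a : Fin 6 → α} {o : α} (F : Frame V B a o) : Frame V B (a ∘ sw) o where
  inj := F.inj.comp sw_inj
  mem := by
    have : univ.image (a ∘ sw) = univ.image a := by
      ext x
      simp only [mem_image, mem_univ, true_and, comp]
      constructor
      · rintro ⟨i, rfl⟩; exact ⟨_, rfl⟩
      · rintro ⟨i, rfl⟩; exact ⟨sw i, by rw [sw_sw]⟩
    rw [this]
    exact F.mem
  ho := F.ho
  hno := fun i => F.hno _

omit [DecidableEq α] in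
theorem Labelling.swap {a : Fin 6 → α} {o : α} {e : Fin 22 → α} (L : Labelling V B a o e) :
    Labelling V B (a ∘ sw) o (e ∘ tauFun) where
  inj := L.inj.comp (fun i j h => by rw [← tau_tau i, h, tau_tau])
  mem := fun _ => L.mem _
  ha := by
    intro i
    change e (tauFun ⟨i.1, _⟩) = a (sw i)
    rw [tau_low, L.ha]
  ho := L.ho
  hs := by
    intro k i
    change syn k i ≠ i ∧ ∃ b ∈ B, a (sw i) ∈ b ∧ a (sw (syn k i)) ∈ b ∧ o ∈ b ∧
      e (tauFun ⟨7 + k.1, _⟩) ∈ b
    obtain ⟨h0, b, hb, h1, h2, h3, h4⟩ := L.hs (kap k) (sw i)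
    rw [kap_spec] at h0 h2
    refine ⟨fun hh => h0 (by rw [hh]), b, hb, h1, h2, h3, ?_⟩
    rw [tau_high]
    exact h4

variable [Fintype α]

/-- Each frame is fixed on its first four points and on the outside point by an odd
automorphism. -/
theorem exists_odd (hα : Fintype.card α = 22) (hB : Cfsg.IsSteinerSystem 3 6 B)
    {a : Fin 6 → α} {o : α} (F : Frame univ B a o) :
    ∃ σ : Equiv.Perm α, (∀ b : Finset α, b.image σ ∈ B ↔ b ∈ B) ∧ σ (a 0) = a 0 ∧
      σ (a 1) = a 1 ∧ σ (a 2) = a 2 ∧ σ (a 3) = a 3 ∧ σ o = o ∧ Equiv.Perm.sign σ = -1 := by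
  obtain ⟨e, L⟩ := F.exists_labelling (by rw [card_univ, hα]) (isSteinerOn_univ hB)
  have F' := Frame.swap F
  have L' := Labelling.swap L
  obtain ⟨σ, hσ, hσe⟩ := exists_iso hα hα hB hB F L F' L'
  have ha : ∀ i, σ (a i) = a (sw i) := by
    intro i
    rw [← L.ha i, hσe, L'.ha i]
    rfl
  have ho : σ o = o := by
    have h1 := hσe 6
    rwa [L.ho, L'.ho] at h1
  refine ⟨σ, hσ, ha 0, ha 1, ha 2, ha 3, ho, ?_⟩
  have hperm : σ = ((labEquiv hα L).symm.trans tau).trans (labEquiv hα L) := by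
    ext x
    obtain ⟨i, rfl⟩ := (labEquiv hα L).surjective x
    rw [Equiv.trans_apply, Equiv.trans_apply, Equiv.symm_apply_apply]
    exact hσe i
  rw [hperm, Equiv.Perm.sign_symm_trans_trans, sign_tau]

/-- The even automorphisms. -/
def evenPart (B : Set (Finset α)) : Subgroup (Cfsg.setSystemAut B) :=
  (Equiv.Perm.sign.comp (Cfsg.setSystemAut B).subtype).ker

theorem mem_evenPart (σ : Cfsg.setSystemAut B) :
    σ ∈ evenPart B ↔ Equiv.Perm.sign (σ : Equiv.Perm α) = 1 := Iff.rfl

theorem index_evenPart (hα : Fintype.card α = 22) (hB : Cfsg.IsSteinerSystem 3 6 B) :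
    (evenPart B).index = 2 := by
  have hne : Nonempty (FrameT B) := by
    have : 0 < Nat.card (FrameT B) := by rw [card_frameT hα hB]; norm_num
    exact (Nat.card_pos_iff.1 this).1
  obtain ⟨⟨⟨a, o⟩, F⟩⟩ := hne
  obtain ⟨σ, hσ, -, -, -, -, -, hs⟩ := exists_odd hα hB F
  rw [evenPart, Subgroup.index_ker]
  have hr : (Equiv.Perm.sign.comp (Cfsg.setSystemAut B).subtype).range = ⊤ := by
    rw [eq_top_iff]
    intro u _
    rcases Int.units_eq_one_or u with rfl | rfl
    · exact one_mem _
    · exact ⟨⟨σ, (mem_aut_iff σ).2 hσ⟩, hs⟩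
  rw [hr, Subgroup.card_top]
  rw [Nat.card_eq_fintype_card]
  rfl

theorem card_evenPart (hα : Fintype.card α = 22) (hB : Cfsg.IsSteinerSystem 3 6 B) :
    Nat.card (evenPart B) = 443520 := by
  have h1 := Subgroup.card_mul_index (evenPart B)
  rw [index_evenPart hα hB, card_aut hα hB] at h1
  omega

theorem isMultiplyPretransitive_evenPart (hα : Fintype.card α = 22)
    (hB : Cfsg.IsSteinerSystem 3 6 B) : MulAction.IsMultiplyPretransitive (evenPart B) α 3 := by
  refine ⟨fun x y => ?_⟩
  obtain ⟨g, hg⟩ := (isMultiplyPretransitive_three hα hB).exists_smul_eq x y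
  have hgx : ∀ i, (g : Equiv.Perm α) (x i) = y i := fun i => congrArg (fun f => f i) hg
  rcases Int.units_eq_one_or (Equiv.Perm.sign (g : Equiv.Perm α)) with h1 | h1
  · refine ⟨⟨g, h1⟩, ?_⟩
    ext i
    exact hgx i
  · obtain ⟨a, o, F, a0, a1, a2⟩ := exists_frame_extend hα hB (x := x 0) (y := x 1) (z := x 2)
      (fun hh => by simpa using x.injective hh)
      (fun hh => by simpa using x.injective hh) (fun hh => by simpa using x.injective hh)
    obtain ⟨σ, hσ, s0, s1, s2, -, -, hs⟩ := exists_odd hα hB F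
    refine ⟨⟨g * ⟨σ, (mem_aut_iff σ).2 hσ⟩, ?_⟩, ?_⟩
    · rw [mem_evenPart, Subgroup.coe_mul, Equiv.Perm.sign_mul, h1, hs]
      rfl
    · ext i
      change (g : Equiv.Perm α) (σ (x i)) = y i
      rw [← hgx i]
      congr 1
      fin_cases i
      · exact a0 ▸ s0
      · exact a1 ▸ s1
      · exact a2 ▸ s2

end Cfsg.Agent.SporadicA.S36Swap
end
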