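import Cfsg.Prelude.Def_Sporadic_a
import Cfsg.Agent.SporadicA.M24Mem
import Cfsg.Agent.S0370
import Cfsg.Agent.S0371
import Cfsg.Agent.S0372
import Cfsg.Agent.S0373
set_option linter.all false

/-!
The stabiliser in `M24` of the dodecad of squares and of the point `0` is 3-transitive on the
complementary dodecad, with explicit elements: the doubling map, the cube twist and two words
`aa`, `ff` in the standard generators.
-/

set_option autoImplicit false

namespace Cfsg.Agent.SporadicA.M11Comp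

open Cfsg
open scoped Pointwise

theorem pinv_apply (g : Equiv.Perm GolayPt) (x : GolayPt) : g⁻¹ (g x) = x := g.symm_apply_apply x

theorem papply_inv (g : Equiv.Perm GolayPt) (x : GolayPt) : g (g⁻¹ x) = x := g.apply_symm_apply x

/-- translation by `1` -/
def sh : Equiv.Perm GolayPt := Equiv.optionCongr (Equiv.addRight (1 : ZMod 23))

/-- translation by `-1` -/
def shi : Equiv.Perm GolayPt := Equiv.optionCongr (Equiv.addRight (-1 : ZMod 23))

/-- the unit `2` of `ZMod 23` -/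
def two : (ZMod 23)ˣ := ⟨2, 12, by decide, by decide⟩

/-- the unit `5` of `ZMod 23` -/
def five : (ZMod 23)ˣ := ⟨5, 14, by decide, by decide⟩

/-- doubling -/
def dbl : Equiv.Perm GolayPt := Equiv.optionCongr (Units.mulLeft two)

theorem sh_mem : sh ∈ M24 := Cfsg.Agent.S0370.result

theorem shi_mem : shi ∈ M24 := by
  have h : shi = sh⁻¹ := by
    rw [eq_inv_iff_mul_eq_one]
    ext x : 1
    revert x
    decide
  rw [h]
  exact inv_mem sh_mem

theorem dbl_mem : dbl ∈ M24 :=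
  Cfsg.Agent.S0371.result two ⟨five, by ext; decide⟩

/-- the word `i s c s c⁻¹ s⁻¹ s⁻¹ c s⁻¹ i` -/
noncomputable def aa : Equiv.Perm GolayPt :=
  projInv * sh * cubeTwist * sh * cubeTwist * cubeTwist * cubeTwist * cubeTwist * shi * shi *
    cubeTwist * shi * projInv

/-- the word `s i c s c s c s i s⁻¹` -/
noncomputable def ff : Equiv.Perm GolayPt :=
  sh * projInv * cubeTwist * sh * cubeTwist * sh * cubeTwist * sh * projInv * shi

theorem aa_mem : aa ∈ M24 := by
  have h1 := sh_mem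
  have h2 := shi_mem
  have h3 : projInv ∈ M24 := Cfsg.Agent.S0372.result
  have h4 : cubeTwist ∈ M24 := Cfsg.Agent.S0373.result
  exact mul_mem (mul_mem (mul_mem (mul_mem (mul_mem (mul_mem (mul_mem (mul_mem (mul_mem (mul_mem (mul_mem (mul_mem h3 h1) h4) h1) h4) h4) h4) h4) h2) h2) h4) h2) h3

theorem ff_mem : ff ∈ M24 := by
  have h1 := sh_mem
  have h2 := shi_mem
  have h3 : projInv ∈ M24 := Cfsg.Agent.S0372.result
  have h4 : cubeTwist ∈ M24 := Cfsg.Agent.S0373.result
  exact mul_mem (mul_mem (mul_mem (mul_mem (mul_mem (mul_mem (mul_mem (mul_mem (mul_mem h1 h3) h4) h1) h4) h1) h4) h1) h3) h2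

/-- the dodecad of squares -/
def sqD : Finset GolayPt := support₂ (qrWord 0)

theorem mem_sqD (x : GolayPt) : x ∈ sqD ↔ qrWord 0 x ≠ 0 := M24Mem.mem_support₂ _ _

theorem sqD_mem_dodecads : sqD ∈ dodecads := by
  refine ⟨⟨qrWord 0, M24Mem.qrWord_mem_golayCode 0, rfl⟩, ?_⟩
  decide +kernel

/-- The stabiliser of the dodecad of squares and of the point `0`, as permutations. -/
def K : Subgroup (Equiv.Perm GolayPt) where
  carrier := {g | g ∈ M24 ∧ (∀ x ∈ sqD, g x ∈ sqD) ∧ g (some 0) = some 0}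
  one_mem' := ⟨one_mem _, fun _ h => h, rfl⟩
  mul_mem' := by
    rintro a b ⟨ha, ha', ha''⟩ ⟨hb, hb', hb''⟩
    refine ⟨mul_mem ha hb, fun x hx => ha' _ (hb' _ hx), ?_⟩
    rw [Equiv.Perm.mul_apply, hb'', ha'']
  inv_mem' := by
    rintro a ⟨ha, ha', ha''⟩
    refine ⟨inv_mem ha, ?_, ?_⟩
    · have h : a ∈ MulAction.stabilizer (Equiv.Perm GolayPt) sqD := by
        rw [MulAction.mem_stabilizer_finset']
        exact fun x hx => ha' x hx
      have h2 := inv_mem h
      rw [MulAction.mem_stabilizer_finset'] at h2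
      exact fun x hx => h2 hx
    · rw [Equiv.Perm.inv_eq_iff_eq, ha'']

theorem dbl_mem_K : dbl ∈ K := by
  refine ⟨dbl_mem, ?_, by decide +kernel⟩
  simp only [mem_sqD]
  decide +kernel

theorem cub_mem_K : cubeTwist ∈ K := by
  refine ⟨Cfsg.Agent.S0373.result, ?_, by decide +kernel⟩
  simp only [mem_sqD]
  decide +kernel

theorem aa_mem_K : aa ∈ K := by
  refine ⟨aa_mem, ?_, by decide +kernel⟩
  simp only [mem_sqD]
  decide +kernel

theorem ff_mem_K : ff ∈ K := by
  refine ⟨ff_mem, ?_, by decide +kernel⟩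
  simp only [mem_sqD]
  decide +kernel

theorem aa_none : aa none = some 20 := by decide +kernel
theorem ff_none : ff none = none := by decide +kernel
theorem ff_15 : ff (some 15) = some 15 := by decide +kernel
theorem ff_5 : ff (some 5) = some 19 := by decide +kernel

theorem step1 (x : GolayPt) (hx : x ∉ sqD) : ∃ g ∈ K, g none = x := by
  have h : ∀ x : GolayPt, qrWord 0 x = 0 → x = none ∨ ∃ k : Fin 11, (dbl ^ (k : ℕ)) (some 20) = x := by
    decide +kernel
  have hx' : qrWord 0 x = 0 := by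
    by_contra h0
    exact hx ((mem_sqD x).2 h0)
  rcases h x hx' with rfl | ⟨k, hk⟩
  · exact ⟨1, one_mem _, rfl⟩
  · refine ⟨dbl ^ (k : ℕ) * aa, mul_mem (pow_mem dbl_mem_K _) aa_mem_K, ?_⟩
    rw [Equiv.Perm.mul_apply, aa_none, hk]

theorem dbl_pow_none (k : ℕ) : (dbl ^ k) none = none := by
  induction k with
  | zero => rfl
  | succ n ih => rw [pow_succ', Equiv.Perm.mul_apply, ih]; rfl

theorem step2 (x : GolayPt) (hx : x ∉ sqD) (hx0 : x ≠ none) :
    ∃ g ∈ K, g none = none ∧ g (some 15) = x := by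
  have h : ∀ x : GolayPt, qrWord 0 x = 0 → x = none ∨ ∃ k : Fin 11, (dbl ^ (k : ℕ)) (some 15) = x := by
    decide +kernel
  have hx' : qrWord 0 x = 0 := by
    by_contra h0
    exact hx ((mem_sqD x).2 h0)
  rcases h x hx' with h | ⟨k, hk⟩
  · exact absurd h hx0
  · exact ⟨dbl ^ (k : ℕ), pow_mem dbl_mem_K _, dbl_pow_none _, hk⟩

theorem cub_pow_none (k : ℕ) : (cubeTwist ^ k) none = none := by
  induction k with
  | zero => rfl
  | succ n ih => rw [pow_succ', Equiv.Perm.mul_apply, ih]; rfl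

theorem cub_15 : cubeTwist (some 15) = some 15 := by decide +kernel

theorem cub_pow_15 (k : ℕ) : (cubeTwist ^ k) (some 15) = some 15 := by
  induction k with
  | zero => rfl
  | succ n ih => rw [pow_succ', Equiv.Perm.mul_apply, ih, cub_15]

theorem step3 (x : GolayPt) (hx : x ∉ sqD) (hx0 : x ≠ none) (hx1 : x ≠ some 15) :
    ∃ g ∈ K, g none = none ∧ g (some 15) = some 15 ∧ g (some 5) = x := by
  have h : ∀ x : GolayPt, qrWord 0 x = 0 → x = none ∨ x = some 15 ∨
      (∃ k : Fin 5, (cubeTwist ^ (k : ℕ)) (some 5) = x) ∨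
      (∃ k : Fin 5, (cubeTwist ^ (k : ℕ)) (some 19) = x) := by
    decide +kernel
  have hx' : qrWord 0 x = 0 := by
    by_contra h0
    exact hx ((mem_sqD x).2 h0)
  rcases h x hx' with h | h | ⟨k, hk⟩ | ⟨k, hk⟩
  · exact absurd h hx0
  · exact absurd h hx1
  · exact ⟨cubeTwist ^ (k : ℕ), pow_mem cub_mem_K _, cub_pow_none _, cub_pow_15 _, hk⟩
  · refine ⟨cubeTwist ^ (k : ℕ) * ff, mul_mem (pow_mem cub_mem_K _) ff_mem_K, ?_, ?_, ?_⟩
    · rw [Equiv.Perm.mul_apply, ff_none, cub_pow_none]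
    · rw [Equiv.Perm.mul_apply, ff_15, cub_pow_15]
    · rw [Equiv.Perm.mul_apply, ff_5, hk]

theorem K_apply_mem {g : Equiv.Perm GolayPt} (hg : g ∈ K) (x : GolayPt) :
    g x ∉ sqD ↔ x ∉ sqD := by
  refine not_congr ⟨fun h => ?_, fun h => hg.2.1 x h⟩
  have := (inv_mem hg).2.1 _ h
  rwa [pinv_apply] at this

/-- `K` is transitive on ordered triples of points outside the dodecad of squares. -/
theorem base_to (x : Fin 3 ↪ GolayPt) (hx : ∀ i, x i ∉ sqD) :
    ∃ g ∈ K, g none = x 0 ∧ g (some 15) = x 1 ∧ g (some 5) = x 2 := by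
  obtain ⟨g, hg, h0⟩ := step1 (x 0) (hx 0)
  have hgi := inv_mem hg
  obtain ⟨h, hh, h1, h1'⟩ := step2 (g⁻¹ (x 1)) ((K_apply_mem hgi _).2 (hx 1)) (by
    rw [Ne, Equiv.Perm.inv_eq_iff_eq, h0]
    exact fun h => by simpa using x.injective h)
  have hghi := inv_mem (mul_mem hg hh)
  obtain ⟨k, hk, h2, h2', h2''⟩ := step3 ((g * h)⁻¹ (x 2)) ((K_apply_mem hghi _).2 (hx 2)) (by
    rw [Ne, Equiv.Perm.inv_eq_iff_eq, Equiv.Perm.mul_apply, h1, h0]
    exact fun h => by simpa using x.injective h) (by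
    rw [Ne, Equiv.Perm.inv_eq_iff_eq, Equiv.Perm.mul_apply, h1', papply_inv]
    exact fun h => by simpa using x.injective h)
  refine ⟨g * h * k, mul_mem (mul_mem hg hh) hk, ?_, ?_, ?_⟩
  · rw [Equiv.Perm.mul_apply, h2, Equiv.Perm.mul_apply, h1, h0]
  · rw [Equiv.Perm.mul_apply, h2', Equiv.Perm.mul_apply, h1', papply_inv]
  · rw [Equiv.Perm.mul_apply, h2'', papply_inv]

theorem three_transitive (x y : Fin 3 ↪ GolayPt) (hx : ∀ i, x i ∉ sqD) (hy : ∀ i, y i ∉ sqD) :
    ∃ g ∈ K, ∀ i, g (x i) = y i := by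
  obtain ⟨g, hg, h0, h1, h2⟩ := base_to x hx
  obtain ⟨h, hh, k0, k1, k2⟩ := base_to y hy
  refine ⟨h * g⁻¹, mul_mem hh (inv_mem hg), ?_⟩
  intro i
  rw [Equiv.Perm.mul_apply]
  fin_cases i
  · show h (g⁻¹ (x 0)) = y 0
    rw [← h0, pinv_apply, k0]
  · show h (g⁻¹ (x 1)) = y 1
    rw [← h1, pinv_apply, k1]
  · show h (g⁻¹ (x 2)) = y 2
    rw [← h2, pinv_apply, k2]

end Cfsg.Agent.SporadicA.M11Comp
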