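import Mathlib
import Cfsg.Agent.SporadicA.PermTab
set_option linter.all false

-- part: SporadicA/SimpleP
section
set_option autoImplicit false

/-!
A short simplicity criterion for finite groups, by elements of `p`-power order.
If every nontrivial normal subgroup `N` has index prime to `p`, then it contains all
elements of `p`-power order; so if the group is generated by products of such elements
it is simple. For permutation groups of degree `n` whose order has the same `p`-part as
`n`, it is enough that nontrivial normal subgroups are transitive.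
-/

namespace Cfsg.Agent.SporadicA.SimpleP

open MulAction

/-- If `p` does not divide the index of the normal subgroup `N`, every element of `p`-power
order lies in `N`. -/
theorem mem_of_pow_eq_one {G : Type*} [Group G] {N : Subgroup G} [N.Normal] {p : ℕ}
    (hp : p.Prime) (hN : ¬ p ∣ N.index) {g : G} {k : ℕ} (hg : g ^ (p ^ k) = 1) : g ∈ N := by
  have h1 : ((g : G ⧸ N)) ^ (p ^ k) = 1 := by
    rw [← QuotientGroup.mk_pow, hg]; rfl
  have h2 : orderOf (g : G ⧸ N) ∣ p ^ k := orderOf_dvd_of_pow_eq_one h1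
  have h3 : orderOf (g : G ⧸ N) ∣ N.index := by
    rw [Subgroup.index_eq_card]; exact orderOf_dvd_natCard _
  have h4 : Nat.Coprime (p ^ k) N.index := ((Nat.Prime.coprime_iff_not_dvd hp).2 hN).pow_left k
  have h5 : orderOf (g : G ⧸ N) = 1 := Nat.eq_one_of_dvd_coprimes h4 h2 h3
  rw [orderOf_eq_one_iff] at h5
  exact (QuotientGroup.eq_one_iff g).1 h5

/-- Abstract criterion. `S` generates, each `s ∈ S` is `u * v⁻¹` with `u`, `v` of `p`-power order,
and nontrivial normal subgroups have index prime to `p`. -/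
theorem isSimpleGroup_of_index {G : Type*} [Group G] [Nontrivial G] {p : ℕ} (hp : p.Prime)
    (S : Set G) (hS : Subgroup.closure S = ⊤)
    (hSp : ∀ s ∈ S, ∃ u v : G, (∃ k, u ^ (p ^ k) = 1) ∧ (∃ k, v ^ (p ^ k) = 1) ∧ s = u * v⁻¹)
    (hN : ∀ N : Subgroup G, N.Normal → N ≠ ⊥ → ¬ p ∣ N.index) : IsSimpleGroup G := by
  refine ⟨fun N hNn => ?_⟩
  by_cases hb : N = ⊥
  · exact Or.inl hb
  · right
    have hi := hN N hNn hb
    rw [eq_top_iff, ← hS, Subgroup.closure_le]
    intro s hs
    obtain ⟨u, v, ⟨k, hu⟩, ⟨l, hv⟩, rfl⟩ := hSp s hs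
    exact N.mul_mem (mem_of_pow_eq_one hp hi hu) (N.inv_mem (mem_of_pow_eq_one hp hi hv))

/-- If a finite group acts on `X` with `N` transitive, then `|X|` divides `|N|`. -/
theorem card_dvd_of_orbit_eq_univ {G X : Type*} [Group G] [MulAction G X] [Finite G]
    (N : Subgroup G) (x : X) (h : orbit N x = Set.univ) : Nat.card X ∣ Nat.card N := by
  have h1 : Nat.card (orbit N x) = Nat.card X := by
    rw [h]; exact Nat.card_univ
  rw [← h1, Nat.card_congr (orbitEquivQuotientStabilizer N x), ← Subgroup.index_eq_card]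
  exact Subgroup.index_dvd_card _

/-- Primitive-action criterion. `G` acts faithfully and transitively on `X`; every block
containing `x` which is invariant under the stabilizer of `x` and whose size divides `|X|` is
`{x}` or everything; the `p`-part of `|G|` divides `|X|`; `G` is generated by products `u v⁻¹` of
elements of `p`-power order. Then `G` is simple. -/
theorem isSimpleGroup_of_action {G X : Type*} [Group G] [Finite G] [Nontrivial G] [Finite X]
    [MulAction G X] [FaithfulSMul G X] [IsPretransitive G X] (x : X) {p : ℕ} (hp : p.Prime)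
    (hcard : ∀ k, Nat.card G = Nat.card X * k → ¬ p ∣ k)
    (hB : ∀ B : Set X, x ∈ B → (∀ h : G, h • x = x → ∀ b ∈ B, h • b ∈ B) →
      B.ncard ∣ Nat.card X → B = {x} ∨ B = Set.univ)
    (S : Set G) (hS : Subgroup.closure S = ⊤)
    (hSp : ∀ s ∈ S, ∃ u v : G, (∃ k, u ^ (p ^ k) = 1) ∧ (∃ k, v ^ (p ^ k) = 1) ∧ s = u * v⁻¹) :
    IsSimpleGroup G := by
  refine isSimpleGroup_of_index hp S hS hSp ?_
  intro N hNn hNb
  have hblock : IsBlock G (orbit N x) := IsBlock.orbit_of_normal x
  have hmem : x ∈ orbit N x := mem_orbit_self x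
  have hinv : ∀ h : G, h • x = x → ∀ b ∈ orbit N x, h • b ∈ orbit N x := by
    intro h hh b hb
    obtain ⟨n, rfl⟩ := hb
    have hc : h * (n : G) * h⁻¹ ∈ N := hNn.conj_mem n n.2 h
    refine ⟨⟨h * n * h⁻¹, hc⟩, ?_⟩
    change (h * (n : G) * h⁻¹) • x = h • (n : G) • x
    have : h⁻¹ • x = x := by rw [inv_smul_eq_iff, hh]
    rw [mul_smul, mul_smul, this]
  rcases hB (orbit N x) hmem hinv (hblock.ncard_dvd_card ⟨x, hmem⟩) with h | h
  · -- `N` fixes `x`, hence everything
    exfalso
    apply hNb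
    rw [eq_bot_iff]
    intro n hn
    rw [Subgroup.mem_bot]
    apply FaithfulSMul.eq_of_smul_eq_smul (α := X)
    intro y
    obtain ⟨g, rfl⟩ := exists_smul_eq G x y
    have hc : g⁻¹ * n * g ∈ N := by
      have := hNn.conj_mem n hn g⁻¹
      simpa using this
    have h2 : (g⁻¹ * n * g) • x = x := by
      have : (⟨g⁻¹ * n * g, hc⟩ : N) • x ∈ orbit N x := mem_orbit x _
      rw [h] at this
      exact this
    rw [one_smul]
    calc n • g • x = g • ((g⁻¹ * n * g) • x) := by
          rw [mul_smul, mul_smul, smul_inv_smul]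
      _ = g • x := by rw [h2]
  · -- `N` transitive
    have h1 : Nat.card X ∣ Nat.card N := card_dvd_of_orbit_eq_univ N x h
    obtain ⟨m, hm⟩ := h1
    have h2 : Nat.card G = Nat.card X * (m * N.index) := by
      rw [← mul_assoc, ← hm, Subgroup.card_mul_index]
    intro hd
    exact hcard _ h2 (Dvd.dvd.mul_left hd m)

end Cfsg.Agent.SporadicA.SimpleP
end

-- part: SporadicA/PermRank3
section
set_option autoImplicit false

/-!
Simplicity of rank 3 permutation groups given by tables: glue between `SimpleP` and `PermTab`.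
-/

namespace Cfsg.Agent.SporadicA.PermRank3

open Equiv Cfsg.Agent.SporadicA.PermTab

/-- Iterating a map which represents a permutation. -/
theorem pow_val {n : ℕ} {g : Perm (Fin n)} {f : ℕ → ℕ} (hg : ∀ i : Fin n, (g i : ℕ) = f i)
    (k : ℕ) (i : Fin n) : ((g ^ k) i : ℕ) = f^[k] i := by
  induction k generalizing i with
  | zero => rfl
  | succ k ih =>
    rw [pow_succ, Perm.mul_apply, ih, hg, Function.iterate_succ_apply]

theorem pow_eq_one_of_iter {n : ℕ} {g : Perm (Fin n)} {f : ℕ → ℕ}
    (hg : ∀ i : Fin n, (g i : ℕ) = f i) {k : ℕ}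
    (h : allB (fun i => Nat.beq (f^[k] i) i) n = true) : g ^ k = 1 := by
  ext i
  rw [pow_val hg, Perm.one_apply]
  exact Nat.eq_of_beq_eq_true ((allB_iff _ _).1 h i i.2)

/-- The permutation given by the table `S` is `u * v⁻¹` where `v` (a word `L` in tables of elements of
`G`) and `u` have order dividing `p`. -/
theorem exists_uv {n p : ℕ} {G : Subgroup (Perm (Fin n))} {s : Perm (Fin n)} (hs : s ∈ G)
    {S : ℕ} (hS : ∀ i : Fin n, (s i : ℕ) = lk S i) {L : List ℕ} (hL : ∀ P ∈ L, InG G P)
    (h1 : allB (fun i => Nat.beq ((ev L)^[p] i) i) n = true)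
    (h2 : allB (fun i => Nat.beq ((fun j => lk S (ev L j))^[p] i) i) n = true) :
    ∃ u ∈ G, ∃ v ∈ G, u ^ p = 1 ∧ v ^ p = 1 ∧ s = u * v⁻¹ := by
  obtain ⟨v, hv, hvi⟩ := exists_ev L hL
  refine ⟨s * v, G.mul_mem hs hv, v, hv, ?_, pow_eq_one_of_iter hvi h1, by group⟩
  refine pow_eq_one_of_iter (f := fun j => lk S (ev L j)) (fun i => ?_) h2
  rw [Perm.mul_apply, hS, hvi]

/-- Rank 3 permutation groups without blocks, generated by products of elements of order `p`. -/
theorem isSimpleGroup_rank3 {X : Type*} [Finite X] (G : Subgroup (Perm X)) (x : X)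
    (htr : ∀ v, ∃ g ∈ G, g x = v) (O1 O2 : Set X) (hx1 : x ∉ O1) (hx2 : x ∉ O2)
    (hcov : ∀ v, v = x ∨ v ∈ O1 ∨ v ∈ O2)
    (h1 : ∀ y ∈ O1, ∀ z ∈ O1, ∃ g ∈ ps G x, g y = z)
    (h2 : ∀ y ∈ O2, ∀ z ∈ O2, ∃ g ∈ ps G x, g y = z)
    (hd1 : ¬ (O1.ncard + 1 ∣ Nat.card X)) (hd2 : ¬ (O2.ncard + 1 ∣ Nat.card X))
    {p : ℕ} (hp : p.Prime) (hcard : ∀ k, Nat.card G = Nat.card X * k → ¬ p ∣ k)
    (S : Set (Perm X)) (hS : Subgroup.closure S = G)
    (hSp : ∀ s ∈ S, ∃ u ∈ G, ∃ v ∈ G, u ^ p = 1 ∧ v ^ p = 1 ∧ s = u * v⁻¹)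
    (hnt : Nat.card G ≠ 1) : IsSimpleGroup G := by
  have : Nontrivial G := by
    rw [← not_subsingleton_iff_nontrivial]
    intro h
    exact hnt (Nat.card_of_subsingleton 1)
  have : MulAction.IsPretransitive G X := by
    refine ⟨fun a b => ?_⟩
    obtain ⟨g, hg, hga⟩ := htr a
    obtain ⟨k, hk, hkb⟩ := htr b
    refine ⟨⟨k * g⁻¹, G.mul_mem hk (G.inv_mem hg)⟩, ?_⟩
    change (k * g⁻¹) a = b
    rw [Perm.mul_apply, ← hga, Perm.inv_eq_iff_eq.2 rfl, hkb]
  have hB : ∀ B : Set X, x ∈ B → (∀ h : G, h • x = x → ∀ b ∈ B, h • b ∈ B) →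
      B.ncard ∣ Nat.card X → B = {x} ∨ B = Set.univ := by
    intro B hxB hinv hdvd
    have key : ∀ O : Set X, (∀ y ∈ O, ∀ z ∈ O, ∃ g ∈ ps G x, g y = z) →
        (∃ y ∈ O, y ∈ B) → O ⊆ B := by
      rintro O hO ⟨y, hy, hyB⟩ z hz
      obtain ⟨g, hg, rfl⟩ := hO y hy z hz
      exact hinv ⟨g, hg.1⟩ hg.2 y hyB
    by_cases c1 : ∃ y ∈ O1, y ∈ B
    · by_cases c2 : ∃ y ∈ O2, y ∈ B
      · right
        rw [Set.eq_univ_iff_forall]
        intro v
        rcases hcov v with h | h | h
        · rw [h]; exact hxB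
        · exact key O1 h1 c1 h
        · exact key O2 h2 c2 h
      · exfalso
        have : B = insert x O1 := by
          ext v
          constructor
          · intro hv
            rcases hcov v with h | h | h
            · exact Or.inl h
            · exact Or.inr h
            · exact absurd ⟨v, h, hv⟩ c2
          · rintro (h | h)
            · rw [h]; exact hxB
            · exact key O1 h1 c1 h
        rw [this, Set.ncard_insert_of_notMem hx1 (Set.toFinite _)] at hdvd
        exact hd1 hdvd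
    · by_cases c2 : ∃ y ∈ O2, y ∈ B
      · exfalso
        have : B = insert x O2 := by
          ext v
          constructor
          · intro hv
            rcases hcov v with h | h | h
            · exact Or.inl h
            · exact absurd ⟨v, h, hv⟩ c1
            · exact Or.inr h
          · rintro (h | h)
            · rw [h]; exact hxB
            · exact key O2 h2 c2 h
        rw [this, Set.ncard_insert_of_notMem hx2 (Set.toFinite _)] at hdvd
        exact hd2 hdvd
      · left
        ext v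
        constructor
        · intro hv
          rcases hcov v with h | h | h
          · exact h
          · exact absurd ⟨v, h, hv⟩ c1
          · exact absurd ⟨v, h, hv⟩ c2
        · intro h
          rw [Set.mem_singleton_iff] at h
          rw [h]; exact hxB
  subst hS
  refine SimpleP.isSimpleGroup_of_action (G := Subgroup.closure S) (X := X) x hp hcard hB
    (Subtype.val ⁻¹' S) Subgroup.closure_closure_coe_preimage ?_
  · intro s hs
    obtain ⟨u, hu, v, hv, hup, hvp, hsuv⟩ := hSp s hs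
    have hu1 : (⟨u, hu⟩ : Subgroup.closure S) ^ (p ^ 1) = 1 := by
      apply Subtype.ext
      rw [Subgroup.coe_pow, pow_one]
      exact hup
    have hv1 : (⟨v, hv⟩ : Subgroup.closure S) ^ (p ^ 1) = 1 := by
      apply Subtype.ext
      rw [Subgroup.coe_pow, pow_one]
      exact hvp
    exact ⟨⟨u, hu⟩, ⟨v, hv⟩, ⟨1, hu1⟩, ⟨1, hv1⟩, Subtype.ext hsuv⟩

/-- The points with a code form an orbit of `G`. -/
theorem orb_pair {n : ℕ} {G : Subgroup (Perm (Fin n))} {y : Fin n} {P0 : ℕ} {L : List ℕ}
    {C : ℕ} (h0 : InG G P0) (hL : ∀ P ∈ L, InG G P) (h : chkOrb n y P0 L C = true)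
    (v w : Fin n) (hv : lk C v ≠ 2047) (hw : lk C w ≠ 2047) : ∃ g ∈ G, g v = w := by
  obtain ⟨g, hg, rfl⟩ := orb_of_chk h0 hL h v hv
  obtain ⟨k, hk, rfl⟩ := orb_of_chk h0 hL h w hw
  refine ⟨k * g⁻¹, G.mul_mem hk (G.inv_mem hg), ?_⟩
  rw [Perm.mul_apply, Perm.inv_eq_iff_eq.2 rfl]

theorem ncard_of_cntOrb {n C m : ℕ} (h : cntOrb n C m = true) :
    {v : Fin n | lk C v ≠ 2047}.ncard = m := by
  rw [← card_fin_of_cntB _ n m h, ← Set.ncard_coe_finset]
  congr 1
  ext v
  simp only [Set.mem_ofPred_eq, Finset.coe_filter, Finset.mem_univ, true_and]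
  constructor
  · intro hv
    have : Nat.beq (lk C v) 2047 = false := by
      rw [← Bool.not_eq_true]
      exact fun hb => hv (Nat.eq_of_beq_eq_true hb)
    rw [this]; rfl
  · intro hv he
    rw [he] at hv
    exact absurd hv (by decide)

end Cfsg.Agent.SporadicA.PermRank3
end
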