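import Mathlib
import Cfsg.Agent.SporadicA.PermRank3
set_option linter.all false

-- part: SporadicA/J2Data
section
set_option autoImplicit false

/-!
Data for the Hall-Janko group on 100 points: permutation tables (11 bits per entry) of five
involutions a, b, c, d, e, an odd automorphism t of the rank 3 graph, the adjacency bit matrix, short
words fixing base points and orbit certificates. Nothing is proved here.
-/

namespace Cfsg.Agent.SporadicA.J2Data

/-- the involution a -/
def tA : Nat := 0xc6184310530400a82e05d0b61682c8240a81542b0570c0148288280941382684709013c2204b0981142304908410c1b84007e0f41f03c0760d81c0390820e81a0350300c81882105c0bc1682c04c1780b8500360ac0a05804408c1805f03c07c0e01d04e0640d0330520540b0250100480880f0200280600d0120380581300c01c0280400400c00001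

/-- the involution b -/
def tB : Nat := 0xae100208600be1781a83c08a09c2c0590c60602a82505e0cc280510381282604d096138140210560a82d84407a1083086207c0fc2185c0740ec1b03806e0e42e8340a40b8180310a60c80f01508e118148490b40982a0230480882401f0400b40e84f03406c0c85602c05c160140180340700a01e0440901300a0400300800e0240580000600401004

/-- the involution c -/
def tC : Nat := 0xc6184310570600542e05d0b61682c8140c0118228530a8148288190921382684b098110278470901582a84a0861081f03f0801041b83b0780d41c83807a0d01d0360520c81885f0460881682c03e0581981a03a0781202505e0b8100210560981381b0380a0280170300a82f05801c0440901001e04c0600d0120200580a0020000200500600803806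

/-- the involution d -/
def tD : Nat := 0x221401405f0c0020120580240ec1e05c01c10c2100a0400fc2006208e1342704a0521302081709e030068370ac154248510a40cc0c0590b409c0d01908806c1182207c0b41601503e0781903103804c258610740740805d06a0d00b05305e0b81302b06c0e41c03d0900841800f05416c3182502815c228460001500085e0060080200500e0180480b

/-- the involution e -/
def tE : Nat := 0xb61702e855032050308620c60b41601508a14c300460ac0c81883008e1342704a0881302404909e1502b84b0720e01a83c0760e81b04007e0f8218420680f42083705c148288500300cc2d0590380941102103c0741501602e0a41401a03609c1302b03e0802f82f0460902c05e00c014020020060000580901a0040600701004c0901101e0400500e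

/-- an odd involution of the graph -/
def tT : Nat := 0xc60e81b0130401780f81e0b61682c8190a800400057010014020070180fc2004c0380340101d08e0940a00305205c1b84d09c0b81783c0761881302b082184078100120c41901507a0f8088120700a8218060360e42301a0460880b05f0ba1702404b04e0902c00b084084180450c00b01683406a0382504f030028198530a00a0290510881242b055

/-- the graph -/
def adj : Nat := 0x60606198c047e328039878a30873225740041362a911407b818b242c8b0006aa41628b83e420d4043244d2c807c5a21893513432c4c52cd1884402c1899265a32bb8192c2082059208919964d8aa8922002536883483e4270c133700408a9c1444b07b810360686126386f84cc006303c9389e600d830e0a40c1884f30ec806e611847704030061b03c4e08155734a1b5100908c8c0b02545a8072a194a826460ec6120080c8054a65aca996922dc44c01045092d1462666e1a52c801424250949a181529be156a20e40520bab5000c295d89299298e9860027b8130833801ba30e7e00798c1800f40c0068453c051883c673424189640a3190b26ac0080126ca8137c94aa0a56876600619b07303300184f0c1769f000d980635000661b0c3d510302447429d0a04aac8694ae0c380060ca0125c3332c92649b310103454b4488c133116a51a001040a2b24e7b14a4d056c1132040a08d81d2d34cb0629a200a0038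7050d7928d5549585810152069614a91aa944170720109409891ed61d5502c680b2eb0800a2c1338a4422d524998443a21a0072cab089c29c04d904c33840035464c463c1858e0a98d0d501221180c755d1264047f1e40018370712c08e01f01860862701c4e0861077644331995414900e01d5c08a936815068ad92800940dab34c02961a1000f70e3808131ae087e01f00c1f66901e000f41136064433cc2299c48c00c002aeb23681510dc4c24e400268079999c04d08c3c443c208ba2f86001858e118148b201118117fb224a9a8b024085a4a00d0585d552961aa42511a3b00058ad112ad1264c83a003d500844f422cc4a9a8b9580952885c280a0e42c8c6180e61606d84703940c6063a0ce3f00e61183083230019780c3403d45433516003885070e6942d85290d8692828908c4415a5429a216a46a1024c14b2c606ae0866606c1b06c08c380630c38390779827886013006178a0c01cc9035aa23482090cb227293924a27854850411964892156d64a00a99213309d82012c35112110a1e950d51658884aa207d00c514a47169e261004319611ac300a34c1b443a402ca582642068d300b58a10cb06cb0cc421011cae129a29703610543074284a0f4a15812f20b022255635823893612c0204270da5099202b5c2c136900034a8e15c585424cc320aae04cb01309232916d5084c946cc810a13041d5801ca99427254d4414250c6294b80a409560d98261e42052651c415c0b2a0ae1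200d8584d892a803c90c87610e90201baa2a2090e8238aa85c9c205054d8c4160703814cca45061a13526c8c24188cc686424011da5543a2a1559131542320c66180b0c9242292a1d6905181e6050154a5212933e2894a9480a0a10e46a390604c92d2431a040f22c3c83e52ad12b12284565488002648090012f398bef010f70000f0808618d01fc463bec089000338021d259e472214b323c0004d9c384ba0c23db13001c30008e414b24aa8ce0142565570081563acca03044956d096a200a817fa3526422064a0c694400a42eb5cd48a0449c10e294807100225d25154a949882aa2e0021af3434514220651b116b1834005d44b4cc511908e99811008a845078b0151193a0245fd4a100320e0268b122a66aaa63d100088e968d0398b8c8c1096e010094e0e1291fc41060ef086440004b2345bc23d458078231850008a42da4e472595784449c0002a1192e64a942655819a2940055181a178ce0aab9520436000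

/-- ranks of the vertices by signature -/
def rk : Nat := 0x4e15c2f00c0c60dc140080641083105901e1302b0020721382482003c0480982103607c000040601502f806048060160410c20ec0704d0960282506000a0341782b0441542e85c06c05c24040054024188030220b42904404a0d4278470320701e81004601c1c01d0520b80d05a0860d01303c0021441f0150a616c228460660580583a0b01400a03f

/-- vertices in order of signature -/
def od : Nat := 0xbe1641f83808a184188300140502c0030c415419046016094070020421481e0560760e42882d040020048240261682002c0000340e81007c010298190bc0bc1101200e16c1484706a058130410680ac0b85d0c6044118430360cc2605009413c0c01e0960540f84205c0180600109a1381381c0ae0f41b06000a0e81505c0341101b84805015007849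

/-- base points and numbers of look-alikes -/
def base : List (Nat × Nat) := [(0, 100), (13, 36), (29, 14), (45, 4), (58, 3), (68, 2), (30, 1), (27, 1), (39, 1), (9, 1), (78, 1)]

/-- product of the word below -/
def u0 : Nat := 0x2613c2882b0460342c82f0180d42e83a0201081b8120601043083e09a12c2201b05407c1e83309c0440706208a05c250190521182901403a0a02801c034168170250860982f01805a0841105f04e0281003f0721240783b06c170160570641502401e0780e01a0400980c42380802a154300580a60900b05b00418c0285600e00c0300901600402000

/-- the word of u0, first letter acting first -/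
def u0w : List Nat := [tA, tB, tD, tC]

/-- product of the word below -/
def u1 : Nat := 0x4a1880d0600be1780e05c0a80dc2a85808a11c2c85b096098038500860d01104c0a6128048310ac1182b83b09e0f00080303a0f81a8420880e8140050b40181e84e0660842402e05e0c00b0170480501003904e1483182b0301341902903e0541f85d004184020230580b40f02a01e028080110260340700c016048248080a20d81c01908006c20800

/-- the word of u1, first letter acting first -/
def u1w : List Nat := [tB, tE, tD, tC, tB, tD, tE]

/-- product of the word below -/
def v0 : Nat := 0xaa1880f06008409c1805c02a0501701608814c3182c0ac0642502f08a0601f00c070144248480801182785702217c050470721341a81f0200b41f84b06e04c1e83404406c0705d0a01641d0540560a8148280bc03c0e0240460cc090200781840e82506405c2904e0341602d85a06c0842183b04c0c40684c00e104048080160100180600a00401000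

/-- the word of v0, first letter acting first -/
def v0w : List Nat := [tA, tC, tB, tD, tC, tB, tA, tD, tC]

/-- product of the word below -/
def v1 : Nat := 0x2e0f8298460101802903a0b2084150270ae1740a05506e0d00203309a11c0e84c0b4128010110380bc2282004402802806048188078120521700b003064004098560a01840802e0bc0c02206309e08c1c82d0b0138160430b60fc0d0280180541582600e12c0485404a0ec0f0180780d4188480840380685f0160f40d81f0321042004906c1441c000

/-- the word of v1, first letter acting first -/
def v1w : List Nat := [tB, tC, tD, tC, tD, tE, tD, tC, tB, tD, tE]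

/-- product of the word below -/
def w0 : Nat := 0x413c150270940cc308200120d40f0310880d00f81c02a0c00983f03a100228250be0601e8390a20442685c0860980a0120a01880503c0b00e8148540a41080d05b0200c8120070901741404e0560b81782d02c0301083b036180020570c60641f00f04600c0584b0920882980800c0b02300e070178068360b205c2b00506e11c2084c0b415400800

/-- the word of w0, first letter acting first -/
def w0w : List Nat := [tA, tB, tA, tB, tC, tD, tC, tB, tD, tE, tD, tC, tB, tA, tB, tC, tD, tC, tB, tD, tE, tD, tC, tD, tC, tE]

/-- orbit certificate -/
def c0 : Nat := 0x360ec1e01a04608c1983b0461301c8320260a81101b0441041e03408614c2484207612c1e03307408c0d8440660ac2204309610c1d8430941081e0340841101d8430700e41882a0520c02183107406c180340881081182a0620e01582b0660ec258430780d0160310520881502b0280700a01c0480300a01c0160500981c0240280900903004404000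

/-- orbit certificate -/
def c1 : Nat := 0xffe0a3ff840ffe023ff830ffffffff840033ffffffffffffffff860043ffc1c7ffffffffff819ffe14008031031ffffffff052163fffff0500e01cffffffffffffff041ffc087ff051ffc10fff073ffc14030081fffff830ffe0e3ff820fffffc107fffffffffffffffe063ffffffffffc24048ffe024007fffffffffffffffffffffffffffffffffff

/-- orbit certificate -/
def c1b : Nat := 0xa3ffc20fff071ffc247ff0a20a020fffffe0c01c048070040247ffffe123ff8180820c0107ff073ffffffffffe0a004821fffffc0c031ffffffff8310620a410850ffe083ff830ffe0c3ff829ffe127fffffffe064247ff061ffc14fff050127ff8500220e01c828041ffc20040092103fffff081fffff858020124148380a208014030030020007ff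

/-- orbit certificate -/
def c2 : Nat := 0x73ffffffff071ffffffffffe0c7ffffffffffc20849fffffc10fffffe0e7ff8480400a008fff061ffffffffffe0c410829fffffc10029ffffffff819ffe0240cffffffffffffffffffffff841fffffffffffffe10424ffffffffc147ff061fffff849ffe0a7ff840061fffff838020087fffff073fffff841ffe0a7ff839ffe0800c019022020007ff

/-- orbit certificate -/
def c3 : Nat := 0x11fffffffffffffffffffffffffffffffffffc0c7fffffffffffffffffffffffffffffffffffffffffffffffffffffffffffffffffffffffffffffffffffffffffffffffffffffffffffffffffffffffffffffffffffffffffffffffff021ffffffffffffffffffffffffffffffffffffffffffffffffffffffffffffffffffffffffffffe003fffff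

/-- a word of order 5, also after the letter a -/
def fA : List Nat := [tB, tA, tB, tC, tB]

/-- a word of order 5, also after the letter b -/
def fB : List Nat := [tA, tB, tC]

/-- a word of order 5, also after the letter c -/
def fC : List Nat := [tA, tB]

/-- a word of order 5, also after the letter d -/
def fD : List Nat := [tB, tC, tD, tC, tB, tE, tD, tC, tB, tD, tC, tD, tE]

/-- a word of order 5, also after the letter e -/
def fE : List Nat := [tB, tC, tB, tD, tC, tB, tD, tC, tD, tE, tD, tC, tD]

end Cfsg.Agent.SporadicA.J2Data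
end

-- part: SporadicA/J2Hundred
section
set_option autoImplicit false

/-!
The Hall-Janko group as a permutation group on 100 points: order 604800 and simplicity.
-/

namespace Cfsg.Agent.SporadicA.J2Hundred

open Equiv Cfsg.Agent.SporadicA.PermTab Cfsg.Agent.SporadicA.PermRank3 Cfsg.Agent.SporadicA.J2Data

noncomputable section

theorem iA : chkInv 100 tA tA = true := by decide +kernel
theorem iB : chkInv 100 tB tB = true := by decide +kernel
theorem iC : chkInv 100 tC tC = true := by decide +kernel
theorem iD : chkInv 100 tD tD = true := by decide +kernel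
theorem iE : chkInv 100 tE tE = true := by decide +kernel
theorem iT : chkInv 100 tT tT = true := by decide +kernel

theorem kA : chkAutBlk 100 adj tA 0 100 = true := by decide +kernel
theorem kB : chkAutBlk 100 adj tB 0 100 = true := by decide +kernel
theorem kC : chkAutBlk 100 adj tC 0 100 = true := by decide +kernel
theorem kD : chkAutBlk 100 adj tD 0 100 = true := by decide +kernel
theorem kE : chkAutBlk 100 adj tE 0 100 = true := by decide +kernel
theorem kT : chkAutBlk 100 adj tT 0 100 = true := by decide +kernel

/-- the involution a -/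
def pA : Perm (Fin 100) := mkPerm tA tA iA
/-- the involution b -/
def pB : Perm (Fin 100) := mkPerm tB tB iB
/-- the involution c -/
def pC : Perm (Fin 100) := mkPerm tC tC iC
/-- the involution d -/
def pD : Perm (Fin 100) := mkPerm tD tD iD
/-- the involution e -/
def pE : Perm (Fin 100) := mkPerm tE tE iE
/-- the odd involution -/
def pT : Perm (Fin 100) := mkPerm tT tT iT

/-- the five generators -/
def gens : Set (Perm (Fin 100)) := {pA, pB, pC, pD, pE}

/-- the Hall-Janko group on 100 points -/
def G : Subgroup (Perm (Fin 100)) := Subgroup.closure gens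

theorem mA : pA ∈ G := Subgroup.subset_closure (Or.inl rfl)
theorem mB : pB ∈ G := Subgroup.subset_closure (Or.inr (Or.inl rfl))
theorem mC : pC ∈ G := Subgroup.subset_closure (Or.inr (Or.inr (Or.inl rfl)))
theorem mD : pD ∈ G := Subgroup.subset_closure (Or.inr (Or.inr (Or.inr (Or.inl rfl))))
theorem mE : pE ∈ G := Subgroup.subset_closure (Or.inr (Or.inr (Or.inr (Or.inr rfl))))

theorem inA : InG G tA := ⟨pA, mA, fun _ => rfl⟩
theorem inB : InG G tB := ⟨pB, mB, fun _ => rfl⟩
theorem inC : InG G tC := ⟨pC, mC, fun _ => rfl⟩
theorem inD : InG G tD := ⟨pD, mD, fun _ => rfl⟩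
theorem inE : InG G tE := ⟨pE, mE, fun _ => rfl⟩

theorem inAll {L : List ℕ} (hL : ∀ P ∈ L, P ∈ [tA, tB, tC, tD, tE]) : ∀ P ∈ L, InG G P := by
  intro P hP
  have h := hL P hP
  simp only [List.mem_cons, List.not_mem_nil, or_false] at h
  rcases h with rfl | rfl | rfl | rfl | rfl
  exacts [inA, inB, inC, inD, inE]

/-- all letters of the word are generators -/
def sub (L : List ℕ) : Bool := List.rec true (fun P _ ih =>
  band (notMemB P [tA, tB, tC, tD, tE] == false) ih) L

theorem inAll' {L : List ℕ} (h : sub L = true) : ∀ P ∈ L, InG G P := by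
  apply inAll
  induction L with
  | nil => exact fun P hP => absurd hP List.not_mem_nil
  | cons Q L ih =>
    have : sub (Q :: L) = band (notMemB Q [tA, tB, tC, tD, tE] == false) (sub L) := rfl
    rw [this, band_eq_true] at h
    intro P hP
    rcases List.mem_cons.1 hP with h1 | h1
    · rw [h1]
      by_contra h2
      have h3 := (notMemB_iff _ _).2 h2
      rw [h3] at h
      exact absurd h.1 (by decide)
    · exact ih h.2 P h1

/-! ### strong generators -/

theorem inu0 : InG G u0 := InG.word (inAll' (L := u0w) (by decide +kernel)) (by decide +kernel)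
theorem inu1 : InG G u1 := InG.word (inAll' (L := u1w) (by decide +kernel)) (by decide +kernel)
theorem inv0 : InG G v0 := InG.word (inAll' (L := v0w) (by decide +kernel)) (by decide +kernel)
theorem inv1 : InG G v1 := InG.word (inAll' (L := v1w) (by decide +kernel)) (by decide +kernel)
theorem inw0 : InG G w0 := InG.word (inAll' (L := w0w) (by decide +kernel)) (by decide +kernel)

/-- first base point -/
abbrev x0 : Fin 100 := 0
/-- second base point -/
abbrev x1 : Fin 100 := 13
/-- third base point -/
abbrev x2 : Fin 100 := 1
/-- fourth base point -/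
abbrev x3 : Fin 100 := 2

theorem psu0 : InG (ps G x0) u0 := inu0.ps (by decide +kernel)
theorem psu1 : InG (ps G x0) u1 := inu1.ps (by decide +kernel)
theorem psv0 : InG (ps (ps G x0) x1) v0 := (inv0.ps (by decide +kernel)).ps (by decide +kernel)
theorem psv1 : InG (ps (ps G x0) x1) v1 := (inv1.ps (by decide +kernel)).ps (by decide +kernel)
theorem psw0 : InG (ps (ps (ps G x0) x1) x2) w0 :=
  ((inw0.ps (by decide +kernel)).ps (by decide +kernel)).ps (by decide +kernel)

theorem or0 : chkOrb 100 x0 tA [tA, tB, tC, tD, tE] c0 = true := by decide +kernel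
theorem or1 : chkOrb 100 x1 u0 [u0, u1] c1 = true := by decide +kernel
theorem or1b : chkOrb 100 x2 u0 [u0, u1] c1b = true := by decide +kernel
theorem or2 : chkOrb 100 x2 v0 [v0, v1] c2 = true := by decide +kernel
theorem or3 : chkOrb 100 x3 w0 [w0] c3 = true := by decide +kernel
theorem cn0 : cntOrb 100 c0 100 = true := by decide +kernel
theorem cn1 : cntOrb 100 c1 36 = true := by decide +kernel
theorem cn1b : cntOrb 100 c1b 63 = true := by decide +kernel
theorem cn2 : cntOrb 100 c2 42 = true := by decide +kernel
theorem cn3 : cntOrb 100 c3 4 = true := by decide +kernel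

theorem mem2 {P Q : ℕ} {H : Subgroup (Perm (Fin 100))} (hP : InG H P) (hQ : InG H Q) :
    ∀ R ∈ [P, Q], InG H R := by
  intro R hR
  simp only [List.mem_cons, List.not_mem_nil, or_false] at hR
  rcases hR with rfl | rfl
  exacts [hP, hQ]

theorem mem1 {P : ℕ} {H : Subgroup (Perm (Fin 100))} (hP : InG H P) :
    ∀ R ∈ [P], InG H R := by
  intro R hR
  rw [List.mem_singleton] at hR
  rw [hR]; exact hP

theorem card_ge : 604800 ≤ Nat.card G := by
  have h3 : 4 * 1 ≤ Nat.card (ps (ps (ps G x0) x1) x2) :=
    card_ge_of_chk psw0 (mem1 psw0) or3 cn3 Nat.card_pos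
  have h2 : 42 * (4 * 1) ≤ Nat.card (ps (ps G x0) x1) :=
    card_ge_of_chk psv0 (mem2 psv0 psv1) or2 cn2 h3
  have h1 : 36 * (42 * (4 * 1)) ≤ Nat.card (ps G x0) :=
    card_ge_of_chk psu0 (mem2 psu0 psu1) or1 cn1 h2
  have h0 : 100 * (36 * (42 * (4 * 1))) ≤ Nat.card G :=
    card_ge_of_chk inA (inAll fun _ h => h) or0 cn0 h1
  exact h0

/-! ### elements of order five -/

theorem uvA : ∃ u ∈ G, ∃ v ∈ G, u ^ 5 = 1 ∧ v ^ 5 = 1 ∧ pA = u * v⁻¹ :=
  exists_uv mA (fun _ => rfl) (inAll' (L := fA) (by decide +kernel)) (by decide +kernel)
    (by decide +kernel)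
theorem uvB : ∃ u ∈ G, ∃ v ∈ G, u ^ 5 = 1 ∧ v ^ 5 = 1 ∧ pB = u * v⁻¹ :=
  exists_uv mB (fun _ => rfl) (inAll' (L := fB) (by decide +kernel)) (by decide +kernel)
    (by decide +kernel)
theorem uvC : ∃ u ∈ G, ∃ v ∈ G, u ^ 5 = 1 ∧ v ^ 5 = 1 ∧ pC = u * v⁻¹ :=
  exists_uv mC (fun _ => rfl) (inAll' (L := fC) (by decide +kernel)) (by decide +kernel)
    (by decide +kernel)
theorem uvD : ∃ u ∈ G, ∃ v ∈ G, u ^ 5 = 1 ∧ v ^ 5 = 1 ∧ pD = u * v⁻¹ :=
  exists_uv mD (fun _ => rfl) (inAll' (L := fD) (by decide +kernel)) (by decide +kernel)
    (by decide +kernel)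
theorem uvE : ∃ u ∈ G, ∃ v ∈ G, u ^ 5 = 1 ∧ v ^ 5 = 1 ∧ pE = u * v⁻¹ :=
  exists_uv mE (fun _ => rfl) (inAll' (L := fE) (by decide +kernel)) (by decide +kernel)
    (by decide +kernel)

theorem uvAll : ∀ s ∈ gens, ∃ u ∈ G, ∃ v ∈ G, u ^ 5 = 1 ∧ v ^ 5 = 1 ∧ s = u * v⁻¹ := by
  intro s hs
  rcases hs with rfl | rfl | rfl | rfl | rfl
  exacts [uvA, uvB, uvC, uvD, uvE]

theorem sign_gens : ∀ s ∈ gens, Perm.sign s = 1 := by
  intro s hs
  obtain ⟨u, -, v, -, hu, hv, rfl⟩ := uvAll s hs
  rw [Perm.sign_mul, Perm.sign_inv, sign_eq_one_of_odd_pow (by decide) hu,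
    sign_eq_one_of_odd_pow (by decide) hv, one_mul]

theorem sign_G : ∀ g ∈ G, Perm.sign g = 1 := by
  have h : G ≤ (Perm.sign : Perm (Fin 100) →* ℤˣ).ker := by
    rw [G, Subgroup.closure_le]
    exact fun s hs => sign_gens s hs
  exact fun g hg => h hg

/-! ### upper bound -/

theorem aut_le : G ≤ autG 100 adj := by
  rw [G, Subgroup.closure_le]
  intro s hs
  rcases hs with rfl | rfl | rfl | rfl | rfl
  · exact mkPerm_mem_autG iA (rowsOK_of_chk (chkInv_lt iA) (chkInv_inj iA) kA)
  · exact mkPerm_mem_autG iB (rowsOK_of_chk (chkInv_lt iB) (chkInv_inj iB) kB)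
  · exact mkPerm_mem_autG iC (rowsOK_of_chk (chkInv_lt iC) (chkInv_inj iC) kC)
  · exact mkPerm_mem_autG iD (rowsOK_of_chk (chkInv_lt iD) (chkInv_inj iD) kD)
  · exact mkPerm_mem_autG iE (rowsOK_of_chk (chkInv_lt iE) (chkInv_inj iE) kE)

theorem pT_mem : pT ∈ autG 100 adj :=
  mkPerm_mem_autG iT (rowsOK_of_chk (chkInv_lt iT) (chkInv_inj iT) kT)

theorem chain_ok : chainB 100 adj [] base = true := by decide +kernel
theorem dist_ok : chkDist 100 adj (maskL (lastF [] base)) rk od = true := by decide +kernel

theorem card_aut_le : Nat.card (autG 100 adj) ≤ 1209600 := by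
  have h := card_autG_le chain_ok dist_ok
  have h2 : prodC base = 1209600 := by decide +kernel
  rwa [h2] at h

/-- the number of moved points of the odd involution -/
theorem cntT : cntB (fun v => nbeq (lk tT v) v) 100 86 = true := by decide +kernel

theorem sign_T : Perm.sign pT = -1 := by
  have h1 : pT * pT = 1 := by
    ext i
    exact (chkInv_spec iT i).2.2.1
  have h2 : pT.support.card = 86 := by
    rw [← card_fin_of_cntB _ 100 86 cntT]
    refine congrArg Finset.card ?_
    ext v
    rw [Perm.mem_support, Finset.mem_filter, nbeq_iff]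
    exact ⟨fun h => ⟨Finset.mem_univ _, fun h' => h (Fin.ext h')⟩,
      fun h h' => h.2 (Fin.ext_iff.1 h')⟩
  rw [sign_of_involution h1, h2]
  decide

theorem card_G : Nat.card G = 604800 := by
  have h1 := two_mul_card_le aut_le sign_G pT_mem sign_T
  have h2 := card_aut_le
  have h3 := card_ge
  omega

/-! ### simplicity -/

theorem c_cover : allB (fun v => cond (Nat.beq v 0) true (cond (Nat.beq (lk c1 v) 2047)
    (nbeq (lk c1b v) 2047) true)) 100 = true := by decide +kernel

theorem trans (v : Fin 100) : ∃ g ∈ G, g x0 = v := by
  refine orb_of_chk inA (inAll fun _ h => h) or0 v ?_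
  have : allB (fun v => nbeq (lk c0 v) 2047) 100 = true := by decide +kernel
  exact (nbeq_iff _ _).1 ((allB_iff _ _).1 this v v.2)

theorem simple : IsSimpleGroup G := by
  refine isSimpleGroup_rank3 (p := 5) G x0 trans {v : Fin 100 | lk c1 v ≠ 2047}
    {v : Fin 100 | lk c1b v ≠ 2047} ?_ ?_ ?_ ?_ ?_ ?_ ?_ (by norm_num) ?_ gens rfl uvAll ?_
  · intro h
    exact h (by decide +kernel)
  · intro h
    exact h (by decide +kernel)
  · intro v
    have h := (allB_iff _ _).1 c_cover v v.2
    cases h1 : Nat.beq (v : ℕ) 0 with
    | true => exact Or.inl (Fin.ext (Nat.eq_of_beq_eq_true h1))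
    | false =>
      rw [h1, cond_false] at h
      cases h2 : Nat.beq (lk c1 v) 2047 with
      | true =>
        rw [h2, cond_true] at h
        exact Or.inr (Or.inr ((nbeq_iff _ _).1 h))
      | false => exact Or.inr (Or.inl (Nat.ne_of_beq_eq_false h2))
  · intro y hy z hz
    exact orb_pair psu0 (mem2 psu0 psu1) or1 y z hy hz
  · intro y hy z hz
    exact orb_pair psu0 (mem2 psu0 psu1) or1b y z hy hz
  · rw [ncard_of_cntOrb cn1, Nat.card_eq_fintype_card, Fintype.card_fin]
    decide
  · rw [ncard_of_cntOrb cn1b, Nat.card_eq_fintype_card, Fintype.card_fin]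
    decide
  · intro k hk
    rw [card_G, Nat.card_eq_fintype_card, Fintype.card_fin] at hk
    have : k = 6048 := by omega
    rw [this]; decide
  · rw [card_G]; decide

end

end Cfsg.Agent.SporadicA.J2Hundred
end
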