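import Cfsg.Agent.SporadicA.SteinerCount
set_option linter.all false

/-!
# Counting in a Steiner system S(3, 6, 22)

Throughout `F` is the finite set of blocks.
-/

set_option autoImplicit false

namespace Cfsg.Agent.SporadicA.SteinerThreeSix

open Finset Cfsg Cfsg.Agent.SporadicA.SteinerCount

variable {α : Type*} [Fintype α] [DecidableEq α] {B : Set (Finset α)} {F : Finset (Finset α)}

omit [DecidableEq α] in
/-- There are 77 blocks. -/
theorem card_F (hα : Fintype.card α = 22) (hB : IsSteinerSystem 3 6 B)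
    (hF : ∀ b, b ∈ F ↔ b ∈ B) : F.card = 77 := by
  have h := card_blocks hB F hF
  rw [hα] at h
  have h1 : Nat.choose 6 3 = 20 := by decide
  have h2 : Nat.choose 22 3 = 1540 := by decide
  rw [h1, h2] at h
  omega

/-- Every point is on 21 blocks. -/
theorem card_point (hα : Fintype.card α = 22) (hB : IsSteinerSystem 3 6 B)
    (hF : ∀ b, b ∈ F ↔ b ∈ B) (x : α) : (F.filter (fun d => x ∈ d)).card = 21 := by
  have h := card_blocks_containing hB F hF {x} (by simp)
  rw [hα, card_singleton] at h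
  simp only [singleton_subset_iff] at h
  have h1 : Nat.choose (6 - 1) (3 - 1) = 10 := by decide
  have h2 : Nat.choose (22 - 1) (3 - 1) = 210 := by decide
  rw [h1, h2] at h
  omega

/-- Every pair of points is on 5 blocks. -/
theorem card_pair (hα : Fintype.card α = 22) (hB : IsSteinerSystem 3 6 B)
    (hF : ∀ b, b ∈ F ↔ b ∈ B) {x y : α} (hxy : x ≠ y) :
    (F.filter (fun d => x ∈ d ∧ y ∈ d)).card = 5 := by
  have h := card_blocks_containing hB F hF {x, y} (by rw [Finset.card_pair hxy]; omega)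
  rw [hα, Finset.card_pair hxy] at h
  simp only [insert_subset_iff, singleton_subset_iff] at h
  have h1 : Nat.choose (6 - 2) (3 - 2) = 4 := by decide
  have h2 : Nat.choose (22 - 2) (3 - 2) = 20 := by decide
  rw [h1, h2] at h
  omega

/-- Mixed moments of the intersections with two sets. -/
theorem sum_mul (hα : Fintype.card α = 22) (hB : IsSteinerSystem 3 6 B)
    (hF : ∀ b, b ∈ F ↔ b ∈ B) (b c : Finset α) :
    ∑ d ∈ F, (d ∩ b).card * (d ∩ c).card = 5 * b.card * c.card + 16 * (b ∩ c).card := by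
  rw [sum_inter_mul]
  have h1 : ∀ x ∈ b, ∑ y ∈ c, (F.filter (fun d => x ∈ d ∧ y ∈ d)).card =
      5 * c.card + if x ∈ c then 16 else 0 := by
    intro x _
    have h2 : ∀ y ∈ c, (F.filter (fun d => x ∈ d ∧ y ∈ d)).card =
        5 + if x = y then 16 else 0 := by
      intro y _
      by_cases hxy : x = y
      · subst hxy
        simp only [and_self, if_true]
        exact card_point hα hB hF x
      · rw [card_pair hα hB hF hxy, if_neg hxy]
    rw [sum_congr rfl h2, sum_add_distrib, sum_const, smul_eq_mul, sum_ite_eq, mul_comm]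
  rw [sum_congr rfl h1, sum_add_distrib, sum_const, smul_eq_mul]
  have h3 : ∑ x ∈ b, (if x ∈ c then 16 else 0) = 16 * (b ∩ c).card := by
    rw [← sum_filter, sum_const, smul_eq_mul, filter_mem_eq_inter, mul_comm]
  rw [h3]
  ring

/-- First moments of the intersections. -/
theorem sum_one (hα : Fintype.card α = 22) (hB : IsSteinerSystem 3 6 B)
    (hF : ∀ b, b ∈ F ↔ b ∈ B) (b : Finset α) :
    ∑ d ∈ F, (d ∩ b).card = 21 * b.card := by
  rw [sum_inter, sum_congr rfl (fun x _ => card_point hα hB hF x), sum_const, smul_eq_mul,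
    mul_comm]

/-- Two distinct blocks meet in 0 or 2 points. -/
theorem inter_card (hα : Fintype.card α = 22) (hB : IsSteinerSystem 3 6 B)
    (hF : ∀ b, b ∈ F ↔ b ∈ B) {b c : Finset α} (hb : b ∈ F) (hc : c ∈ F) (hbc : c ≠ b) :
    (c ∩ b).card = 0 ∨ (c ∩ b).card = 2 := by
  have hb6 : b.card = 6 := hB.1 b ((hF b).1 hb)
  have hlt : ∀ d ∈ F.erase b, (d ∩ b).card < 3 := by
    intro d hd
    rw [mem_erase] at hd
    exact card_inter_lt hB ((hF d).1 hd.2) ((hF b).1 hb) hd.1
  have hs1 : ∑ d ∈ F, (d ∩ b).card = 126 := by rw [sum_one hα hB hF, hb6]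
  have hs2 : ∑ d ∈ F, (d ∩ b).card * (d ∩ b).card = 276 := by
    rw [sum_mul hα hB hF, inter_self, hb6]
  rw [← add_sum_erase F _ hb] at hs1 hs2
  simp only [inter_self, hb6] at hs1 hs2
  -- the sum of f (2 - f) over the other blocks vanishes
  have hz : ∑ d ∈ F.erase b, ((d ∩ b).card * (2 - (d ∩ b).card) : ℕ) = 0 := by
    have h3 : ∑ d ∈ F.erase b, ((d ∩ b).card * (2 - (d ∩ b).card) : ℕ) +
        ∑ d ∈ F.erase b, (d ∩ b).card * (d ∩ b).card = 2 * ∑ d ∈ F.erase b, (d ∩ b).card := by
      rw [← sum_add_distrib, mul_sum]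
      refine sum_congr rfl fun d hd => ?_
      have := hlt d hd
      interval_cases (d ∩ b).card <;> rfl
    omega
  have h4 := (sum_eq_zero_iff.1 hz) c (mem_erase.2 ⟨hbc, hc⟩)
  have h5 := hlt c (mem_erase.2 ⟨hbc, hc⟩)
  interval_cases h : (c ∩ b).card
  · left; rfl
  · simp at h4
  · right; rfl

/-- Exactly 16 blocks are disjoint from a given block. -/
theorem card_disjoint (hα : Fintype.card α = 22) (hB : IsSteinerSystem 3 6 B)
    (hF : ∀ b, b ∈ F ↔ b ∈ B) {b : Finset α} (hb : b ∈ F) :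
    (F.filter (fun d => Disjoint b d)).card = 16 := by
  have hb6 : b.card = 6 := hB.1 b ((hF b).1 hb)
  have hs1 : ∑ d ∈ F, (d ∩ b).card = 126 := by rw [sum_one hα hB hF, hb6]
  rw [← add_sum_erase F _ hb] at hs1
  simp only [inter_self, hb6] at hs1
  have hcard : (F.erase b).card = 76 := by
    rw [card_erase_of_mem hb, card_F hα hB hF]
  have h1 : F.filter (fun d => Disjoint b d) = (F.erase b).filter (fun d => Disjoint b d) := by
    ext d
    simp only [mem_filter, mem_erase]
    constructor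
    · rintro ⟨hd, hbd⟩
      refine ⟨⟨?_, hd⟩, hbd⟩
      rintro rfl
      rw [disjoint_self_iff_empty] at hbd
      rw [hbd] at hb6
      simp at hb6
    · rintro ⟨⟨_, hd⟩, hbd⟩
      exact ⟨hd, hbd⟩
  have h2 : ∑ d ∈ F.erase b, ((d ∩ b).card + if Disjoint b d then 2 else 0) =
      ∑ d ∈ F.erase b, 2 := by
    refine sum_congr rfl fun d hd => ?_
    rw [mem_erase] at hd
    have hdisj : Disjoint b d ↔ (d ∩ b).card = 0 := by
      rw [card_eq_zero, ← disjoint_iff_inter_eq_empty, disjoint_comm]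
    rcases inter_card hα hB hF hb hd.2 hd.1 with h | h
    · rw [if_pos (hdisj.2 h), h]
    · rw [if_neg (by rw [hdisj, h]; omega), h]
  rw [sum_add_distrib, sum_const, ← sum_filter, sum_const, smul_eq_mul, smul_eq_mul, hcard] at h2
  rw [h1]
  omega

/-- The number of blocks disjoint from both of two distinct blocks `b`, `c`. -/
theorem card_disjoint_both (hα : Fintype.card α = 22) (hB : IsSteinerSystem 3 6 B)
    (hF : ∀ b, b ∈ F ↔ b ∈ B) {b c : Finset α} (hb : b ∈ F) (hc : c ∈ F) (hbc : b ≠ c) :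
    (F.filter (fun d => Disjoint b d ∧ Disjoint c d)).card = 2 * (b ∩ c).card := by
  have hb6 : b.card = 6 := hB.1 b ((hF b).1 hb)
  have hc6 : c.card = 6 := hB.1 c ((hF c).1 hc)
  have hdisj : ∀ b d : Finset α, Disjoint b d ↔ (d ∩ b).card = 0 := by
    intro b d
    rw [card_eq_zero, ← disjoint_iff_inter_eq_empty, disjoint_comm]
  have hsb : ∑ d ∈ F, (d ∩ b).card = 126 := by rw [sum_one hα hB hF, hb6]
  have hsc : ∑ d ∈ F, (d ∩ c).card = 126 := by rw [sum_one hα hB hF, hc6]
  have hsbc : ∑ d ∈ F, (d ∩ b).card * (d ∩ c).card = 180 + 16 * (b ∩ c).card := by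
    rw [sum_mul hα hB hF, hb6, hc6]
  have hF77 : F.card = 77 := card_F hα hB hF
  -- integer computation of ∑ (2 - |d ∩ b|) (2 - |d ∩ c|)
  have hz : ∑ d ∈ F, (2 - ((d ∩ b).card : ℤ)) * (2 - ((d ∩ c).card : ℤ)) =
      -16 + 16 * ((b ∩ c).card : ℤ) := by
    have h1 : ∀ d ∈ F, (2 - ((d ∩ b).card : ℤ)) * (2 - ((d ∩ c).card : ℤ)) =
        4 - 2 * ((d ∩ b).card : ℤ) - 2 * ((d ∩ c).card : ℤ) +
          (((d ∩ b).card * (d ∩ c).card : ℕ) : ℤ) := by
      intro d _
      push_cast
      ring
    rw [sum_congr rfl h1, sum_add_distrib, sum_sub_distrib, sum_sub_distrib, sum_const,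
      ← mul_sum, ← mul_sum, ← Nat.cast_sum, ← Nat.cast_sum, ← Nat.cast_sum, hsb, hsc, hsbc, hF77]
    push_cast
    ring
  have hc' : c ∈ F.erase b := mem_erase.2 ⟨hbc.symm, hc⟩
  rw [← add_sum_erase F _ hb, ← add_sum_erase (F.erase b) _ hc'] at hz
  simp only [inter_self, hb6, hc6] at hz
  have h2 : ∑ d ∈ (F.erase b).erase c, (2 - ((d ∩ b).card : ℤ)) * (2 - ((d ∩ c).card : ℤ)) =
      4 * (((F.erase b).erase c).filter (fun d => Disjoint b d ∧ Disjoint c d)).card := by
    rw [card_filter, Nat.cast_sum, mul_sum]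
    refine sum_congr rfl fun d hd => ?_
    rw [mem_erase, mem_erase] at hd
    have hd1 := inter_card hα hB hF hb hd.2.2 hd.2.1
    have hd2 := inter_card hα hB hF hc hd.2.2 hd.1
    rcases hd1 with h | h <;> rcases hd2 with h' | h' <;> simp [h, h', hdisj b d, hdisj c d]
  have h3 : F.filter (fun d => Disjoint b d ∧ Disjoint c d) =
      ((F.erase b).erase c).filter (fun d => Disjoint b d ∧ Disjoint c d) := by
    ext d
    simp only [mem_filter, mem_erase]
    constructor
    · rintro ⟨hd, hbd, hcd⟩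
      refine ⟨⟨?_, ?_, hd⟩, hbd, hcd⟩
      · rintro rfl
        rw [disjoint_self_iff_empty] at hcd
        rw [hcd] at hc6
        simp at hc6
      · rintro rfl
        rw [disjoint_self_iff_empty] at hbd
        rw [hbd] at hb6
        simp at hb6
    · rintro ⟨⟨_, _, hd⟩, hbd, hcd⟩
      exact ⟨hd, hbd, hcd⟩
  rw [h2, inter_comm c b, ← h3] at hz
  have h4 : ((F.filter (fun d => Disjoint b d ∧ Disjoint c d)).card : ℤ) =
      2 * ((b ∩ c).card : ℤ) := by
    push_cast at hz
    linarith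
  exact_mod_cast h4

/-- The number of blocks through a point `a` disjoint from a block `b` not containing `a`. -/
theorem card_point_disjoint (hα : Fintype.card α = 22) (hB : IsSteinerSystem 3 6 B)
    (hF : ∀ b, b ∈ F ↔ b ∈ B) {a : α} {b : Finset α} (hb : b ∈ F) (hab : a ∉ b) :
    (F.filter (fun d => a ∈ d ∧ Disjoint b d)).card = 6 := by
  have hb6 : b.card = 6 := hB.1 b ((hF b).1 hb)
  have hdisj : ∀ b d : Finset α, Disjoint b d ↔ (d ∩ b).card = 0 := by
    intro b d
    rw [card_eq_zero, ← disjoint_iff_inter_eq_empty, disjoint_comm]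
  have h1 : ∑ d ∈ F, (d ∩ {a}).card * (d ∩ b).card = 30 := by
    rw [sum_mul hα hB hF, hb6, card_singleton, singleton_inter_of_notMem hab, card_empty]
  have h2 : ∑ d ∈ F, ((d ∩ {a}).card * (d ∩ b).card +
      2 * (if a ∈ d ∧ Disjoint b d then 1 else 0)) =
      ∑ d ∈ F, 2 * (if a ∈ d then 1 else 0) := by
    refine sum_congr rfl fun d hd => ?_
    by_cases had : a ∈ d
    · have hne : d ≠ b := by
        rintro rfl
        exact hab had
      have h3 : (d ∩ {a}).card = 1 := by
        rw [inter_singleton_of_mem had, card_singleton]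
      rw [h3]
      rcases inter_card hα hB hF hb hd hne with h | h <;> simp [h, had, hdisj b d]
    · have h3 : (d ∩ {a}).card = 0 := by
        rw [inter_singleton_of_notMem had, card_empty]
      rw [h3]
      simp [had]
  rw [sum_add_distrib, h1, ← mul_sum, ← mul_sum, ← card_filter, ← card_filter,
    card_point hα hB hF a] at h2
  omega

end Cfsg.Agent.SporadicA.SteinerThreeSix
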