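import Mathlib
import Cfsg.Prelude.Def_Sporadic
import Cfsg.Agent.SmallSimple.Parity
import Cfsg.Agent.SmallSimple.PrimeOrderData
import Cfsg.Agent.SmallSimple.SylowPrimeCount
set_option linter.all false

/-!
Sylow 11- and 5-subgroups in a simple group of order 7920.
-/

set_option autoImplicit false
set_option linter.unusedSectionVars false

namespace Cfsg.Agent.SporadicA.M11Sylow

open Subgroup MulAction
open Cfsg.Agent.SmallSimple.PrimeOrderData Cfsg.Agent.SmallSimple.SylowPrimeCount

/-- A group acting freely: its order divides the number of points. -/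
theorem card_dvd_of_free {P T : Type*} [Group P] [Finite P] [MulAction P T] [Finite T]
    (hfree : ∀ (g : P) (x : T), g • x = x → g = 1) : Nat.card P ∣ Nat.card T := by
  classical
  have := Fintype.ofFinite P
  have := Fintype.ofFinite T
  have : Fintype (Quotient (orbitRel P T)) := Fintype.ofFinite _
  rw [Nat.card_eq_fintype_card, Nat.card_eq_fintype_card,
    MulAction.card_eq_sum_card_group_div_card_stabilizer P T]
  apply Finset.dvd_sum
  intro ω _
  have h1 : Fintype.card (stabilizer P ω.out) = 1 := by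
    rw [Fintype.card_eq_one_iff]
    exact ⟨1, fun g => Subtype.ext (hfree g.1 _ g.2)⟩
  rw [h1, Nat.div_one]

/-- A subgroup acting freely on an invariant set: its order divides the size of the set. -/
theorem card_dvd_of_free_on {G X : Type*} [Group G] [MulAction G X] (Q : Subgroup G) [Finite Q]
    (S : Set X) [Finite S] (hinv : ∀ q ∈ Q, ∀ s ∈ S, q • s ∈ S)
    (hfree : ∀ q ∈ Q, ∀ s ∈ S, q • s = s → q = 1) : Nat.card Q ∣ Nat.card S := by
  let act : MulAction Q S :=
    { smul := fun g x => ⟨(g : G) • x.1, hinv g g.2 x.1 x.2⟩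
      one_smul := fun x => Subtype.ext (one_smul G x.1)
      mul_smul := fun a b x => Subtype.ext (mul_smul (a : G) (b : G) x.1) }
  apply card_dvd_of_free
  intro g x hgx
  have h1 : (g : G) • x.1 = x.1 := congrArg Subtype.val hgx
  exact Subtype.ext (hfree g g.2 x.1 x.2 h1)

section

variable {G : Type*} [Group G] [Finite G]

theorem isPrime_eleven : Fact (Nat.Prime 11) := ⟨by norm_num⟩

theorem isPrime_five : Fact (Nat.Prime 5) := ⟨by norm_num⟩

theorem isPrime_two : Fact (Nat.Prime 2) := ⟨by norm_num⟩

theorem centralizer_zpowers_eq (x : G) :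
    centralizer ((zpowers x : Subgroup G) : Set G) = centralizer ({x} : Set G) := by
  rw [zpowers_eq_closure, centralizer_closure]

/-- The data attached to an element of order 11 in a simple group of order 7920. -/
theorem data_eleven (hG : Cfsg.IsM11 G) {x : G} (hx : orderOf x = 11) :
    Nat.card (centralizer ({x} : Set G)) = 11 ∧
      Nat.card (normalizer ((zpowers x : Subgroup G) : Set G)) = 55 ∧
      Nat.card (Sylow 11 G) = 144 := by
  have hs : IsSimpleGroup G := hG.1
  have hcard : Nat.card G = 7920 := hG.2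
  have := isPrime_eleven
  obtain ⟨e, c, he, he1, hc, hn, hs11⟩ := exists_data (G := G) (p := 11) (m := 720)
    (by rw [hcard]) (by norm_num) (by norm_num) x hx
  obtain ⟨hd1, hd2, hd3, hd4⟩ := card_sylow_prop (G := G) (p := 11) (m := 720)
    (by rw [hcard]) (by norm_num) (by norm_num)
  have he' : e ∈ Nat.divisors 10 := Nat.mem_divisors.2 ⟨he, by norm_num⟩
  have he'' : e = 1 ∨ e = 2 ∨ e = 5 ∨ e = 10 := by
    have h1 : Nat.divisors 10 = {1, 2, 5, 10} := by decide +kernel
    rw [h1] at he'
    simpa using he'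
  have hn' : Nat.card (Sylow 11 G) = 12 ∨ Nat.card (Sylow 11 G) = 45 ∨
      Nat.card (Sylow 11 G) = 144 := by
    have h1 : Nat.card (Sylow 11 G) ∈ (Nat.divisors 720).filter (fun n => n % 11 = 1) :=
      Finset.mem_filter.2 ⟨Nat.mem_divisors.2 ⟨hd1, by norm_num⟩, hd2⟩
    have h2 : (Nat.divisors 720).filter (fun n => n % 11 = 1) = {1, 12, 45, 144} := by
      decide +kernel
    rw [h2] at h1
    simp only [Finset.mem_insert, Finset.mem_singleton] at h1
    rcases h1 with h | h | h | h
    · exact absurd h hd3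
    · exact Or.inl h
    · exact Or.inr (Or.inl h)
    · exact Or.inr (Or.inr h)
  obtain ⟨P, hP⟩ := exists_sylow_eq (G := G) (p := 11) (m := 720) (by rw [hcard]) (by norm_num) x hx
  have hcentP : centralizer (P : Set G) = centralizer ({x} : Set G) := by
    rw [← centralizer_zpowers_eq]
    exact congrArg (fun K : Subgroup G => centralizer (K : Set G)) hP
  -- an involution centralising `x`
  have hinv : ∀ u : G, orderOf u = 2 → u ∈ centralizer ({x} : Set G) →
      Nat.card (Sylow 11 G) ≠ 12 ∧ (Nat.card (Sylow 11 G) = 45 →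
        Nat.card (fixedBy (Sylow 11 G) u) = 1) := by
    intro u hu hux
    have h1 := card_fixedBy_modEq_one P (u := u) (by rw [hcentP]; exact hux)
    have hu1 : u ≠ 1 := by
      intro h
      rw [h, orderOf_one] at hu
      exact absurd hu (by norm_num)
    have h2 := card_fixedBy_lt hd3 hu1
    obtain ⟨k, hk⟩ := Cfsg.Agent.SmallSimple.Parity.card_modEq_four (G := G) (X := Sylow 11 G)
      (by rw [hcard]; norm_num) u (by rw [← hu]; exact pow_orderOf_eq_one u)
    have h3 : Nat.card {Q : Sylow 11 G // u • Q = Q} = Nat.card (fixedBy (Sylow 11 G) u) := rfl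
    rw [h3] at hk
    generalize Nat.card (fixedBy (Sylow 11 G) u) = f at *
    generalize Nat.card (Sylow 11 G) = n at *
    unfold Nat.ModEq at h1
    constructor
    · intro hn12
      omega
    · intro hn45
      omega
  have hcontra12 : ∀ c', c = 2 * c' → Nat.card (Sylow 11 G) ≠ 12 := by
    intro c' hc'
    have := isPrime_two
    have h2 : 2 ∣ Nat.card (centralizer ({x} : Set G)) := by
      rw [hc, hc']
      exact ⟨11 * c', by ring⟩
    obtain ⟨u, hu⟩ := exists_prime_orderOf_dvd_card' (G := centralizer ({x} : Set G)) 2 h2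
    exact (hinv (u : G) (by rw [orderOf_coe, hu]) u.2).1
  have hcontra45 : c = 8 → Nat.card (Sylow 11 G) ≠ 45 := by
    intro hc8 hn45
    have := isPrime_two
    have h2 : 2 ^ 3 ∣ Nat.card (centralizer ({x} : Set G)) := by
      rw [hc, hc8]
      norm_num
    obtain ⟨Q, hQ⟩ := Sylow.exists_subgroup_card_pow_prime (G := centralizer ({x} : Set G)) 2 h2
    let Q' : Subgroup G := Q.map (centralizer ({x} : Set G)).subtype
    have hQ' : Nat.card Q' = 8 := by
      rw [Subgroup.card_map_of_injective (Subgroup.subtype_injective _), hQ]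
      norm_num
    have hQle : Q' ≤ centralizer ({x} : Set G) := by
      rintro _ ⟨q, _, rfl⟩
      exact q.2
    have hfix : ∀ q ∈ Q', q • P = P := by
      intro q hq
      rw [Sylow.smul_eq_iff_mem_normalizer]
      have h3 : q ∈ centralizer (P : Set G) := by
        rw [hcentP]
        exact hQle hq
      exact centralizer_le_normalizer' (P : Subgroup G) h3
    have hdvd : Nat.card Q' ∣ Nat.card ({R : Sylow 11 G | R ≠ P} : Set (Sylow 11 G)) := by
      apply card_dvd_of_free_on
      · intro q hq R hR h4
        apply hR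
        have h5 : q • R = q • P := by rw [hfix q hq]; exact h4
        exact smul_left_cancel q h5
      · intro q hq R hR h4
        by_contra hq1
        -- a power of `q` is an involution fixing `R` and `P`
        have h6 : orderOf q ∣ 2 ^ 3 := by
          have := orderOf_dvd_natCard (⟨q, hq⟩ : Q')
          rw [hQ', Subgroup.orderOf_mk] at this
          exact this
        obtain ⟨j, hj, hj2⟩ := (Nat.dvd_prime_pow Nat.prime_two).1 h6
        have hj0 : j ≠ 0 := by
          rintro rfl
          rw [pow_zero] at hj2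
          exact hq1 (orderOf_eq_one_iff.1 hj2)
        obtain ⟨i, rfl⟩ : ∃ i, j = i + 1 := ⟨j - 1, by omega⟩
        have h7 : orderOf (q ^ (2 ^ i)) = 2 := by
          rw [orderOf_pow_of_dvd (by positivity) (by rw [hj2]; exact pow_dvd_pow 2 (by omega)), hj2,
            pow_succ]
          exact Nat.mul_div_cancel_left 2 (by positivity)
        have h8 : q ^ (2 ^ i) ∈ Q' := Q'.pow_mem hq _
        have h9 := (hinv _ h7 (hQle h8)).2 hn45
        have h10 : R ∈ fixedBy (Sylow 11 G) (q ^ (2 ^ i)) := by
          have : q ∈ stabilizer G R := h4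
          exact (stabilizer G R).pow_mem this _
        have h11 : P ∈ fixedBy (Sylow 11 G) (q ^ (2 ^ i)) := hfix _ h8
        have h12 := (Nat.card_eq_one_iff_unique.1 h9).1
        exact hR (congrArg Subtype.val (h12.elim ⟨R, h10⟩ ⟨P, h11⟩))
    rw [hQ'] at hdvd
    have h13 : Nat.card ({R : Sylow 11 G | R ≠ P} : Set (Sylow 11 G)) = 44 := by
      have h14 : ({R : Sylow 11 G | R ≠ P} : Set (Sylow 11 G)) = Set.univ \ {P} := by
        ext R; simp
      rw [Nat.card_coe_set_eq, h14, Set.ncard_sdiff_singleton_of_mem (Set.mem_univ P),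
        Set.ncard_univ, hn45]
    rw [h13] at hdvd
    omega
  rcases hn' with h | h | h
  · exfalso
    rw [h] at hs11
    rcases he'' with h1 | h1 | h1 | h1
    · exact he1 h1
    · subst h1; exact hcontra12 15 (by omega) h
    · subst h1; exact hcontra12 6 (by omega) h
    · subst h1; exact hcontra12 3 (by omega) h
  · exfalso
    rw [h] at hs11
    rcases he'' with h1 | h1 | h1 | h1
    · exact he1 h1
    · subst h1; exact hcontra45 (by omega) h
    · subst h1; omega
    · subst h1; omega
  · rw [h] at hs11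
    rcases he'' with h1 | h1 | h1 | h1
    · exact absurd h1 he1
    · subst h1; omega
    · subst h1
      have hc1 : c = 1 := by omega
      subst hc1
      exact ⟨hc, hn, h⟩
    · subst h1; omega

theorem card_centralizer_eleven (hG : Cfsg.IsM11 G) {x : G} (hx : orderOf x = 11) :
    Nat.card (Subgroup.centralizer ({x} : Set G)) = 11 := (data_eleven hG hx).1

theorem mem_centralizer_eleven_iff (hG : Cfsg.IsM11 G) {x : G} (hx : orderOf x = 11) :
    Subgroup.centralizer ({x} : Set G) = zpowers x := by
  symm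
  apply Subgroup.eq_of_le_of_card_ge
  · rw [zpowers_le, mem_centralizer_singleton_iff]
  · rw [card_centralizer_eleven hG hx, Nat.card_zpowers, hx]

/-- Conjugation by an element of the normaliser of `⟨x⟩` raises `x` to a power. -/
theorem exists_pow_of_mem_normalizer {x g : G} {n : ℕ} (hx : orderOf x = n) (hn : 0 < n)
    (hg : g ∈ normalizer ((zpowers x : Subgroup G) : Set G)) :
    ∃ k < n, g * x * g⁻¹ = x ^ k := by
  classical
  have h1 : g * x * g⁻¹ ∈ zpowers x :=
    (mem_normalizer_iff.1 hg x).1 (mem_zpowers x)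
  obtain ⟨k, hk⟩ := (mem_zpowers_iff_mem_range_orderOf).1 h1 |> Finset.mem_image.1
  rw [Finset.mem_range, hx] at hk
  exact ⟨k, hk.1, hk.2.symm⟩

theorem conj_pow_pow {x g : G} {k : ℕ} (h : g * x * g⁻¹ = x ^ k) (j : ℕ) :
    g ^ j * x * (g ^ j)⁻¹ = x ^ (k ^ j) := by
  induction j with
  | zero => simp
  | succ j ih =>
    have h1 : g ^ (j + 1) * x * (g ^ (j + 1))⁻¹ = g * (g ^ j * x * (g ^ j)⁻¹) * g⁻¹ := by
      rw [pow_succ', mul_inv_rev]
      group
    rw [h1, ih, ← conj_pow, h, ← pow_mul, pow_succ, mul_comm]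

theorem isConj_pow_three (hG : Cfsg.IsM11 G) {x : G} (hx : orderOf x = 11) : IsConj x (x ^ 3) := by
  obtain ⟨hc, hn, -⟩ := data_eleven hG hx
  have := isPrime_five
  obtain ⟨h, hh⟩ := exists_prime_orderOf_dvd_card'
    (G := normalizer ((zpowers x : Subgroup G) : Set G)) 5 (by rw [hn]; norm_num)
  obtain ⟨k, hk, hk2⟩ := exists_pow_of_mem_normalizer hx (by norm_num) h.2
  have h5 : (h : G) ^ 5 = 1 := by
    have : (h : normalizer ((zpowers x : Subgroup G) : Set G)) ^ 5 = 1 := by
      rw [← hh]; exact pow_orderOf_eq_one h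
    rw [← Subgroup.coe_pow, this, Subgroup.coe_one]
  have h6 := conj_pow_pow hk2 5
  rw [h5] at h6
  have h7 : x ^ 1 = x ^ (k ^ 5) := by simpa using h6
  rw [pow_eq_pow_iff_modEq, hx] at h7
  have hk1 : k ≠ 1 := by
    rintro rfl
    have h8 : (h : G) ∈ centralizer ({x} : Set G) := by
      rw [mem_centralizer_singleton_iff]
      rw [pow_one] at hk2
      exact mul_inv_eq_iff_eq_mul.1 hk2
    have h9 : orderOf (h : G) ∣ 11 := by
      have := orderOf_dvd_natCard (⟨(h : G), h8⟩ : centralizer ({x} : Set G))
      rwa [hc, Subgroup.orderOf_mk] at this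
    rw [orderOf_coe, hh] at h9
    norm_num at h9
  have h10 : ∀ k < 11, 1 % 11 = k ^ 5 % 11 → k ≠ 1 → ∃ j < 5, k ^ j % 11 = 3 := by
    decide
  obtain ⟨j, -, hj⟩ := h10 k hk h7 hk1
  have h11 := conj_pow_pow hk2 j
  rw [isConj_iff]
  refine ⟨(h : G) ^ j, ?_⟩
  rw [h11, pow_eq_pow_iff_modEq, hx]
  exact hj

theorem not_isConj_inv (hG : Cfsg.IsM11 G) {x : G} (hx : orderOf x = 11) : ¬ IsConj x x⁻¹ := by
  obtain ⟨hc, hn, -⟩ := data_eleven hG hx
  intro h
  obtain ⟨g, hg⟩ := isConj_iff.1 h
  have hgN : g ∈ normalizer ((zpowers x : Subgroup G) : Set G) := by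
    rw [mem_normalizer_iff]
    intro y
    constructor
    · intro hy
      obtain ⟨k, rfl⟩ := mem_zpowers_iff.1 hy
      rw [← conj_zpow, hg]
      exact (zpowers x).zpow_mem ((zpowers x).inv_mem (mem_zpowers x)) k
    · intro hy
      obtain ⟨k, hk⟩ := mem_zpowers_iff.1 hy
      have h1 : y = (g⁻¹ * x * g) ^ k := by
        have h2 : (g⁻¹ * x * g) ^ k = g⁻¹ * x ^ k * g := by
          have := conj_zpow (i := k) (a := g⁻¹) (b := x)
          simpa using this
        rw [h2, hk]
        group
      have h3 : g⁻¹ * x * g = x⁻¹ := by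
        have h4 : x = (g * x * g⁻¹)⁻¹ := by rw [hg, inv_inv]
        calc g⁻¹ * x * g = g⁻¹ * (g * x * g⁻¹)⁻¹ * g := by rw [← h4]
          _ = x⁻¹ := by group
      rw [h1, h3]
      exact (zpowers x).zpow_mem ((zpowers x).inv_mem (mem_zpowers x)) k
  have h55 : g ^ 55 = 1 := by
    have h1 : (⟨g, hgN⟩ : normalizer ((zpowers x : Subgroup G) : Set G)) ^ 55 = 1 := by
      rw [← hn]; exact pow_card_eq_one'
    have := congrArg Subtype.val h1
    simpa using this
  have h2 : ∀ j : ℕ, g ^ (2 * j) * x * (g ^ (2 * j))⁻¹ = x := by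
    intro j
    induction j with
    | zero => simp
    | succ j ih =>
      have h3 : g ^ (2 * (j + 1)) * x * (g ^ (2 * (j + 1)))⁻¹ =
          g * (g * (g ^ (2 * j) * x * (g ^ (2 * j))⁻¹) * g⁻¹) * g⁻¹ := by
        have : g ^ (2 * (j + 1)) = g * (g * g ^ (2 * j)) := by
          rw [← pow_succ', ← pow_succ']; ring_nf
        rw [this]
        group
      rw [h3, ih, hg]
      have h4 : g * x⁻¹ * g⁻¹ = (g * x * g⁻¹)⁻¹ := by group
      rw [h4, hg, inv_inv]
  have h3 := h2 27
  have h4 : g ^ (2 * 27) = g⁻¹ := by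
    have : g ^ (2 * 27) * g = 1 := by rw [← pow_succ]; exact h55
    exact eq_inv_of_mul_eq_one_left this
  rw [h4, inv_inv] at h3
  have h5 : x = x⁻¹ := by
    calc x = g * (g⁻¹ * x * g) * g⁻¹ := by group
      _ = g * x * g⁻¹ := by rw [h3]
      _ = x⁻¹ := hg
  have h6 : x ^ 2 = 1 := by
    rw [pow_two]
    nth_rewrite 2 [h5]
    exact mul_inv_cancel x
  have h7 := orderOf_dvd_of_pow_eq_one h6
  rw [hx] at h7
  norm_num at h7

/-- If `⟨y⟩` of order 5 is self-centralising with normaliser of order 20, then `y ~ y^2`. -/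
theorem isConj_sq_of {y : G} (hc : Nat.card (centralizer ({y} : Set G)) = 5)
    (hn : Nat.card (normalizer ((zpowers y : Subgroup G) : Set G)) = 20) (hy : orderOf y = 5) :
    IsConj y (y ^ 2) := by
  have := isPrime_two
  obtain ⟨Q, hQ⟩ := Sylow.exists_subgroup_card_pow_prime
    (G := normalizer ((zpowers y : Subgroup G) : Set G)) 2 (n := 2) (by rw [hn]; norm_num)
  -- elements of `Q` act faithfully
  have hcent : ∀ q ∈ Q, (q : G) ∈ centralizer ({y} : Set G) → q = 1 := by
    intro q hq h
    have h1 := orderOf_dvd_natCard (⟨(q : G), h⟩ : centralizer ({y} : Set G))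
    rw [hc, Subgroup.orderOf_mk, orderOf_coe] at h1
    have h2 := orderOf_dvd_natCard (⟨q, hq⟩ : Q)
    rw [hQ, Subgroup.orderOf_mk] at h2
    have h3 : orderOf q ∣ 1 := by
      have h4 : Nat.gcd 5 (2 ^ 2) = 1 := by norm_num
      rw [← h4]
      exact Nat.dvd_gcd h1 h2
    exact orderOf_eq_one_iff.1 (Nat.dvd_one.1 h3)
  -- the map `Q → {1,2,3,4}` is injective
  have hk : ∀ q : Q, ∃ k < 5, ((q : normalizer ((zpowers y : Subgroup G) : Set G)) : G) * y *
      ((q : normalizer ((zpowers y : Subgroup G) : Set G)) : G)⁻¹ = y ^ k := fun q =>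
    exists_pow_of_mem_normalizer hy (by norm_num)
      (q : normalizer ((zpowers y : Subgroup G) : Set G)).2
  choose k hk5 hk using hk
  have hk0 : ∀ q, k q ≠ 0 := by
    intro q h
    have := hk q
    rw [h, pow_zero, mul_inv_eq_one] at this
    have h1 : y = 1 := by simpa using this
    rw [h1, orderOf_one] at hy
    norm_num at hy
  have hinj : Function.Injective k := by
    intro q1 q2 h
    have h1 := hk q1
    rw [h, ← hk q2] at h1
    have h2 : q2⁻¹ * q1 = 1 := by
      apply Subtype.ext
      apply hcent _ (q2⁻¹ * q1).2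
      rw [mem_centralizer_singleton_iff]
      set g1 : G := ((q1 : normalizer ((zpowers y : Subgroup G) : Set G)) : G)
      set g2 : G := ((q2 : normalizer ((zpowers y : Subgroup G) : Set G)) : G)
      show (g2⁻¹ * g1) * y = y * (g2⁻¹ * g1)
      calc (g2⁻¹ * g1) * y = g2⁻¹ * (g1 * y * g1⁻¹) * g1 := by group
        _ = g2⁻¹ * (g2 * y * g2⁻¹) * g1 := by rw [h1]
        _ = y * (g2⁻¹ * g1) := by group
    exact (inv_mul_eq_one.1 h2).symm
  have hsurj : ∃ q, k q = 2 := by
    classical
    have := Fintype.ofFinite Q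
    by_contra hcon
    push Not at hcon
    have h1 : (Finset.univ.image k) ⊆ ({1, 3, 4} : Finset ℕ) := by
      intro i hi
      obtain ⟨q, -, rfl⟩ := Finset.mem_image.1 hi
      have h2 := hk5 q
      have h3 := hk0 q
      have h4 := hcon q
      simp only [Finset.mem_insert, Finset.mem_singleton]
      omega
    have h2 := Finset.card_le_card h1
    rw [Finset.card_image_of_injective _ hinj, Finset.card_univ, ← Nat.card_eq_fintype_card,
      hQ] at h2
    norm_num at h2
  obtain ⟨q, hq⟩ := hsurj
  rw [isConj_iff]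
  exact ⟨_, by rw [hk q, hq]⟩

/-- The data attached to an element of order 5 in a simple group of order 7920: the normaliser of
the subgroup it generates has order 20, the centraliser order 5 or 10. -/
theorem data_five (hG : Cfsg.IsM11 G) {y : G} (hy : orderOf y = 5) :
    (Nat.card (centralizer ({y} : Set G)) = 5 ∨ Nat.card (centralizer ({y} : Set G)) = 10) ∧
      Nat.card (normalizer ((zpowers y : Subgroup G) : Set G)) = 20 ∧
      Nat.card (Sylow 5 G) = 396 ∧ Nat.card (fixedBy (Sylow 11 G) y) ≤ 14 := by
  have hs : IsSimpleGroup G := hG.1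
  have hcard : Nat.card G = 7920 := hG.2
  have := isPrime_eleven
  have := isPrime_five
  obtain ⟨e, c, he, he1, hc, hn, hs5⟩ := exists_data (G := G) (p := 5) (m := 1584)
    (by rw [hcard]) (by norm_num) (by norm_num) y hy
  obtain ⟨hd1, hd2, hd3, hd4⟩ := card_sylow_prop (G := G) (p := 5) (m := 1584)
    (by rw [hcard]) (by norm_num) (by norm_num)
  -- a Sylow 11-subgroup normalised by `y`
  obtain ⟨D, hD⟩ := exists_sylow_eq (G := G) (p := 5) (m := 1584) (by rw [hcard]) (by norm_num) y hy
  obtain ⟨x, hx⟩ := exists_prime_orderOf_dvd_card' (G := G) 11 (by rw [hcard]; norm_num)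
  obtain ⟨P, hP⟩ := exists_sylow_eq (G := G) (p := 11) (m := 720) (by rw [hcard]) (by norm_num) x hx
  obtain ⟨hcx, hnx, hsx⟩ := data_eleven hG hx
  have hPN : normalizer (P : Set G) = normalizer ((zpowers x : Subgroup G) : Set G) :=
    congrArg (fun K : Subgroup G => normalizer (K : Set G)) hP
  have hPC : centralizer (P : Set G) = centralizer ({x} : Set G) := by
    rw [← centralizer_zpowers_eq]
    exact congrArg (fun K : Subgroup G => centralizer (K : Set G)) hP
  obtain ⟨y0, hy0⟩ := exists_prime_orderOf_dvd_card'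
    (G := normalizer ((zpowers x : Subgroup G) : Set G)) 5 (by rw [hnx]; norm_num)
  obtain ⟨D0, hD0⟩ := exists_sylow_eq (G := G) (p := 5) (m := 1584) (by rw [hcard]) (by norm_num)
    (y0 : G) (by rw [orderOf_coe, hy0])
  obtain ⟨g, hg⟩ := exists_smul_eq G D0 D
  have hD0P : ∀ d ∈ D0, d • P = P := by
    intro d hd
    rw [Sylow.smul_eq_iff_mem_normalizer, hPN]
    have : d ∈ (D0 : Subgroup G) := hd
    rw [hD0] at this
    exact (zpowers_le.2 y0.2) this
  have hDP : ∀ d ∈ D, d • (g • P) = g • P := by
    intro d hd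
    have h1 : g⁻¹ * d * g ∈ D0 := by
      have h2 : d ∈ (g • D0 : Sylow 5 G) := by rw [hg]; exact hd
      have h3 : d ∈ ((g • D0 : Sylow 5 G) : Subgroup G) := h2
      rw [Sylow.coe_subgroup_smul, Subgroup.mem_pointwise_smul_iff_inv_smul_mem] at h3
      have h5 : g⁻¹ * d * g ∈ (D0 : Subgroup G) := by simpa [MulAut.smul_def] using h3
      exact h5
    have h4 := hD0P _ h1
    calc d • g • P = g • (g⁻¹ * d * g) • P := by simp [smul_smul, mul_assoc]
      _ = g • P := by rw [h4]
  set A : Sylow 11 G := g • P with hA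
  have hAc : Nat.card A = 11 := by
    have h1 : Nat.card (P : Subgroup G) = 11 := by rw [hP, Nat.card_zpowers, hx]
    rw [hA, Nat.card_congr (Sylow.equiv (g • P) P).toEquiv]
    exact h1
  have hyD : y ∈ D := by
    have : y ∈ (D : Subgroup G) := by rw [hD]; exact mem_zpowers y
    exact this
  have hyA : y • A = A := hDP y hyD
  have hyNA : y ∈ normalizer (A : Set G) := Sylow.smul_eq_iff_mem_normalizer.1 hyA
  -- an element of order 11 of `A`
  obtain ⟨a, ha⟩ := exists_prime_orderOf_dvd_card' (G := A) 11 (by rw [hAc])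
  have ha' : orderOf (a : G) = 11 := by rw [orderOf_coe, ha]
  have hAa : (A : Subgroup G) = zpowers (a : G) := by
    symm
    apply Subgroup.eq_of_le_of_card_ge
    · rw [zpowers_le]; exact a.2
    · rw [Nat.card_zpowers, ha']
      exact hAc.le
  obtain ⟨hca, hna, -⟩ := data_eleven hG ha'
  have hAN : normalizer (A : Set G) = normalizer ((zpowers (a : G) : Subgroup G) : Set G) :=
    congrArg (fun K : Subgroup G => normalizer (K : Set G)) hAa
  have hAC : centralizer (A : Set G) = centralizer ({(a : G)} : Set G) := by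
    rw [← centralizer_zpowers_eq]
    exact congrArg (fun K : Subgroup G => centralizer (K : Set G)) hAa
  have hyCA : y ∉ centralizer (A : Set G) := by
    intro h
    rw [hAC] at h
    have h1 := orderOf_dvd_natCard (⟨y, h⟩ : centralizer ({(a : G)} : Set G))
    rw [hca, Subgroup.orderOf_mk, hy] at h1
    norm_num at h1
  have hf := mul_card_fixedBy_le A hAc hyNA hyCA
  rw [hsx] at hf
  have hf14 : Nat.card (fixedBy (Sylow 11 G) y) ≤ 14 := by omega
  -- the orbit of `A` under `N(D)`
  have hinf : Nat.card (stabilizer (normalizer ((zpowers y : Subgroup G) : Set G)) A) = 5 := by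
    have h1 : Nat.card (stabilizer (normalizer ((zpowers y : Subgroup G) : Set G)) A) ∣ 55 := by
      rw [← hna, ← hAN]
      let F : stabilizer (normalizer ((zpowers y : Subgroup G) : Set G)) A →*
          normalizer (A : Set G) :=
        { toFun := fun h => ⟨((h : normalizer ((zpowers y : Subgroup G) : Set G)) : G), by
            have h2 : ((h : normalizer ((zpowers y : Subgroup G) : Set G)) : G) • A = A := h.2
            exact Sylow.smul_eq_iff_mem_normalizer.1 h2⟩
          map_one' := rfl
          map_mul' := fun _ _ => rfl }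
      apply card_dvd_of_injective F
      intro h1 h2 h12
      have h3 := congrArg Subtype.val h12
      exact Subtype.ext (Subtype.ext h3)
    have h2 : 5 ∣ Nat.card (stabilizer (normalizer ((zpowers y : Subgroup G) : Set G)) A) := by
      have h3 : y ∈ normalizer ((zpowers y : Subgroup G) : Set G) := le_normalizer (mem_zpowers y)
      let y' : stabilizer (normalizer ((zpowers y : Subgroup G) : Set G)) A := ⟨⟨y, h3⟩, hyA⟩
      have h4 := orderOf_dvd_natCard y'
      have h5 : orderOf y' = 5 := by
        rw [← hy, ← orderOf_coe, ← orderOf_coe]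
      rwa [h5] at h4
    have h3 : Nat.card (stabilizer (normalizer ((zpowers y : Subgroup G) : Set G)) A) = 5 ∨
        Nat.card (stabilizer (normalizer ((zpowers y : Subgroup G) : Set G)) A) = 55 := by
      obtain ⟨k, hk⟩ := h2
      rw [hk] at h1 ⊢
      have h4 : k ∣ 11 := by
        have : 5 * k ∣ 5 * 11 := h1
        exact Nat.dvd_of_mul_dvd_mul_left (by norm_num) this
      rcases (Nat.dvd_prime (by norm_num)).1 h4 with h | h
      · left; rw [h]
      · right; rw [h]
    rcases h3 with h | h
    · exact h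
    · exfalso
      obtain ⟨b, hb⟩ := exists_prime_orderOf_dvd_card'
        (G := stabilizer (normalizer ((zpowers y : Subgroup G) : Set G)) A) 11 (by rw [h]; norm_num)
      have hb1 : ((b : normalizer ((zpowers y : Subgroup G) : Set G)) : G) ∈
        normalizer ((zpowers y : Subgroup G) : Set G) :=
          (b : normalizer ((zpowers y : Subgroup G) : Set G)).2
      have hb2 : orderOf ((b : normalizer ((zpowers y : Subgroup G) : Set G)) : G) = 11 := by
        rw [orderOf_coe, orderOf_coe, hb]
      set b' : G := ((b : normalizer ((zpowers y : Subgroup G) : Set G)) : G) with hb'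
      obtain ⟨k, hk, hk2⟩ := exists_pow_of_mem_normalizer hy (by norm_num) hb1
      have h6 := conj_pow_pow hk2 11
      have h7 : b' ^ 11 = 1 := by rw [← hb2]; exact pow_orderOf_eq_one b'
      rw [h7] at h6
      have h8 : y ^ 1 = y ^ (k ^ 11) := by simpa using h6
      rw [pow_eq_pow_iff_modEq, hy] at h8
      have h9 : ∀ k < 5, 1 % 5 = k ^ 11 % 5 → k = 1 := by decide
      have h10 := h9 k hk h8
      rw [h10, pow_one] at hk2
      have h11 : y ∈ centralizer ({b'} : Set G) := by
        rw [mem_centralizer_singleton_iff]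
        exact (mul_inv_eq_iff_eq_mul.1 hk2).symm
      have h12 := orderOf_dvd_natCard (⟨y, h11⟩ : centralizer ({b'} : Set G))
      rw [card_centralizer_eleven hG hb2, Subgroup.orderOf_mk, hy] at h12
      norm_num at h12
  have horb : Nat.card (orbit (normalizer ((zpowers y : Subgroup G) : Set G)) A) * 5 =
      5 * c * e := by
    rw [← hn, ← hinf, ← Nat.card_prod]
    exact Nat.card_congr (orbitProdStabilizerEquivGroup _ A)
  have hle : Nat.card (orbit (normalizer ((zpowers y : Subgroup G) : Set G)) A) ≤
      Nat.card (fixedBy (Sylow 11 G) y) := by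
    apply Nat.card_mono (Set.toFinite _)
    rintro _ ⟨⟨h, hh⟩, rfl⟩
    show y • h • A = h • A
    have h1 : h⁻¹ * y * h ∈ D := by
      have h2 : h⁻¹ * y * h ∈ zpowers y := by
        have := (mem_normalizer_iff.1 ((normalizer _).inv_mem hh) y).1 (mem_zpowers y)
        simpa using this
      rw [← hD] at h2
      exact h2
    have h4 := hDP _ h1
    calc y • h • A = h • (h⁻¹ * y * h) • A := by simp [smul_smul, mul_assoc]
      _ = h • A := by rw [h4]
  have hm : c * e ≤ 14 := by
    have : Nat.card (orbit (normalizer ((zpowers y : Subgroup G) : Set G)) A) = c * e := by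
      have h1 : Nat.card (orbit (normalizer ((zpowers y : Subgroup G) : Set G)) A) * 5 =
        (c * e) * 5 := by rw [horb]; ring
      exact Nat.eq_of_mul_eq_mul_right (by norm_num) h1
    omega
  have he' : e = 1 ∨ e = 2 ∨ e = 4 := by
    have h1 : e ∈ Nat.divisors 4 := Nat.mem_divisors.2 ⟨he, by norm_num⟩
    have h2 : Nat.divisors 4 = {1, 2, 4} := by decide +kernel
    rw [h2] at h1
    simpa using h1
  have hce : c * e = 4 := by
    have h1 : c * e ∣ 1584 := ⟨Nat.card (Sylow 5 G), by rw [mul_comm]; exact hs5.symm⟩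
    have h2 : ∀ k ≤ 14, ∀ e : Fin 5, (e.val = 2 ∨ e.val = 4) → k ∣ 1584 → e.val ∣ k →
        (1584 / k) % 5 = 1 → k = 4 := by decide +kernel
    have h3 : (1584 / (c * e)) % 5 = 1 := by
      have h4 : 1584 / (c * e) = Nat.card (Sylow 5 G) := by
        have h5 : 0 < c * e := by
          rcases Nat.eq_zero_or_pos (c * e) with h | h
          · rw [h] at hs5; omega
          · exact h
        rw [← hs5]
        exact Nat.mul_div_cancel _ h5
      rw [h4]
      exact hd2
    exact h2 (c * e) hm ⟨e, by omega⟩ (by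
      rcases he' with h | h | h
      · exact absurd h he1
      · exact Or.inl h
      · exact Or.inr h) h1 (Dvd.intro_left c rfl) h3
  refine ⟨?_, ?_, ?_, hf14⟩
  · rw [hc]
    rcases he' with h | h | h
    · exact absurd h he1
    · subst h; right; omega
    · subst h; left; omega
  · rw [hn, mul_assoc, hce]; norm_num
  · rw [hce] at hs5
    omega

/-- The five part, assuming that no involution commutes with an element of order 5. -/
theorem five_part (hG : Cfsg.IsM11 G)
    (h2 : ∀ u : G, orderOf u = 2 → ¬ 5 ∣ Nat.card (Subgroup.centralizer ({u} : Set G)))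
    {y : G} (hy : orderOf y = 5) :
    Nat.card (Subgroup.centralizer ({y} : Set G)) = 5 ∧ IsConj y (y ^ 2) := by
  obtain ⟨hc, hn, -, -⟩ := data_five hG hy
  have hc5 : Nat.card (Subgroup.centralizer ({y} : Set G)) = 5 := by
    rcases hc with h | h
    · exact h
    · exfalso
      have := isPrime_two
      obtain ⟨u, hu⟩ := exists_prime_orderOf_dvd_card' (G := centralizer ({y} : Set G)) 2
        (by rw [h]; norm_num)
      apply h2 (u : G) (by rw [orderOf_coe, hu])
      have h3 : y ∈ centralizer ({(u : G)} : Set G) := by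
        rw [mem_centralizer_singleton_iff]
        exact ((mem_centralizer_singleton_iff).1 u.2).symm
      have h4 := orderOf_dvd_natCard (⟨y, h3⟩ : centralizer ({(u : G)} : Set G))
      rwa [Subgroup.orderOf_mk, hy] at h4
  refine ⟨hc5, ?_⟩
  exact isConj_sq_of hc5 hn hy

end

end Cfsg.Agent.SporadicA.M11Sylow
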